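import Mathlib

/-!
# S1778, types `G2(q)` and `3D4(q)`, `q = 2^a ≥ 4`: the growth (2)-(7) (interfaces)

Everything is written with the twelve root subgroups `X r`, `r : ZMod 12` (even = long, odd = short), a torus `T`, the
Weyl elements `n k` (`n k` maps `X r` to `X (2 k + 6 - r)`) and an involution `t` commuting with all of them, in a finite group
`G` (`G` is `N(O)/O` of the application, `O` the odd part of `C(A) ∩ C(t)`, so no cores).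

* `Env` : the frame, the torus weights in abstract form, and the facts on `C(t)`;
* `Long` : the doubled long root groups (output of step (2));
* `Grown` : the output of the growth.
-/

set_option autoImplicit false

namespace Cfsg.Agent.HexGrow.Defs

open scoped commutatorElement

/-- even indices = long roots -/
def Ev (r : ZMod 12) : Prop := r.val % 2 = 0

instance (r : ZMod 12) : Decidable (Ev r) := by unfold Ev; infer_instance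

/-- `s` is at distance at most three from `r` -/
def Near (r s : ZMod 12) : Prop :=
  s - r = 0 ∨ s - r = 1 ∨ s - r = 2 ∨ s - r = 3 ∨ s - r = 11 ∨ s - r = 10 ∨ s - r = 9

instance (r s : ZMod 12) : Decidable (Near r s) := by unfold Near; infer_instance

variable {G : Type*} [Group G]

/-- `h` centralises `A` -/
def Cen (h : G) (A : Subgroup G) : Prop := ∀ a ∈ A, h * a * h⁻¹ = a

/-- `h` has no fixed points on `A` -/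
def Fpf (h : G) (A : Subgroup G) : Prop := ∀ a ∈ A, h * a * h⁻¹ = a → a = 1

/-- `X (r-2) … X (r+2)`: for `r` even the radical `Q1` with centre `X r`, for `r` odd the radical `Q2` with centre
`X (r-1) X (r+1)`. -/
def QQ (X : ZMod 12 → Subgroup G) (r : ZMod 12) : Subgroup G :=
  X (r - 2) ⊔ X (r - 1) ⊔ X r ⊔ X (r + 1) ⊔ X (r + 2)

/-- `X r … X (r+5)` -/
def UU (X : ZMod 12 → Subgroup G) (r : ZMod 12) : Subgroup G :=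
  X r ⊔ X (r + 1) ⊔ X (r + 2) ⊔ X (r + 3) ⊔ X (r + 4) ⊔ X (r + 5)

/-- The environment. -/
structure Env (t : G) (T : Subgroup G) (X : ZMod 12 → Subgroup G) (n : ZMod 12 → G) : Prop where
  -- the involution
  tt : t * t = 1
  tX : ∀ r, ∀ a ∈ X r, a * t = t * a
  tT : ∀ h ∈ T, h * t = t * h
  tn : ∀ k, n k * t = t * n k
  tnot : t ∉ ⨆ r, X r
  -- root groups, torus, Weyl elements
  sq : ∀ r, ∀ a ∈ X r, a * a = 1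
  ne : ∀ r, ∃ a ∈ X r, a ≠ 1
  Tab : ∀ h ∈ T, ∀ h' ∈ T, h * h' = h' * h
  Todd : ∀ h ∈ T, Odd (orderOf h)
  TX : ∀ h ∈ T, ∀ r, ∀ a ∈ X r, h * a * h⁻¹ ∈ X r
  nX : ∀ k r, ∀ a ∈ X r, n k * a * (n k)⁻¹ ∈ X (2 * k + 6 - r)
  nT : ∀ k, ∀ h ∈ T, n k * h * (n k)⁻¹ ∈ T
  ngen : ∀ k, n k ∈ X k ⊔ X (k + 6)
  -- commutators: 30 and 90 degrees
  c1 : ∀ r, ∀ a ∈ X r, ∀ b ∈ X (r + 1), a * b = b * a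
  c3 : ∀ r, ∀ a ∈ X r, ∀ b ∈ X (r + 3), a * b = b * a
  -- long, long: 60 and 120 degrees
  l2 : ∀ r, Ev r → ∀ a ∈ X r, ∀ b ∈ X (r + 2), a * b = b * a
  l4 : ∀ r, Ev r → ∀ a ∈ X r, ∀ b ∈ X (r + 4), ⁅a, b⁆ ∈ X (r + 2)
  l4n : ∀ r, Ev r → ∀ a ∈ X r, ∀ b ∈ X (r + 4), a ≠ 1 → b ≠ 1 → a * b ≠ b * a
  -- short, short: 60 and 120 degrees
  s2 : ∀ r, ¬ Ev r → ∀ a ∈ X r, ∀ b ∈ X (r + 2), ⁅a, b⁆ ∈ X (r + 1)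
  s4 : ∀ r, ¬ Ev r → ∀ a ∈ X r, ∀ b ∈ X (r + 4), ⁅a, b⁆ ∈ X (r + 1) ⊔ X (r + 2) ⊔ X (r + 3)
  -- 150 degrees
  c5 : ∀ r, ∀ a ∈ X r, ∀ b ∈ X (r + 5), ⁅a, b⁆ ∈ X (r + 1) ⊔ X (r + 2) ⊔ X (r + 3) ⊔ X (r + 4)
  /-- unique normal form in the positive part -/
  dis : ∀ r, ∀ a ∈ X r, a ∈ X (r + 1) ⊔ X (r + 2) ⊔ X (r + 3) ⊔ X (r + 4) ⊔ X (r + 5) → a = 1
  gen : ∀ s, ¬ Ev s → ∀ Y : Subgroup G, X (s - 1) ≤ Y → X (s + 1) ≤ Y →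
    (∀ a ∈ X (s - 2), ∀ b ∈ X (s + 3), ⁅a, b⁆ ∈ Y) → X s ≤ Y
  -- torus weights
  ttr : ∀ r, ∀ a ∈ X r, ∀ b ∈ X r, a ≠ 1 → b ≠ 1 → ∃ h ∈ T, h * a * h⁻¹ = b
  tfp : ∀ r, ∃ h ∈ T, Fpf h (X r)
  tod : ∀ s, ¬ Ev s → ∃ h ∈ T, Cen h (X s) ∧ (∀ r, r ≠ s → r ≠ s + 6 → Fpf h (X r)) ∧
    (∀ q ∈ QQ X s, h * q * h⁻¹ = q → q ∈ X s) ∧ (∀ q ∈ QQ X (s + 1), h * q * h⁻¹ = q → q ∈ X s) ∧
    (∀ q ∈ QQ X (s - 1), h * q * h⁻¹ = q → q ∈ X s)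
  tev : ∀ r, Ev r → ∃ h ∈ T, Cen h (X r) ∧ ∀ s, ¬ Ev s → Fpf h (X s)
  nh1 : ∀ s, ¬ Ev s → ∀ g : G → G, (∀ a ∈ X s, g a ∈ X (s + 1)) →
    (∀ a ∈ X s, ∀ b ∈ X s, g (a * b) = g a * g b) →
    (∀ h ∈ T, Cen h (X (s - 1)) → ∀ a ∈ X s, g (h * a * h⁻¹) = h * g a * h⁻¹) → ∀ a ∈ X s, g a = 1
  nh2 : ∀ s, ¬ Ev s → ∀ g : G → G, (∀ a ∈ X s, g a ∈ X (s + 1)) →
    (∀ a ∈ X s, ∀ b ∈ X s, g (a * b) = g a * g b) →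
    (∀ h ∈ T, Cen h (X (s + 3)) → ∀ a ∈ X s, g (h * a * h⁻¹) = h * g a * h⁻¹) → ∀ a ∈ X s, g a = 1
  -- facts on `C(t)`
  /-- elements of `C(t)` trivial on `W` and on `X s` modulo `W` lie in `⟨t⟩ Q2` -/
  cW : ∀ s, ¬ Ev s → ∀ c, c * t = t * c → (∀ a ∈ X (s - 1), c * a = a * c) → (∀ a ∈ X (s + 1), c * a = a * c) →
    (∀ a ∈ X s, ⁅c, a⁆ ∈ X (s - 1) ⊔ X (s + 1)) → c ∈ QQ X s ∨ t * c ∈ QQ X s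
  /-- `C_{C(t)}(Q2) = ⟨t⟩ W` -/
  cQ2 : ∀ s, ¬ Ev s → ∀ c, c * t = t * c → (∀ a ∈ QQ X s, c * a = a * c) →
    c ∈ X (s - 1) ⊔ X (s + 1) ∨ t * c ∈ X (s - 1) ⊔ X (s + 1)
  /-- elements of `C(t)` trivial on `Z` and on `Q1 / Z` lie in `⟨t⟩ Q1` -/
  cQ1 : ∀ r, Ev r → ∀ c, c * t = t * c → (∀ a ∈ X r, c * a = a * c) → (∀ a ∈ QQ X r, ⁅c, a⁆ ∈ X r) →
    c ∈ QQ X r ∨ t * c ∈ QQ X r
  /-- `C_{C(t)}(Q1) = ⟨t⟩ Z` -/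
  cQ1' : ∀ r, Ev r → ∀ c, c * t = t * c → (∀ a ∈ QQ X r, c * a = a * c) → c ∈ X r ∨ t * c ∈ X r
  /-- elements of `C(t)` trivial on the factors of `Z < W < X2X3X4 < X2X3X4X5` lie in `⟨t⟩ U` (written for `r = 4`) -/
  cU : ∀ r, Ev r → ∀ c, c * t = t * c →
    (∀ a ∈ X r, c * a = a * c) → (∀ a ∈ X (r - 2), ⁅c, a⁆ ∈ X r) →
    (∀ a ∈ X (r - 1), ⁅c, a⁆ ∈ X (r - 2) ⊔ X r) → (∀ a ∈ X (r + 1), ⁅c, a⁆ ∈ X (r - 2) ⊔ X (r - 1) ⊔ X r) →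
    c ∈ UU X (r - 3) ∨ t * c ∈ UU X (r - 3)

/-- The doubled long root groups (output of step (2)). -/
structure Long (t : G) (T : Subgroup G) (X : ZMod 12 → Subgroup G) (n : ZMod 12 → G)
    (V : ZMod 12 → Subgroup G) : Prop where
  le : ∀ r, Ev r → X r ≤ V r
  ab : ∀ r, Ev r → ∀ y ∈ V r, ∀ y' ∈ V r, y * y' = y' * y
  br : ∀ r, Ev r → ∀ y ∈ V r, ⁅t, y⁆ ∈ X r
  onto : ∀ r, Ev r → ∀ a ∈ X r, ∃ y ∈ V r, ⁅t, y⁆ = a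
  fix : ∀ r, Ev r → ∀ y ∈ V r, y * t = t * y → y ∈ X r
  near : ∀ r s, Ev r → Near r s → ∀ y ∈ V r, ∀ a ∈ X s, y * a = a * y
  TV : ∀ h ∈ T, ∀ r, Ev r → ∀ y ∈ V r, h * y * h⁻¹ ∈ V r
  nV : ∀ k r, Ev r → ∀ y ∈ V r, n k * y * (n k)⁻¹ ∈ V (2 * k + 6 - r)

/-- The output of the growth: twelve doubled root groups. -/
structure Grown (t : G) (T : Subgroup G) (X : ZMod 12 → Subgroup G) (n : ZMod 12 → G)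
    (V : ZMod 12 → Subgroup G) : Prop where
  le : ∀ r, X r ≤ V r
  sq : ∀ r, ∀ y ∈ V r, y * y = 1
  br : ∀ r, ∀ y ∈ V r, ⁅t, y⁆ ∈ X r
  onto : ∀ r, ∀ a ∈ X r, ∃ y ∈ V r, ⁅t, y⁆ = a
  fix : ∀ r, ∀ y ∈ V r, y * t = t * y → y ∈ X r
  TV : ∀ h ∈ T, ∀ r, ∀ y ∈ V r, h * y * h⁻¹ ∈ V r
  nV : ∀ k r, ∀ y ∈ V r, n k * y * (n k)⁻¹ ∈ V (2 * k + 6 - r)
  cen : ∀ h ∈ T, ∀ r, Cen h (X r) → Cen h (V r)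
  fpf : ∀ h ∈ T, ∀ r, Fpf h (X r) → Fpf h (V r)
  c1 : ∀ r, ∀ a ∈ V r, ∀ b ∈ V (r + 1), a * b = b * a
  c3 : ∀ r, ∀ a ∈ V r, ∀ b ∈ V (r + 3), a * b = b * a
  l2 : ∀ r, Ev r → ∀ a ∈ V r, ∀ b ∈ V (r + 2), a * b = b * a
  l4 : ∀ r, Ev r → ∀ a ∈ V r, ∀ b ∈ V (r + 4), ⁅a, b⁆ ∈ V (r + 2)
  s2 : ∀ r, ¬ Ev r → ∀ a ∈ V r, ∀ b ∈ V (r + 2), ⁅a, b⁆ ∈ V (r + 1)
  s4 : ∀ r, ¬ Ev r → ∀ a ∈ V r, ∀ b ∈ V (r + 4), ⁅a, b⁆ ∈ V (r + 1) ⊔ V (r + 2) ⊔ V (r + 3)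
  c5 : ∀ r, ∀ a ∈ V r, ∀ b ∈ V (r + 5), ⁅a, b⁆ ∈ V (r + 1) ⊔ V (r + 2) ⊔ V (r + 3) ⊔ V (r + 4)
  /-- unique normal form -/
  nf : ∀ r, ∀ a₁ ∈ V r, ∀ a₂ ∈ V (r + 1), ∀ a₃ ∈ V (r + 2), ∀ a₄ ∈ V (r + 3), ∀ a₅ ∈ V (r + 4), ∀ a₆ ∈ V (r + 5),
    ∀ b₁ ∈ V r, ∀ b₂ ∈ V (r + 1), ∀ b₃ ∈ V (r + 2), ∀ b₄ ∈ V (r + 3), ∀ b₅ ∈ V (r + 4), ∀ b₆ ∈ V (r + 5),
    a₁ * a₂ * a₃ * a₄ * a₅ * a₆ = b₁ * b₂ * b₃ * b₄ * b₅ * b₆ →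
    a₁ = b₁ ∧ a₂ = b₂ ∧ a₃ = b₃ ∧ a₄ = b₄ ∧ a₅ = b₅ ∧ a₆ = b₆
  mem : ∀ r, ∀ g ∈ UU V r, ∃ a₁ ∈ V r, ∃ a₂ ∈ V (r + 1), ∃ a₃ ∈ V (r + 2), ∃ a₄ ∈ V (r + 3), ∃ a₅ ∈ V (r + 4),
    ∃ a₆ ∈ V (r + 5), g = a₁ * a₂ * a₃ * a₄ * a₅ * a₆
  /-- all involutions of `t Ŝ` are conjugate to `t` under `Ŝ` -/
  good : ∀ r, ∀ m ∈ UU V r, (t * m) * (t * m) = 1 → ∃ g ∈ UU V r, g * t * g⁻¹ = t * m
  cent : ∀ r, ∀ m ∈ UU V r, m * t = t * m → m ∈ UU X r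

end Cfsg.Agent.HexGrow.Defs
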