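import Cfsg.Agent.HexGrow.Defs

/-!
# Growth for `G2(q)`, `3D4(q)`: rotation of the frame, elementary tools
-/

set_option autoImplicit false

namespace Cfsg.Agent.HexGrow.Basic

open Cfsg.Agent.HexGrow.Defs
open scoped commutatorElement

variable {G : Type*} [Group G] {t : G} {T : Subgroup G} {X : ZMod 12 → Subgroup G} {n : ZMod 12 → G}
  {V : ZMod 12 → Subgroup G}

theorem ev_add {r c : ZMod 12} (hr : Ev r) (hc : Ev c) : Ev (r + c) := by
  revert r c; decide

theorem not_ev_add {r c : ZMod 12} (hr : ¬ Ev r) (hc : Ev c) : ¬ Ev (r + c) := by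
  revert r c; decide

/-- the rotated frame -/
def sh {α : Type*} (c : ZMod 12) (X : ZMod 12 → α) : ZMod 12 → α := fun r => X (r + c)

theorem QQ_sh (X : ZMod 12 → Subgroup G) (c r : ZMod 12) : QQ (sh c X) r = QQ X (r + c) := by
  unfold QQ sh
  rw [show r - 2 + c = r + c - 2 by ring, show r - 1 + c = r + c - 1 by ring, show r + 1 + c = r + c + 1 by ring,
    show r + 2 + c = r + c + 2 by ring]

theorem UU_sh (X : ZMod 12 → Subgroup G) (c r : ZMod 12) : UU (sh c X) r = UU X (r + c) := by
  unfold UU sh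
  rw [show r + 1 + c = r + c + 1 by ring, show r + 2 + c = r + c + 2 by ring, show r + 3 + c = r + c + 3 by ring,
    show r + 4 + c = r + c + 4 by ring, show r + 5 + c = r + c + 5 by ring]

theorem iSup_sh (X : ZMod 12 → Subgroup G) (c : ZMod 12) : ⨆ r, sh c X r = ⨆ r, X r := by
  apply le_antisymm
  · exact iSup_le fun r => le_iSup X (r + c)
  · refine iSup_le fun r => ?_
    have := le_iSup (sh c X) (r - c)
    unfold sh at this ⊢
    simpa using this

theorem env_sh (E : Env t T X n) {c : ZMod 12} (hc : Ev c) : Env t T (sh c X) (sh c n) where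
  tt := E.tt
  tX r := E.tX (r + c)
  tT := E.tT
  tn k := E.tn (k + c)
  tnot := by rw [iSup_sh]; exact E.tnot
  sq r := E.sq (r + c)
  ne r := E.ne (r + c)
  Tab := E.Tab
  Todd := E.Todd
  TX h hh r := E.TX h hh (r + c)
  nX k r a ha := by
    have := E.nX (k + c) (r + c) a ha
    unfold sh
    rwa [show 2 * k + 6 - r + c = 2 * (k + c) + 6 - (r + c) by ring]
  nT k := E.nT (k + c)
  ngen k := by
    have := E.ngen (k + c)
    unfold sh
    rwa [show k + 6 + c = k + c + 6 by ring]
  c1 r a ha b hb := by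
    unfold sh at hb
    rw [show r + 1 + c = r + c + 1 by ring] at hb
    exact E.c1 _ a ha b hb
  c3 r a ha b hb := by
    unfold sh at hb
    rw [show r + 3 + c = r + c + 3 by ring] at hb
    exact E.c3 _ a ha b hb
  l2 r hr a ha b hb := by
    unfold sh at hb
    rw [show r + 2 + c = r + c + 2 by ring] at hb
    exact E.l2 _ (ev_add hr hc) a ha b hb
  l4 r hr a ha b hb := by
    unfold sh at hb ⊢
    rw [show r + 4 + c = r + c + 4 by ring] at hb
    rw [show r + 2 + c = r + c + 2 by ring]
    exact E.l4 _ (ev_add hr hc) a ha b hb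
  l4n r hr a ha b hb := by
    unfold sh at hb
    rw [show r + 4 + c = r + c + 4 by ring] at hb
    exact E.l4n _ (ev_add hr hc) a ha b hb
  s2 r hr a ha b hb := by
    unfold sh at hb ⊢
    rw [show r + 2 + c = r + c + 2 by ring] at hb
    rw [show r + 1 + c = r + c + 1 by ring]
    exact E.s2 _ (not_ev_add hr hc) a ha b hb
  s4 r hr a ha b hb := by
    unfold sh at hb ⊢
    rw [show r + 4 + c = r + c + 4 by ring] at hb
    rw [show r + 1 + c = r + c + 1 by ring, show r + 2 + c = r + c + 2 by ring, show r + 3 + c = r + c + 3 by ring]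
    exact E.s4 _ (not_ev_add hr hc) a ha b hb
  c5 r a ha b hb := by
    unfold sh at hb ⊢
    rw [show r + 5 + c = r + c + 5 by ring] at hb
    rw [show r + 1 + c = r + c + 1 by ring, show r + 2 + c = r + c + 2 by ring, show r + 3 + c = r + c + 3 by ring,
      show r + 4 + c = r + c + 4 by ring]
    exact E.c5 _ a ha b hb
  dis r a ha h := by
    unfold sh at h
    rw [show r + 1 + c = r + c + 1 by ring, show r + 2 + c = r + c + 2 by ring, show r + 3 + c = r + c + 3 by ring,
      show r + 4 + c = r + c + 4 by ring, show r + 5 + c = r + c + 5 by ring] at h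
    exact E.dis _ a ha h
  gen s hs Y h1 h2 h3 := by
    unfold sh at *
    rw [show s - 1 + c = s + c - 1 by ring] at h1
    rw [show s + 1 + c = s + c + 1 by ring] at h2
    rw [show s - 2 + c = s + c - 2 by ring, show s + 3 + c = s + c + 3 by ring] at h3
    exact E.gen _ (not_ev_add hs hc) Y h1 h2 h3
  ttr r := E.ttr (r + c)
  tfp r := E.tfp (r + c)
  tod s hs := by
    obtain ⟨h, hT, h1, h2, h3, h4, h5⟩ := E.tod (s + c) (not_ev_add hs hc)
    refine ⟨h, hT, h1, fun r hr hr' => h2 _ ?_ ?_, ?_, ?_, ?_⟩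
    · exact fun e => hr (add_right_cancel e)
    · exact fun e => hr' (add_right_cancel (e.trans (by ring)))
    · rw [QQ_sh]; exact h3
    · rw [QQ_sh, show s + 1 + c = s + c + 1 by ring]; exact h4
    · rw [QQ_sh, show s - 1 + c = s + c - 1 by ring]; exact h5
  tev r hr := by
    obtain ⟨h, hT, h1, h2⟩ := E.tev (r + c) (ev_add hr hc)
    exact ⟨h, hT, h1, fun s hs => h2 _ (not_ev_add hs hc)⟩
  nh1 s hs g h1 h2 h3 := by
    unfold sh at *
    rw [show s + 1 + c = s + c + 1 by ring] at h1
    rw [show s - 1 + c = s + c - 1 by ring] at h3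
    exact E.nh1 _ (not_ev_add hs hc) g h1 h2 h3
  nh2 s hs g h1 h2 h3 := by
    unfold sh at *
    rw [show s + 1 + c = s + c + 1 by ring] at h1
    rw [show s + 3 + c = s + c + 3 by ring] at h3
    exact E.nh2 _ (not_ev_add hs hc) g h1 h2 h3
  cW s hs g hg h1 h2 h3 := by
    unfold sh at h1 h2 h3
    rw [show s - 1 + c = s + c - 1 by ring] at h1 h3
    rw [show s + 1 + c = s + c + 1 by ring] at h2 h3
    rw [QQ_sh]
    exact E.cW _ (not_ev_add hs hc) g hg h1 h2 h3
  cQ2 s hs g hg h1 := by
    rw [QQ_sh] at h1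
    unfold sh
    rw [show s - 1 + c = s + c - 1 by ring, show s + 1 + c = s + c + 1 by ring]
    exact E.cQ2 _ (not_ev_add hs hc) g hg h1
  cQ1 r hr g hg h1 h2 := by
    rw [QQ_sh] at h2 ⊢
    exact E.cQ1 _ (ev_add hr hc) g hg h1 h2
  cQ1' r hr g hg h1 := by
    rw [QQ_sh] at h1
    exact E.cQ1' _ (ev_add hr hc) g hg h1
  cU r hr g hg h1 h2 h3 h4 := by
    unfold sh at h1 h2 h3 h4
    rw [show r - 2 + c = r + c - 2 by ring] at h2 h3 h4
    rw [show r - 1 + c = r + c - 1 by ring] at h3 h4
    rw [show r + 1 + c = r + c + 1 by ring] at h4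
    rw [UU_sh, show r - 3 + c = r + c - 3 by ring]
    exact E.cU _ (ev_add hr hc) g hg h1 h2 h3 h4

theorem near_sh {r s c : ZMod 12} (h : Near r s) : Near (r + c) (s + c) := by
  unfold Near at *
  rwa [add_sub_add_right_eq_sub]

theorem long_sh (L : Long t T X n V) {c : ZMod 12} (hc : Ev c) : Long t T (sh c X) (sh c n) (sh c V) where
  le r hr := L.le _ (ev_add hr hc)
  ab r hr := L.ab _ (ev_add hr hc)
  br r hr := L.br _ (ev_add hr hc)
  onto r hr := L.onto _ (ev_add hr hc)
  fix r hr := L.fix _ (ev_add hr hc)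
  near r s hr hn := L.near _ _ (ev_add hr hc) (near_sh hn)
  TV h hh r hr := L.TV h hh _ (ev_add hr hc)
  nV k r hr y hy := by
    have := L.nV (k + c) (r + c) (ev_add hr hc) y hy
    unfold sh
    rwa [show 2 * k + 6 - r + c = 2 * (k + c) + 6 - (r + c) by ring]

end Cfsg.Agent.HexGrow.Basic
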