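import Cfsg.Agent.HexGrow.Level

/-!
# Growth for `G2(q)`, `3D4(q)`, `q ≥ 4`: the final theorem `Env → Long → Grown`
-/

set_option autoImplicit false

namespace Cfsg.Agent.HexGrow.Grow

open Cfsg.Agent.HexGrow.Defs Cfsg.Agent.HexGrow.Basic Cfsg.Agent.HexGrow.Tools Cfsg.Agent.HexGrow.LongTwo
  Cfsg.Agent.HexGrow.QOne Cfsg.Agent.HexGrow.Short Cfsg.Agent.HexGrow.Short2 Cfsg.Agent.HexGrow.Tower
  Cfsg.Agent.HexGrow.Pair Cfsg.Agent.HexGrow.Mid Cfsg.Agent.HexGrow.Level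
open scoped commutatorElement

variable {G : Type*} [Group G] {t : G} {T : Subgroup G} {X : ZMod 12 → Subgroup G} {n : ZMod 12 → G}
  {V : ZMod 12 → Subgroup G}

theorem mid_sh (M : Mid t T X n V) {c : ZMod 12} (hc : Ev c) : Mid t T (sh c X) (sh c n) (sh c V) where
  dbl r := M.dbl _
  TV h hh r := M.TV h hh _
  nV k r y hy := by
    have := M.nV (k + c) (r + c) y hy
    unfold sh
    rwa [show 2 * k + 6 - r + c = 2 * (k + c) + 6 - (r + c) by ring]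
  c1 r a ha b hb := by
    unfold sh at hb
    rw [show r + 1 + c = r + c + 1 by ring] at hb
    exact M.c1 _ a ha b hb
  c3 r a ha b hb := by
    unfold sh at hb
    rw [show r + 3 + c = r + c + 3 by ring] at hb
    exact M.c3 _ a ha b hb
  l2 r hr a ha b hb := by
    unfold sh at hb
    rw [show r + 2 + c = r + c + 2 by ring] at hb
    exact M.l2 _ (ev_add hr hc) a ha b hb
  l4 r hr a ha b hb := by
    unfold sh at hb ⊢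
    rw [show r + 4 + c = r + c + 4 by ring] at hb
    rw [show r + 2 + c = r + c + 2 by ring]
    exact M.l4 _ (ev_add hr hc) a ha b hb
  s2 r hr a ha b hb := by
    unfold sh at hb ⊢
    rw [show r + 2 + c = r + c + 2 by ring] at hb
    rw [show r + 1 + c = r + c + 1 by ring]
    exact M.s2 _ (not_ev_add hr hc) a ha b hb

/-- five joins of the descending chain -/
def C2 (V : ZMod 12 → Subgroup G) (r : ZMod 12) : Subgroup G := V (r + 5) ⊔ V (r + 4) ⊔ V (r + 3) ⊔ V (r + 2) ⊔ V (r + 1)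

/-- statements about an arc of six consecutive doubled root groups -/
structure Arc (t : G) (X V : ZMod 12 → Subgroup G) (r : ZMod 12) : Prop where
  c5 : ∀ a ∈ V r, ∀ b ∈ V (r + 5), ⁅a, b⁆ ∈ V (r + 1) ⊔ V (r + 2) ⊔ V (r + 3) ⊔ V (r + 4)
  nf : ∀ a₁ ∈ V r, ∀ a₂ ∈ V (r + 1), ∀ a₃ ∈ V (r + 2), ∀ a₄ ∈ V (r + 3), ∀ a₅ ∈ V (r + 4), ∀ a₆ ∈ V (r + 5),
    ∀ b₁ ∈ V r, ∀ b₂ ∈ V (r + 1), ∀ b₃ ∈ V (r + 2), ∀ b₄ ∈ V (r + 3), ∀ b₅ ∈ V (r + 4), ∀ b₆ ∈ V (r + 5),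
    a₁ * a₂ * a₃ * a₄ * a₅ * a₆ = b₁ * b₂ * b₃ * b₄ * b₅ * b₆ →
    a₁ = b₁ ∧ a₂ = b₂ ∧ a₃ = b₃ ∧ a₄ = b₄ ∧ a₅ = b₅ ∧ a₆ = b₆
  mem : ∀ g ∈ UU V r, ∃ a₁ ∈ V r, ∃ a₂ ∈ V (r + 1), ∃ a₃ ∈ V (r + 2), ∃ a₄ ∈ V (r + 3), ∃ a₅ ∈ V (r + 4),
    ∃ a₆ ∈ V (r + 5), g = a₁ * a₂ * a₃ * a₄ * a₅ * a₆
  good : ∀ m ∈ UU V r, (t * m) * (t * m) = 1 → ∃ g ∈ UU V r, g * t * g⁻¹ = t * m
  cent : ∀ m ∈ UU V r, m * t = t * m → m ∈ UU X r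

theorem mem_sup_swap {A B : Subgroup G} (h : ∀ b ∈ B, ∀ a ∈ A, b * a * b⁻¹ ∈ A) {g : G} (hg : g ∈ A ⊔ B) :
    ∃ b ∈ B, ∃ a ∈ A, g = b * a := by
  obtain ⟨a, ha, b, hb, e⟩ := mem_sup_of_norm h (inv_mem hg)
  exact ⟨b⁻¹, inv_mem hb, a⁻¹, inv_mem ha, by rw [← mul_inv_rev, e, inv_inv]⟩

/-- splitting off the first factor -/
theorem split_first {A B : Subgroup G} (hd : ∀ v ∈ B, v ∈ A → v = 1) {b b' a a' : G} (hb : b ∈ B) (hb' : b' ∈ B)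
    (ha : a ∈ A) (ha' : a' ∈ A) (e : b * a = b' * a') : b = b' ∧ a = a' := by
  have h1 : b'⁻¹ * b = a' * a⁻¹ := by
    calc b'⁻¹ * b = b'⁻¹ * (b * a) * a⁻¹ := by group
      _ = b'⁻¹ * (b' * a') * a⁻¹ := by rw [e]
      _ = _ := by group
  have h2 : b'⁻¹ * b = 1 := hd _ (mul_mem (inv_mem hb') hb) (by rw [h1]; exact mul_mem ha' (inv_mem ha))
  have h3 : b = b' := (inv_mul_eq_one.mp h2).symm
  refine ⟨h3, ?_⟩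
  rw [h3] at e
  exact mul_left_cancel e

section Base

variable [Finite G]

theorem n5 (M : Mid t T X n V) : ∀ v ∈ V 5, ∀ m ∈ V 6, v * m * v⁻¹ ∈ V 6 := fun v hv m hm =>
  conj_mem_of_commute (M.c1 5 v hv m hm) hm

theorem n4 (M : Mid t T X n V) : ∀ v ∈ V 4, ∀ m ∈ V 6 ⊔ V 5, v * m * v⁻¹ ∈ V 6 ⊔ V 5 := fun v hv =>
  conj_sup (fun m hm => conj_mem_of_commute (M.l2 4 (by decide) v hv m hm) (le_sup_left (b := V 5) hm))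
    (fun m hm => conj_mem_of_commute (M.c1 4 v hv m hm) (le_sup_right (a := V 6) hm))

theorem n3 (M : Mid t T X n V) : ∀ v ∈ V 3, ∀ m ∈ V 6 ⊔ V 5 ⊔ V 4, v * m * v⁻¹ ∈ V 6 ⊔ V 5 ⊔ V 4 := fun v hv =>
  conj_sup (conj_sup
    (fun m hm => conj_mem_of_commute (M.c3 3 v hv m hm) (le_sup_of_le_left (le_sup_left (b := V 5)) hm))
    (fun m hm => conj_mem_of_comm (le_sup_right (a := V 6 ⊔ V 5) (M.s2 3 (by decide) v hv m hm))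
      (le_sup_of_le_left (le_sup_right (a := V 6)) hm)))
    (fun m hm => conj_mem_of_commute (M.c1 3 v hv m hm) (le_sup_right (a := V 6 ⊔ V 5) hm))

theorem le4 (V : ZMod 12 → Subgroup G) : V 6 ≤ V 6 ⊔ V 5 ⊔ V 4 ⊔ V 3 ∧ V 5 ≤ V 6 ⊔ V 5 ⊔ V 4 ⊔ V 3 ∧
    V 4 ≤ V 6 ⊔ V 5 ⊔ V 4 ⊔ V 3 ∧ V 3 ≤ V 6 ⊔ V 5 ⊔ V 4 ⊔ V 3 :=
  ⟨le_sup_of_le_left (le_sup_of_le_left le_sup_left), le_sup_of_le_left (le_sup_of_le_left le_sup_right),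
    le_sup_of_le_left le_sup_right, le_sup_right⟩

theorem n2 (M : Mid t T X n V) :
    ∀ v ∈ V 2, ∀ m ∈ V 6 ⊔ V 5 ⊔ V 4 ⊔ V 3, v * m * v⁻¹ ∈ V 6 ⊔ V 5 ⊔ V 4 ⊔ V 3 := fun v hv =>
  conj_sup (conj_sup (conj_sup
    (fun m hm => conj_mem_of_comm ((le4 V).2.2.1 (M.l4 2 (by decide) v hv m hm)) ((le4 V).1 hm))
    (fun m hm => conj_mem_of_commute (M.c3 2 v hv m hm) ((le4 V).2.1 hm)))
    (fun m hm => conj_mem_of_commute (M.l2 2 (by decide) v hv m hm) ((le4 V).2.2.1 hm)))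
    (fun m hm => conj_mem_of_commute (M.c1 2 v hv m hm) ((le4 V).2.2.2 hm))

theorem le5 (V : ZMod 12 → Subgroup G) : V 6 ≤ V 6 ⊔ V 5 ⊔ V 4 ⊔ V 3 ⊔ V 2 ∧ V 5 ≤ V 6 ⊔ V 5 ⊔ V 4 ⊔ V 3 ⊔ V 2 ∧
    V 4 ≤ V 6 ⊔ V 5 ⊔ V 4 ⊔ V 3 ⊔ V 2 ∧ V 3 ≤ V 6 ⊔ V 5 ⊔ V 4 ⊔ V 3 ⊔ V 2 ∧ V 2 ≤ V 6 ⊔ V 5 ⊔ V 4 ⊔ V 3 ⊔ V 2 :=
  ⟨(le4 V).1.trans le_sup_left, (le4 V).2.1.trans le_sup_left, (le4 V).2.2.1.trans le_sup_left,
    (le4 V).2.2.2.trans le_sup_left, le_sup_right⟩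

theorem n1 (E : Env t T X n) (M : Mid t T X n V) :
    ∀ v ∈ V 1, ∀ m ∈ V 6 ⊔ V 5 ⊔ V 4 ⊔ V 3 ⊔ V 2, v * m * v⁻¹ ∈ V 6 ⊔ V 5 ⊔ V 4 ⊔ V 3 ⊔ V 2 := by
  obtain ⟨l6, l5, l4, l3, l2⟩ := le5 V
  intro v hv
  have hR : V 5 ⊔ V 4 ⊔ V 3 ⊔ V 2 ≤ V 6 ⊔ V 5 ⊔ V 4 ⊔ V 3 ⊔ V 2 := sup_le (sup_le (sup_le l5 l4) l3) l2
  have hJ : V 4 ⊔ V 3 ⊔ V 2 ≤ V 6 ⊔ V 5 ⊔ V 4 ⊔ V 3 ⊔ V 2 := sup_le (sup_le l4 l3) l2
  refine conj_sup (conj_sup (conj_sup (conj_sup (fun m hm => ?_) (fun m hm => ?_)) (fun m hm => ?_))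
    (fun m hm => ?_)) (fun m hm => ?_)
  · exact conj_mem_of_comm (hR (c5 E M v hv m hm)) (l6 hm)
  · exact conj_mem_of_comm (hJ (s4 E M v hv m hm)) (l5 hm)
  · exact conj_mem_of_commute (M.c3 1 v hv m hm) (l4 hm)
  · exact conj_mem_of_comm (l2 (M.s2 1 (by decide) v hv m hm)) (l3 hm)
  · exact conj_mem_of_commute (M.c1 1 v hv m hm) (l2 hm)

theorem tow5 (E : Env t T X n) (M : Mid t T X n V) : Tow t (X 6 ⊔ X 5) (V 6 ⊔ V 5) :=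
  tow_step (tow_dbl (M.dbl 6) (E.tX 6) E.tt) (M.dbl 5) (E.tX 5) E.tt (n5 M)
    fun _ ha h => dis E 5 ha ((le_FF X 5).1 h)

theorem tow4 (E : Env t T X n) (M : Mid t T X n V) : Tow t (X 6 ⊔ X 5 ⊔ X 4) (V 6 ⊔ V 5 ⊔ V 4) :=
  tow_step (tow5 E M) (M.dbl 4) (E.tX 4) E.tt (n4 M)
    fun _ ha h => dis E 4 ha ((sup_le (le_FF X 4).2.1 (le_FF X 4).1) h)

theorem tow3 (E : Env t T X n) (M : Mid t T X n V) : Tow t (X 6 ⊔ X 5 ⊔ X 4 ⊔ X 3) (V 6 ⊔ V 5 ⊔ V 4 ⊔ V 3) :=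
  tow_step (tow4 E M) (M.dbl 3) (E.tX 3) E.tt (n3 M)
    fun _ ha h => dis E 3 ha ((sup_le (sup_le (le_FF X 3).2.2.1 (le_FF X 3).2.1) (le_FF X 3).1) h)

theorem tow2 (E : Env t T X n) (M : Mid t T X n V) :
    Tow t (X 6 ⊔ X 5 ⊔ X 4 ⊔ X 3 ⊔ X 2) (V 6 ⊔ V 5 ⊔ V 4 ⊔ V 3 ⊔ V 2) :=
  tow_step (tow3 E M) (M.dbl 2) (E.tX 2) E.tt (n2 M)
    fun _ ha h => dis E 2 ha
      ((sup_le (sup_le (sup_le (le_FF X 2).2.2.2.1 (le_FF X 2).2.2.1) (le_FF X 2).2.1) (le_FF X 2).1) h)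

theorem FF1 (X : ZMod 12 → Subgroup G) : X 6 ⊔ X 5 ⊔ X 4 ⊔ X 3 ⊔ X 2 ≤ FF X 1 :=
  sup_le (sup_le (sup_le (sup_le (le_FF X 1).2.2.2.2 (le_FF X 1).2.2.2.1) (le_FF X 1).2.2.1) (le_FF X 1).2.1)
    (le_FF X 1).1

theorem tow1 (E : Env t T X n) (M : Mid t T X n V) :
    Tow t (X 6 ⊔ X 5 ⊔ X 4 ⊔ X 3 ⊔ X 2 ⊔ X 1) (V 6 ⊔ V 5 ⊔ V 4 ⊔ V 3 ⊔ V 2 ⊔ V 1) :=
  tow_step (tow2 E M) (M.dbl 1) (E.tX 1) E.tt (n1 E M) fun _ ha h => dis E 1 ha (FF1 X h)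

theorem UU_eq (V : ZMod 12 → Subgroup G) : UU V 1 = V 6 ⊔ V 5 ⊔ V 4 ⊔ V 3 ⊔ V 2 ⊔ V 1 := by
  show V 1 ⊔ V 2 ⊔ V 3 ⊔ V 4 ⊔ V 5 ⊔ V 6 = V 6 ⊔ V 5 ⊔ V 4 ⊔ V 3 ⊔ V 2 ⊔ V 1
  ac_rfl

theorem arc1 (E : Env t T X n) (M : Mid t T X n V) : Arc t X V 1 where
  c5 a ha b hb := by
    have h := c5 E M a ha b hb
    show ⁅a, b⁆ ∈ V 2 ⊔ V 3 ⊔ V 4 ⊔ V 5
    have e : V 2 ⊔ V 3 ⊔ V 4 ⊔ V 5 = V 5 ⊔ V 4 ⊔ V 3 ⊔ V 2 := by ac_rfl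
    rw [e]; exact h
  nf a₁ h1 a₂ h2 a₃ h3 a₄ h4 a₅ h5 a₆ h6 b₁ k1 b₂ k2 b₃ k3 b₄ k4 b₅ k5 b₆ k6 e := by
    have hd5 := tow_dis (tow_dbl (M.dbl 6) (E.tX 6) E.tt) (M.dbl 5) (E.tX 5)
      fun _ ha h => dis E 5 ha ((le_FF X 5).1 h)
    have hd4 := tow_dis (tow5 E M) (M.dbl 4) (E.tX 4)
      fun _ ha h => dis E 4 ha ((sup_le (le_FF X 4).2.1 (le_FF X 4).1) h)
    have hd3 := tow_dis (tow4 E M) (M.dbl 3) (E.tX 3)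
      fun _ ha h => dis E 3 ha ((sup_le (sup_le (le_FF X 3).2.2.1 (le_FF X 3).2.1) (le_FF X 3).1) h)
    have hd2 := tow_dis (tow3 E M) (M.dbl 2) (E.tX 2)
      fun _ ha h => dis E 2 ha
        ((sup_le (sup_le (sup_le (le_FF X 2).2.2.2.1 (le_FF X 2).2.2.1) (le_FF X 2).2.1) (le_FF X 2).1) h)
    have hd1 := tow_dis (tow2 E M) (M.dbl 1) (E.tX 1) fun _ ha h => dis E 1 ha (FF1 X h)
    have m5 : ∀ {a b : G}, a ∈ V 5 → b ∈ V 6 → a * b ∈ V 6 ⊔ V 5 := fun ha hb =>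
      mul_mem (le_sup_right (a := V 6) ha) (le_sup_left (b := V 5) hb)
    have m4 : ∀ {a b : G}, a ∈ V 4 → b ∈ V 6 ⊔ V 5 → a * b ∈ V 6 ⊔ V 5 ⊔ V 4 := fun ha hb =>
      mul_mem (le_sup_right (a := V 6 ⊔ V 5) ha) (le_sup_left (b := V 4) hb)
    have m3 : ∀ {a b : G}, a ∈ V 3 → b ∈ V 6 ⊔ V 5 ⊔ V 4 → a * b ∈ V 6 ⊔ V 5 ⊔ V 4 ⊔ V 3 := fun ha hb =>
      mul_mem (le_sup_right (a := V 6 ⊔ V 5 ⊔ V 4) ha) (le_sup_left (b := V 3) hb)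
    have m2 : ∀ {a b : G}, a ∈ V 2 → b ∈ V 6 ⊔ V 5 ⊔ V 4 ⊔ V 3 → a * b ∈ V 6 ⊔ V 5 ⊔ V 4 ⊔ V 3 ⊔ V 2 :=
      fun ha hb => mul_mem (le_sup_right (a := V 6 ⊔ V 5 ⊔ V 4 ⊔ V 3) ha) (le_sup_left (b := V 2) hb)
    have e1 : a₁ * (a₂ * (a₃ * (a₄ * (a₅ * a₆)))) = b₁ * (b₂ * (b₃ * (b₄ * (b₅ * b₆)))) := by
      simpa only [mul_assoc] using e
    obtain ⟨r1, e2⟩ := split_first hd1 h1 k1 (m2 h2 (m3 h3 (m4 h4 (m5 h5 h6)))) (m2 k2 (m3 k3 (m4 k4 (m5 k5 k6)))) e1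
    obtain ⟨r2, e3⟩ := split_first hd2 h2 k2 (m3 h3 (m4 h4 (m5 h5 h6))) (m3 k3 (m4 k4 (m5 k5 k6))) e2
    obtain ⟨r3, e4⟩ := split_first hd3 h3 k3 (m4 h4 (m5 h5 h6)) (m4 k4 (m5 k5 k6)) e3
    obtain ⟨r4, e5⟩ := split_first hd4 h4 k4 (m5 h5 h6) (m5 k5 k6) e4
    obtain ⟨r5, e6⟩ := split_first hd5 h5 k5 h6 k6 e5
    exact ⟨r1, r2, r3, r4, r5, e6⟩
  mem g hg := by
    rw [UU_eq] at hg
    obtain ⟨a1, h1, u1, hu1, e1⟩ := mem_sup_swap (n1 E M) hg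
    obtain ⟨a2, h2, u2, hu2, e2⟩ := mem_sup_swap (n2 M) hu1
    obtain ⟨a3, h3, u3, hu3, e3⟩ := mem_sup_swap (n3 M) hu2
    obtain ⟨a4, h4, u4, hu4, e4⟩ := mem_sup_swap (n4 M) hu3
    obtain ⟨a5, h5, u5, hu5, e5⟩ := mem_sup_swap (n5 M) hu4
    exact ⟨a1, h1, a2, h2, a3, h3, a4, h4, a5, h5, u5, hu5, by rw [e1, e2, e3, e4, e5]; group⟩
  good m hm h := by
    rw [UU_eq] at hm ⊢
    exact (tow1 E M).good m hm h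
  cent m hm h := by
    rw [UU_eq] at hm ⊢
    exact (tow1 E M).cent m hm h

/-- reflection of the arc `1..6` to the arc `0..5` -/
theorem arc0 (E : Env t T X n) (M : Mid t T X n V) : Arc t X V 0 := by
  have A := arc1 E M
  have cm : ∀ {r : ZMod 12} {y : G}, y ∈ V r → n 0 * y * (n 0)⁻¹ ∈ V (2 * 0 + 6 - r) := fun {r y} hy => M.nV 0 r y hy
  have ci : ∀ (r : ZMod 12) {y : G}, y ∈ V (2 * 0 + 6 - r) → (n 0)⁻¹ * y * n 0 ∈ V r := by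
    intro r y hy
    have h2 : ∀ a ∈ V (2 * 0 + 6 - r), n 0 * a * (n 0)⁻¹ ∈ V r := by
      intro a ha
      have := M.nV 0 _ a ha
      rwa [show 2 * 0 + 6 - (2 * 0 + 6 - r) = r by ring] at this
    exact inv_swap (M.nV 0 r) h2 y hy
  have xi : ∀ (r : ZMod 12) {y : G}, y ∈ X (2 * 0 + 6 - r) → (n 0)⁻¹ * y * n 0 ∈ X r := fun r {y} hy => nX' E 0 r y hy
  -- the groups
  have hU : ∀ {g : G}, g ∈ UU V 0 → n 0 * g * (n 0)⁻¹ ∈ UU V 1 := by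
    intro g hg
    have l1 : V 1 ≤ UU V 1 := le_sup_of_le_left (le_sup_of_le_left (le_sup_of_le_left (le_sup_of_le_left le_sup_left)))
    have l2 : V 2 ≤ UU V 1 := le_sup_of_le_left (le_sup_of_le_left (le_sup_of_le_left (le_sup_of_le_left le_sup_right)))
    have l3 : V 3 ≤ UU V 1 := le_sup_of_le_left (le_sup_of_le_left (le_sup_of_le_left le_sup_right))
    have l4 : V 4 ≤ UU V 1 := le_sup_of_le_left (le_sup_of_le_left le_sup_right)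
    have l5 : V 5 ≤ UU V 1 := le_sup_of_le_left le_sup_right
    have l6 : V 6 ≤ UU V 1 := le_sup_right
    exact conj_sup (conj_sup (conj_sup (conj_sup (conj_sup (fun m hm => l6 (cm hm)) (fun m hm => l5 (cm hm)))
      (fun m hm => l4 (cm hm))) (fun m hm => l3 (cm hm))) (fun m hm => l2 (cm hm))) (fun m hm => l1 (cm hm)) g hg
  have hUi : ∀ {g : G}, g ∈ UU V 1 → (n 0)⁻¹ * g * n 0 ∈ UU V 0 := by
    intro g hg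
    have l0 : V 0 ≤ UU V 0 := le_sup_of_le_left (le_sup_of_le_left (le_sup_of_le_left (le_sup_of_le_left le_sup_left)))
    have l1 : V 1 ≤ UU V 0 := le_sup_of_le_left (le_sup_of_le_left (le_sup_of_le_left (le_sup_of_le_left le_sup_right)))
    have l2 : V 2 ≤ UU V 0 := le_sup_of_le_left (le_sup_of_le_left (le_sup_of_le_left le_sup_right))
    have l3 : V 3 ≤ UU V 0 := le_sup_of_le_left (le_sup_of_le_left le_sup_right)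
    have l4 : V 4 ≤ UU V 0 := le_sup_of_le_left le_sup_right
    have l5 : V 5 ≤ UU V 0 := le_sup_right
    have := conj_sup (g := (n 0)⁻¹) (S := UU V 0) (conj_sup (conj_sup (conj_sup (conj_sup
      (fun m hm => by rw [inv_inv]; exact l5 (ci 5 hm)) (fun m hm => by rw [inv_inv]; exact l4 (ci 4 hm)))
      (fun m hm => by rw [inv_inv]; exact l3 (ci 3 hm))) (fun m hm => by rw [inv_inv]; exact l2 (ci 2 hm)))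
      (fun m hm => by rw [inv_inv]; exact l1 (ci 1 hm))) (fun m hm => by rw [inv_inv]; exact l0 (ci 0 hm)) g hg
    rwa [inv_inv] at this
  have hXi : ∀ {g : G}, g ∈ UU X 1 → (n 0)⁻¹ * g * n 0 ∈ UU X 0 := by
    intro g hg
    have l0 : X 0 ≤ UU X 0 := le_sup_of_le_left (le_sup_of_le_left (le_sup_of_le_left (le_sup_of_le_left le_sup_left)))
    have l1 : X 1 ≤ UU X 0 := le_sup_of_le_left (le_sup_of_le_left (le_sup_of_le_left (le_sup_of_le_left le_sup_right)))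
    have l2 : X 2 ≤ UU X 0 := le_sup_of_le_left (le_sup_of_le_left (le_sup_of_le_left le_sup_right))
    have l3 : X 3 ≤ UU X 0 := le_sup_of_le_left (le_sup_of_le_left le_sup_right)
    have l4 : X 4 ≤ UU X 0 := le_sup_of_le_left le_sup_right
    have l5 : X 5 ≤ UU X 0 := le_sup_right
    have := conj_sup (g := (n 0)⁻¹) (S := UU X 0) (conj_sup (conj_sup (conj_sup (conj_sup
      (fun m hm => by rw [inv_inv]; exact l5 (xi 5 hm)) (fun m hm => by rw [inv_inv]; exact l4 (xi 4 hm)))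
      (fun m hm => by rw [inv_inv]; exact l3 (xi 3 hm))) (fun m hm => by rw [inv_inv]; exact l2 (xi 2 hm)))
      (fun m hm => by rw [inv_inv]; exact l1 (xi 1 hm))) (fun m hm => by rw [inv_inv]; exact l0 (xi 0 hm)) g hg
    rwa [inv_inv] at this
  have tn' : t * n 0 = n 0 * t := (E.tn 0).symm
  have tni : (n 0)⁻¹ * t = t * (n 0)⁻¹ := by
    calc (n 0)⁻¹ * t = (n 0)⁻¹ * (t * n 0) * (n 0)⁻¹ := by group
      _ = (n 0)⁻¹ * (n 0 * t) * (n 0)⁻¹ := by rw [tn']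
      _ = _ := by group
  have tc : ∀ m : G, t * (n 0 * m * (n 0)⁻¹) = n 0 * (t * m) * (n 0)⁻¹ := by
    intro m
    calc t * (n 0 * m * (n 0)⁻¹) = (t * n 0) * m * (n 0)⁻¹ := by group
      _ = (n 0 * t) * m * (n 0)⁻¹ := by rw [tn']
      _ = _ := by group
  have eqm : ∀ {a b : G}, n 0 * a * (n 0)⁻¹ = n 0 * b * (n 0)⁻¹ → a = b := by
    intro a b h
    calc a = (n 0)⁻¹ * (n 0 * a * (n 0)⁻¹) * n 0 := by group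
      _ = (n 0)⁻¹ * (n 0 * b * (n 0)⁻¹) * n 0 := by rw [h]
      _ = b := by group
  refine ⟨?_, ?_, ?_, ?_, ?_⟩
  · intro a ha b hb
    have h1 := swap_comm (A.c5 _ (cm hb) _ (cm ha))
    have h2 : ⁅n 0 * a * (n 0)⁻¹, n 0 * b * (n 0)⁻¹⁆ = n 0 * ⁅a, b⁆ * (n 0)⁻¹ := by
      simp only [commutatorElement_def]; group
    rw [h2] at h1
    have h1 : n 0 * ⁅a, b⁆ * (n 0)⁻¹ ∈ V 2 ⊔ V 3 ⊔ V 4 ⊔ V 5 := h1
    show ⁅a, b⁆ ∈ V 1 ⊔ V 2 ⊔ V 3 ⊔ V 4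
    have l1 : V 1 ≤ V 1 ⊔ V 2 ⊔ V 3 ⊔ V 4 := le_sup_of_le_left (le_sup_of_le_left le_sup_left)
    have l2 : V 2 ≤ V 1 ⊔ V 2 ⊔ V 3 ⊔ V 4 := le_sup_of_le_left (le_sup_of_le_left le_sup_right)
    have l3 : V 3 ≤ V 1 ⊔ V 2 ⊔ V 3 ⊔ V 4 := le_sup_of_le_left le_sup_right
    have l4 : V 4 ≤ V 1 ⊔ V 2 ⊔ V 3 ⊔ V 4 := le_sup_right
    have := conj_sup (g := (n 0)⁻¹) (S := V 1 ⊔ V 2 ⊔ V 3 ⊔ V 4) (conj_sup (conj_sup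
      (fun m hm => by rw [inv_inv]; exact l4 (ci 4 hm)) (fun m hm => by rw [inv_inv]; exact l3 (ci 3 hm)))
      (fun m hm => by rw [inv_inv]; exact l2 (ci 2 hm))) (fun m hm => by rw [inv_inv]; exact l1 (ci 1 hm)) _ h1
    rwa [inv_inv, show (n 0)⁻¹ * (n 0 * ⁅a, b⁆ * (n 0)⁻¹) * n 0 = ⁅a, b⁆ by group] at this
  · intro a₁ h1 a₂ h2 a₃ h3 a₄ h4 a₅ h5 a₆ h6 b₁ k1 b₂ k2 b₃ k3 b₄ k4 b₅ k5 b₆ k6 e
    have e' : n 0 * a₆⁻¹ * (n 0)⁻¹ * (n 0 * a₅⁻¹ * (n 0)⁻¹) * (n 0 * a₄⁻¹ * (n 0)⁻¹) * (n 0 * a₃⁻¹ * (n 0)⁻¹) *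
        (n 0 * a₂⁻¹ * (n 0)⁻¹) * (n 0 * a₁⁻¹ * (n 0)⁻¹) =
        n 0 * b₆⁻¹ * (n 0)⁻¹ * (n 0 * b₅⁻¹ * (n 0)⁻¹) * (n 0 * b₄⁻¹ * (n 0)⁻¹) * (n 0 * b₃⁻¹ * (n 0)⁻¹) *
        (n 0 * b₂⁻¹ * (n 0)⁻¹) * (n 0 * b₁⁻¹ * (n 0)⁻¹) := by
      have e1 : n 0 * (a₁ * a₂ * a₃ * a₄ * a₅ * a₆)⁻¹ * (n 0)⁻¹ = n 0 * (b₁ * b₂ * b₃ * b₄ * b₅ * b₆)⁻¹ * (n 0)⁻¹ := by
        rw [e]
      calc _ = n 0 * (a₁ * a₂ * a₃ * a₄ * a₅ * a₆)⁻¹ * (n 0)⁻¹ := by group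
        _ = n 0 * (b₁ * b₂ * b₃ * b₄ * b₅ * b₆)⁻¹ * (n 0)⁻¹ := e1
        _ = _ := by group
    obtain ⟨r1, r2, r3, r4, r5, r6⟩ := A.nf _ (cm (inv_mem h6)) _ (cm (inv_mem h5)) _ (cm (inv_mem h4)) _
      (cm (inv_mem h3)) _ (cm (inv_mem h2)) _ (cm (inv_mem h1)) _ (cm (inv_mem k6)) _ (cm (inv_mem k5)) _
      (cm (inv_mem k4)) _ (cm (inv_mem k3)) _ (cm (inv_mem k2)) _ (cm (inv_mem k1)) e'
    exact ⟨inv_injective (eqm r6), inv_injective (eqm r5), inv_injective (eqm r4), inv_injective (eqm r3),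
      inv_injective (eqm r2), inv_injective (eqm r1)⟩
  · intro g hg
    obtain ⟨a₁, h1, a₂, h2, a₃, h3, a₄, h4, a₅, h5, a₆, h6, e⟩ := A.mem _ (inv_mem (hU hg))
    refine ⟨(n 0)⁻¹ * a₆⁻¹ * n 0, ci 0 (inv_mem h6), (n 0)⁻¹ * a₅⁻¹ * n 0, ci 1 (inv_mem h5),
      (n 0)⁻¹ * a₄⁻¹ * n 0, ci 2 (inv_mem h4), (n 0)⁻¹ * a₃⁻¹ * n 0, ci 3 (inv_mem h3),
      (n 0)⁻¹ * a₂⁻¹ * n 0, ci 4 (inv_mem h2), (n 0)⁻¹ * a₁⁻¹ * n 0, ci 5 (inv_mem h1), ?_⟩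
    calc g = (n 0)⁻¹ * ((n 0 * g * (n 0)⁻¹)⁻¹)⁻¹ * n 0 := by group
      _ = (n 0)⁻¹ * (a₁ * a₂ * a₃ * a₄ * a₅ * a₆)⁻¹ * n 0 := by rw [e]
      _ = _ := by group
  · intro m hm h
    obtain ⟨g, hg, e⟩ := A.good _ (hU hm) (by
      rw [tc]
      calc n 0 * (t * m) * (n 0)⁻¹ * (n 0 * (t * m) * (n 0)⁻¹) = n 0 * ((t * m) * (t * m)) * (n 0)⁻¹ := by group
        _ = 1 := by rw [h]; group)
    refine ⟨(n 0)⁻¹ * g * n 0, hUi hg, ?_⟩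
    rw [tc] at e
    calc (n 0)⁻¹ * g * n 0 * t * ((n 0)⁻¹ * g * n 0)⁻¹ = (n 0)⁻¹ * g * (n 0 * t) * (n 0)⁻¹ * g⁻¹ * n 0 := by group
      _ = (n 0)⁻¹ * g * (t * n 0) * (n 0)⁻¹ * g⁻¹ * n 0 := by rw [tn']
      _ = (n 0)⁻¹ * (g * t * g⁻¹) * n 0 := by group
      _ = t * m := by rw [e]; group
  · intro m hm h
    have h1 : (n 0 * m * (n 0)⁻¹) * t = t * (n 0 * m * (n 0)⁻¹) := by
      rw [tc]
      calc (n 0 * m * (n 0)⁻¹) * t = n 0 * m * ((n 0)⁻¹ * t) := by group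
        _ = n 0 * m * (t * (n 0)⁻¹) := by rw [tni]
        _ = n 0 * (m * t) * (n 0)⁻¹ := by group
        _ = _ := by rw [h]
    have h2 := hXi (A.cent _ (hU hm) h1)
    rwa [show (n 0)⁻¹ * (n 0 * m * (n 0)⁻¹) * n 0 = m by group] at h2

end Base

theorem arc_sh {c r : ZMod 12} (A : Arc t (sh c X) (sh c V) r) : Arc t X V (r + c) := by
  obtain ⟨h1, h2, h3, h4, h5⟩ := A
  rw [UU_sh] at h3 h4 h5
  rw [UU_sh] at h5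
  unfold sh at h1 h2 h3
  rw [show r + 1 + c = r + c + 1 by ring, show r + 2 + c = r + c + 2 by ring, show r + 3 + c = r + c + 3 by ring,
    show r + 4 + c = r + c + 4 by ring, show r + 5 + c = r + c + 5 by ring] at h1 h2
  rw [show r + 1 + c = r + c + 1 by ring, show r + 2 + c = r + c + 2 by ring, show r + 3 + c = r + c + 3 by ring,
    show r + 4 + c = r + c + 4 by ring, show r + 5 + c = r + c + 5 by ring] at h3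
  exact ⟨h1, h2, h3, h4, h5⟩

theorem ev_sub1 {r : ZMod 12} (hr : ¬ Ev r) : Ev (r - 1) := by revert r; decide

variable [Finite G]

theorem arc (E : Env t T X n) (M : Mid t T X n V) (r : ZMod 12) : Arc t X V r := by
  by_cases hr : Ev r
  · have := arc_sh (arc0 (env_sh E hr) (mid_sh M hr))
    rwa [show (0 : ZMod 12) + r = r by ring] at this
  · have := arc_sh (arc1 (env_sh E (ev_sub1 hr)) (mid_sh M (ev_sub1 hr)))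
    rwa [show (1 : ZMod 12) + (r - 1) = r by ring] at this

theorem s4' (E : Env t T X n) (M : Mid t T X n V) (r : ZMod 12) (hr : ¬ Ev r) :
    ∀ a ∈ V r, ∀ b ∈ V (r + 4), ⁅a, b⁆ ∈ V (r + 1) ⊔ V (r + 2) ⊔ V (r + 3) := by
  have h := s4 (env_sh E (ev_sub1 hr)) (mid_sh M (ev_sub1 hr))
  unfold sh at h
  rw [show (1 : ZMod 12) + (r - 1) = r by ring, show (5 : ZMod 12) + (r - 1) = r + 4 by ring,
    show (4 : ZMod 12) + (r - 1) = r + 3 by ring, show (3 : ZMod 12) + (r - 1) = r + 2 by ring,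
    show (2 : ZMod 12) + (r - 1) = r + 1 by ring] at h
  intro a ha b hb
  have e : V (r + 1) ⊔ V (r + 2) ⊔ V (r + 3) = V (r + 3) ⊔ V (r + 2) ⊔ V (r + 1) := by ac_rfl
  rw [e]; exact h a ha b hb

theorem grown_of_mid (E : Env t T X n) (M : Mid t T X n V) : Grown t T X n V where
  le r := (M.dbl r).le
  sq r := (M.dbl r).sq
  br r := (M.dbl r).br
  onto r := (M.dbl r).onto
  fix r := (M.dbl r).fix
  TV := M.TV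
  nV := M.nV
  cen h hh r := cenV E M hh
  fpf h hh r := fpfV E M hh
  c1 := M.c1
  c3 := M.c3
  l2 := M.l2
  l4 := M.l4
  s2 := M.s2
  s4 := s4' E M
  c5 r := (arc E M r).c5
  nf r := (arc E M r).nf
  mem r := (arc E M r).mem
  good r := (arc E M r).good
  cent r := (arc E M r).cent

/-- **The growth for `G2(q)` and `3D4(q)`, `q ≥ 4`.** -/
theorem grown (E : Env t T X n) (L : Long t T X n V) :
    ∃ V' : ZMod 12 → Subgroup G, (∀ r, Ev r → V' r = V r) ∧ Grown t T X n V' :=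
  ⟨VV t T X V, fun _ hr => VV_ev hr, grown_of_mid E (mid E (long2 E L))⟩

end Cfsg.Agent.HexGrow.Grow
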