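import Cfsg.Agent.HexGrow.Mid

/-!
# Growth for `G2(q)`, `3D4(q)`: `[V 1, V 5] ≤ V 2 V 3 V 4` and `[V 1, V 6] ≤ V 2 V 3 V 4 V 5`
-/

set_option autoImplicit false

namespace Cfsg.Agent.HexGrow.Level

open Cfsg.Agent.HexGrow.Defs Cfsg.Agent.HexGrow.Basic Cfsg.Agent.HexGrow.Tools Cfsg.Agent.HexGrow.LongTwo
  Cfsg.Agent.HexGrow.QOne Cfsg.Agent.HexGrow.Short Cfsg.Agent.HexGrow.Short2 Cfsg.Agent.HexGrow.Tower
  Cfsg.Agent.HexGrow.Pair Cfsg.Agent.HexGrow.Mid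
open scoped commutatorElement

variable {G : Type*} [Group G] {t : G} {T : Subgroup G} {X : ZMod 12 → Subgroup G} {n : ZMod 12 → G}
  {V : ZMod 12 → Subgroup G}

/-- five consecutive root groups -/
def FF (X : ZMod 12 → Subgroup G) (r : ZMod 12) : Subgroup G :=
  X (r + 1) ⊔ X (r + 2) ⊔ X (r + 3) ⊔ X (r + 4) ⊔ X (r + 5)

theorem le_FF (X : ZMod 12 → Subgroup G) (r : ZMod 12) :
    X (r + 1) ≤ FF X r ∧ X (r + 2) ≤ FF X r ∧ X (r + 3) ≤ FF X r ∧ X (r + 4) ≤ FF X r ∧ X (r + 5) ≤ FF X r := by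
  unfold FF
  refine ⟨?_, ?_, ?_, ?_, ?_⟩
  · exact le_sup_of_le_left (le_sup_of_le_left (le_sup_of_le_left le_sup_left))
  · exact le_sup_of_le_left (le_sup_of_le_left (le_sup_of_le_left le_sup_right))
  · exact le_sup_of_le_left (le_sup_of_le_left le_sup_right)
  · exact le_sup_of_le_left le_sup_right
  · exact le_sup_right

theorem dis (E : Env t T X n) (r : ZMod 12) {a : G} (ha : a ∈ X r) (h : a ∈ FF X r) : a = 1 := E.dis r a ha h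

theorem dis' (E : Env t T X n) (r : ZMod 12) {a : G} (ha : a ∈ X (r + 5)) (h : a ∈ FF X (r - 1)) : a = 1 := by
  have h1 := E.nX 0 _ a ha
  obtain ⟨l1, l2, l3, l4, l5⟩ := le_FF X (1 - r)
  have h2 : ∀ b ∈ FF X (r - 1), n 0 * b * (n 0)⁻¹ ∈ FF X (1 - r) := by
    refine conj_sup (conj_sup (conj_sup (conj_sup (fun b hb => ?_) (fun b hb => ?_)) (fun b hb => ?_))
      (fun b hb => ?_)) (fun b hb => ?_)
    · have := E.nX 0 _ b hb
      rw [show 2 * 0 + 6 - (r - 1 + 1) = 1 - r + 5 by ring] at this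
      exact l5 this
    · have := E.nX 0 _ b hb
      rw [show 2 * 0 + 6 - (r - 1 + 2) = 1 - r + 4 by ring] at this
      exact l4 this
    · have := E.nX 0 _ b hb
      rw [show 2 * 0 + 6 - (r - 1 + 3) = 1 - r + 3 by ring] at this
      exact l3 this
    · have := E.nX 0 _ b hb
      rw [show 2 * 0 + 6 - (r - 1 + 4) = 1 - r + 2 by ring] at this
      exact l2 this
    · have := E.nX 0 _ b hb
      rw [show 2 * 0 + 6 - (r - 1 + 5) = 1 - r + 1 by ring] at this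
      exact l1 this
  rw [show 2 * 0 + 6 - (r + 5) = 1 - r by ring] at h1
  have h3 := dis E (1 - r) h1 (h2 a h)
  calc a = (n 0)⁻¹ * (n 0 * a * (n 0)⁻¹) * n 0 := by group
    _ = 1 := by rw [h3]; group

/-! ## towers -/

theorem XV (M : Mid t T X n V) (r : ZMod 12) : X r ≤ V r := (M.dbl r).le

theorem towW (E : Env t T X n) (M : Mid t T X n V) : Tow t (X 4 ⊔ X 2) (V 4 ⊔ V 2) := by
  refine tow_step (tow_dbl (M.dbl 4) (E.tX 4) E.tt) (M.dbl 2) (E.tX 2) E.tt ?_ ?_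
  · exact fun v hv m hm => conj_mem_of_commute (M.l2 2 (by decide) v hv m hm) hm
  · exact fun a ha h => dis E 2 ha ((le_FF X 2).2.1 h)

theorem towJ0 (E : Env t T X n) (M : Mid t T X n V) : Tow t (X 4 ⊔ X 3) (V 4 ⊔ V 3) := by
  refine tow_step (tow_dbl (M.dbl 4) (E.tX 4) E.tt) (M.dbl 3) (E.tX 3) E.tt ?_ ?_
  · exact fun v hv m hm => conj_mem_of_commute (M.c1 3 v hv m hm) hm
  · exact fun a ha h => dis E 3 ha ((le_FF X 3).1 h)

theorem towJ (E : Env t T X n) (M : Mid t T X n V) : Tow t (X 4 ⊔ X 3 ⊔ X 2) (V 4 ⊔ V 3 ⊔ V 2) := by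
  refine tow_step (towJ0 E M) (M.dbl 2) (E.tX 2) E.tt ?_ ?_
  · intro v hv
    exact conj_sup
      (fun m hm => conj_mem_of_commute (M.l2 2 (by decide) v hv m hm) (le_sup_left (b := V 3) hm))
      (fun m hm => conj_mem_of_commute (M.c1 2 v hv m hm) (le_sup_right (a := V 4) hm))
  · intro a ha h
    exact dis E 2 ha ((sup_le (le_FF X 2).2.1 (le_FF X 2).1) h)

theorem towR1 (E : Env t T X n) (M : Mid t T X n V) : Tow t (X 5 ⊔ X 4) (V 5 ⊔ V 4) := by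
  refine tow_step (tow_dbl (M.dbl 5) (E.tX 5) E.tt) (M.dbl 4) (E.tX 4) E.tt ?_ ?_
  · exact fun v hv m hm => conj_mem_of_commute (M.c1 4 v hv m hm) hm
  · exact fun a ha h => dis E 4 ha ((le_FF X 4).1 h)

theorem towR2 (E : Env t T X n) (M : Mid t T X n V) : Tow t (X 5 ⊔ X 4 ⊔ X 3) (V 5 ⊔ V 4 ⊔ V 3) := by
  refine tow_step (towR1 E M) (M.dbl 3) (E.tX 3) E.tt ?_ ?_
  · intro v hv
    exact conj_sup
      (fun m hm => conj_mem_of_comm (le_sup_right (a := V 5) (M.s2 3 (by decide) v hv m hm))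
        (le_sup_left (b := V 4) hm))
      (fun m hm => conj_mem_of_commute (M.c1 3 v hv m hm) (le_sup_right (a := V 5) hm))
  · intro a ha h
    exact dis E 3 ha ((sup_le (le_FF X 3).2.1 (le_FF X 3).1) h)

theorem towR (E : Env t T X n) (M : Mid t T X n V) : Tow t (X 5 ⊔ X 4 ⊔ X 3 ⊔ X 2) (V 5 ⊔ V 4 ⊔ V 3 ⊔ V 2) := by
  refine tow_step (towR2 E M) (M.dbl 2) (E.tX 2) E.tt ?_ ?_
  · intro v hv
    exact conj_sup (conj_sup
      (fun m hm => conj_mem_of_commute (M.c3 2 v hv m hm) (le_sup_of_le_left (le_sup_left (b := V 4)) hm))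
      (fun m hm => conj_mem_of_commute (M.l2 2 (by decide) v hv m hm) (le_sup_of_le_left (le_sup_right (a := V 5)) hm)))
      (fun m hm => conj_mem_of_commute (M.c1 2 v hv m hm) (le_sup_right (a := V 5 ⊔ V 4) hm))
  · intro a ha h
    exact dis E 2 ha ((sup_le (sup_le (le_FF X 2).2.2.1 (le_FF X 2).2.1) (le_FF X 2).1) h)

/-! ## general lemmas -/

/-- the normaliser -/
def Nm (M0 : Subgroup G) : Subgroup G where
  carrier := {g | (∀ m ∈ M0, g * m * g⁻¹ ∈ M0) ∧ ∀ m ∈ M0, g⁻¹ * m * g ∈ M0}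
  one_mem' := ⟨fun m hm => by simpa using hm, fun m hm => by simpa using hm⟩
  mul_mem' := by
    rintro g h ⟨g1, g2⟩ ⟨h1, h2⟩
    refine ⟨fun m hm => ?_, fun m hm => ?_⟩
    · have := g1 _ (h1 m hm)
      rwa [show g * (h * m * h⁻¹) * g⁻¹ = g * h * m * (g * h)⁻¹ by group] at this
    · have := h2 _ (g2 m hm)
      rwa [show h⁻¹ * (g⁻¹ * m * g) * h = (g * h)⁻¹ * m * (g * h) by group] at this
  inv_mem' := by
    rintro g ⟨g1, g2⟩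
    refine ⟨fun m hm => ?_, fun m hm => ?_⟩
    · rw [inv_inv]; exact g2 m hm
    · rw [inv_inv]; exact g1 m hm

theorem le_Nm {M0 H : Subgroup G} (h : ∀ g ∈ H, ∀ m ∈ M0, g * m * g⁻¹ ∈ M0) : H ≤ Nm M0 :=
  fun g hg => ⟨h g hg, fun m hm => by
    have := h g⁻¹ (inv_mem hg) m hm
    rwa [inv_inv] at this⟩

theorem t_Nm (E : Env t T X n) {A0 M0 : Subgroup G} (H : Tow t A0 M0) : t ∈ Nm M0 :=
  ⟨H.inv, fun m hm => by
    have := H.inv m hm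
    rw [tinv E] at this ⊢; exact this⟩

theorem exists_w (E : Env t T X n) {A0 M0 : Subgroup G} (H : Tow t A0 M0) {g : G} (hg : ⁅t, g⁆ ∈ M0) :
    ∃ w ∈ M0, (w⁻¹ * g) * t = t * (w⁻¹ * g) := by
  have e1 : g * t * g⁻¹ = t * ⁅t, g⁆ := by
    rw [commutatorElement_def, tinv E]
    calc g * t * g⁻¹ = (t * t) * g * t * g⁻¹ := by rw [E.tt, one_mul]
      _ = _ := by group
  obtain ⟨w, hw, e⟩ := H.good _ hg (by
    rw [← e1]
    calc g * t * g⁻¹ * (g * t * g⁻¹) = g * (t * t) * g⁻¹ := by group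
      _ = 1 := by rw [E.tt]; group)
  refine ⟨w, hw, ?_⟩
  calc (w⁻¹ * g) * t = w⁻¹ * (g * t * g⁻¹) * g := by group
    _ = w⁻¹ * (w * t * w⁻¹) * g := by rw [e1, e]
    _ = _ := by group

theorem form3 {J A B : Subgroup G} (hB : ∀ b ∈ B, ∀ m ∈ J, b * m * b⁻¹ ∈ J)
    (hA : ∀ a ∈ A, ∀ m ∈ J ⊔ B, a * m * a⁻¹ ∈ J ⊔ B) {g : G} (hg : g ∈ J ⊔ B ⊔ A) :
    ∃ a ∈ A, ∃ b ∈ B, ∃ m ∈ J, g = a * b * m := by
  obtain ⟨u, hu, a, ha, e⟩ := mem_sup_of_norm hA (inv_mem hg)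
  obtain ⟨m, hm, b, hb, e2⟩ := mem_sup_of_norm hB hu
  refine ⟨a⁻¹, inv_mem ha, b⁻¹, inv_mem hb, m⁻¹, inv_mem hm, ?_⟩
  calc g = (g⁻¹)⁻¹ := by group
    _ = (m * b * a)⁻¹ := by rw [← e, ← e2]
    _ = _ := by group

theorem t_not (M : Mid t T X n V) (E : Env t T X n) : ¬ ∀ z ∈ V 4, t * z = z * t := by
  intro h
  obtain ⟨a, ha, ha1⟩ := E.ne 4
  obtain ⟨y, hy, e⟩ := (M.dbl 4).onto a ha
  apply ha1
  rw [← e]
  exact commutatorElement_eq_one_iff_mul_comm.mpr (h y hy)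

theorem comm_fix {c a : G} (hc : c * t = t * c) (ha : a * t = t * a) : ⁅c, a⁆ * t = t * ⁅c, a⁆ := by
  have h9 : c⁻¹ * t = t * c⁻¹ := by
    calc c⁻¹ * t = c⁻¹ * (t * c) * c⁻¹ := by group
      _ = c⁻¹ * (c * t) * c⁻¹ := by rw [hc]
      _ = t * c⁻¹ := by group
  have h10 : a⁻¹ * t = t * a⁻¹ := by
    calc a⁻¹ * t = a⁻¹ * (t * a) * a⁻¹ := by group
      _ = a⁻¹ * (a * t) * a⁻¹ := by rw [ha]
      _ = t * a⁻¹ := by group
  rw [commutatorElement_def]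
  calc c * a * c⁻¹ * a⁻¹ * t = c * a * c⁻¹ * (a⁻¹ * t) := by group
    _ = c * a * c⁻¹ * (t * a⁻¹) := by rw [h10]
    _ = c * a * (c⁻¹ * t) * a⁻¹ := by group
    _ = c * a * (t * c⁻¹) * a⁻¹ := by rw [h9]
    _ = c * (a * t) * c⁻¹ * a⁻¹ := by group
    _ = c * (t * a) * c⁻¹ * a⁻¹ := by rw [ha]
    _ = (c * t) * a * c⁻¹ * a⁻¹ := by group
    _ = (t * c) * a * c⁻¹ * a⁻¹ := by rw [hc]
    _ = _ := by group

theorem V_ab (M : Mid t T X n V) (r : ZMod 12) : ∀ a ∈ V r, ∀ b ∈ V r, a * b = b * a := dbl_ab (M.dbl r)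

theorem one_mem_comm {a b : G} {S : Subgroup G} (h : a * b = b * a) : ⁅a, b⁆ ∈ S := by
  rw [commutatorElement_eq_one_iff_mul_comm.mpr h]; exact S.one_mem

theorem swap_comm {a b : G} {S : Subgroup G} (h : ⁅a, b⁆ ∈ S) : ⁅b, a⁆ ∈ S := by
  rw [← commutatorElement_inv]; exact S.inv_mem h

/-! ## the level `J` -/

def DJ (V : ZMod 12 → Subgroup G) : Subgroup G where
  carrier := {g | (∀ z ∈ V 2, g * z = z * g) ∧ (∀ z ∈ V 4, g * z = z * g) ∧ ∀ z ∈ V 3, ⁅g, z⁆ ∈ V 4 ⊔ V 2}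
  one_mem' := ⟨fun z _ => by simp, fun z _ => by simp, fun z _ => by rw [commutatorElement_one_left]; exact one_mem _⟩
  mul_mem' := by
    rintro g h ⟨g1, g2, g3⟩ ⟨h1, h2, h3⟩
    refine ⟨fun z hz => ?_, fun z hz => ?_, fun z hz => ?_⟩
    · rw [mul_assoc, h1 z hz, ← mul_assoc, g1 z hz, mul_assoc]
    · rw [mul_assoc, h2 z hz, ← mul_assoc, g2 z hz, mul_assoc]
    · rw [comm_mul_left, comm_sup g2 g1 _ (h3 z hz), mul_inv_cancel_right]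
      exact mul_mem (h3 z hz) (g3 z hz)
  inv_mem' := by
    rintro g ⟨g1, g2, g3⟩
    have i : ∀ z, g * z = z * g → g⁻¹ * z = z * g⁻¹ := fun z h => by
      calc g⁻¹ * z = g⁻¹ * (z * g) * g⁻¹ := by group
        _ = g⁻¹ * (g * z) * g⁻¹ := by rw [h]
        _ = z * g⁻¹ := by group
    refine ⟨fun z hz => i z (g1 z hz), fun z hz => i z (g2 z hz), fun z hz => ?_⟩
    have : ⁅g⁻¹, z⁆ = g⁻¹ * ⁅g, z⁆⁻¹ * g⁻¹⁻¹ := by simp only [commutatorElement_def]; group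
    rw [this, i _ (comm_sup g2 g1 _ (inv_mem (g3 z hz))), mul_inv_cancel_right]
    exact inv_mem (g3 z hz)

theorem V1_DJ (M : Mid t T X n V) : V 1 ≤ DJ V := fun y hy =>
  ⟨fun z hz => M.c1 1 y hy z hz, fun z hz => M.c3 1 y hy z hz,
    fun z hz => le_sup_right (a := V 4) (M.s2 1 (by decide) y hy z hz)⟩

theorem V5_DJ (M : Mid t T X n V) : V 5 ≤ DJ V := fun y hy =>
  ⟨fun z hz => (M.c3 2 z hz y hy).symm, fun z hz => (M.c1 4 z hz y hy).symm,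
    fun z hz => le_sup_left (b := V 2) (swap_comm (M.s2 3 (by decide) z hz y hy))⟩

theorem J_DJ (M : Mid t T X n V) : V 4 ⊔ V 3 ⊔ V 2 ≤ DJ V := by
  refine sup_le (sup_le (fun y hy => ?_) (fun y hy => ?_)) (fun y hy => ?_)
  · exact ⟨fun z hz => (M.l2 2 (by decide) z hz y hy).symm, fun z hz => V_ab M 4 y hy z hz,
      fun z hz => one_mem_comm (M.c1 3 z hz y hy).symm⟩
  · exact ⟨fun z hz => (M.c1 2 z hz y hy).symm, fun z hz => M.c1 3 y hy z hz,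
      fun z hz => one_mem_comm (V_ab M 3 y hy z hz)⟩
  · exact ⟨fun z hz => V_ab M 2 y hy z hz, fun z hz => M.l2 2 (by decide) y hy z hz,
      fun z hz => one_mem_comm (M.c1 2 y hy z hz)⟩

theorem DJ_norm (V : ZMod 12 → Subgroup G) : ∀ g ∈ DJ V, ∀ m ∈ V 4 ⊔ V 3 ⊔ V 2, g * m * g⁻¹ ∈ V 4 ⊔ V 3 ⊔ V 2 := by
  rintro g ⟨g1, g2, g3⟩
  refine conj_sup (conj_sup (fun m hm => ?_) (fun m hm => ?_)) (fun m hm => ?_)
  · exact conj_mem_of_commute (g2 m hm) (le_sup_of_le_left (le_sup_left (b := V 3)) hm)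
  · exact conj_mem_of_comm ((sup_le (le_sup_of_le_left (le_sup_left (b := V 3))) (le_sup_right (a := V 4 ⊔ V 3)))
      (g3 m hm)) (le_sup_of_le_left (le_sup_right (a := V 4)) hm)
  · exact conj_mem_of_commute (g1 m hm) (le_sup_right (a := V 4 ⊔ V 3) hm)

theorem V4_QQ3 (M : Mid t T X n V) : ∀ z ∈ V 4, ∀ a ∈ QQ X 3, z * a = a * z := fun z hz =>
  comm_QQ (r := 3) (fun a ha => (M.c3 1 a (XV M 1 ha) z hz).symm)
    (fun a ha => (M.l2 2 (by decide) a (XV M 2 ha) z hz).symm)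
    (fun a ha => (M.c1 3 a (XV M 3 ha) z hz).symm) (fun a ha => V_ab M 4 z hz a (XV M 4 ha))
    (fun a ha => M.c1 4 z hz a (XV M 5 ha))

theorem T_norm3 (M : Mid t T X n V) {a b c : ZMod 12} : ∀ h ∈ T, ∀ m ∈ V a ⊔ V b ⊔ V c, h * m * h⁻¹ ∈ V a ⊔ V b ⊔ V c := by
  intro h hh
  exact conj_sup (conj_sup (fun m hm => le_sup_of_le_left (le_sup_left (b := V b)) (M.TV h hh a m hm))
    (fun m hm => le_sup_of_le_left (le_sup_right (a := V a)) (M.TV h hh b m hm)))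
    (fun m hm => le_sup_right (a := V a ⊔ V b) (M.TV h hh c m hm))

theorem T_norm4 (M : Mid t T X n V) {a b c d : ZMod 12} :
    ∀ h ∈ T, ∀ m ∈ V a ⊔ V b ⊔ V c ⊔ V d, h * m * h⁻¹ ∈ V a ⊔ V b ⊔ V c ⊔ V d := by
  intro h hh
  exact conj_sup (fun m hm => le_sup_left (b := V d) (T_norm3 M h hh m hm))
    (fun m hm => le_sup_right (a := V a ⊔ V b ⊔ V c) (M.TV h hh d m hm))

theorem cenV (E : Env t T X n) (M : Mid t T X n V) {h : G} (hh : h ∈ T) {r : ZMod 12} (hc : Cen h (X r)) :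
    Cen h (V r) := cen_of (M.dbl r) (E.tT h hh) (E.Todd h hh) (M.TV h hh r) hc

theorem fpfV (E : Env t T X n) (M : Mid t T X n V) {h : G} (hh : h ∈ T) {r : ZMod 12} (hc : Fpf h (X r)) :
    Fpf h (V r) := fpf_of (M.dbl r) (E.tT h hh) hc

/-- `[V 1, V 5] ≤ V 2 V 3 V 4` -/
theorem s4 [Finite G] (E : Env t T X n) (M : Mid t T X n V) : ∀ y ∈ V 1, ∀ v ∈ V 5, ⁅y, v⁆ ∈ V 4 ⊔ V 3 ⊔ V 2 := by
  obtain ⟨k, hk, k1, k2, -⟩ := E.tod 1 (by decide)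
  obtain ⟨l, hl, l1, l2, -⟩ := E.tod 5 (by decide)
  have HJ := towJ E M
  have X5J : ∀ b ∈ X 5, ∀ m ∈ V 4 ⊔ V 3 ⊔ V 2, b * m * b⁻¹ ∈ V 4 ⊔ V 3 ⊔ V 2 := fun b hb =>
    DJ_norm V b (V5_DJ M (XV M 5 hb))
  have X15 : ∀ a ∈ X 1, ∀ b ∈ X 5, ⁅a, b⁆ ∈ V 4 ⊔ V 3 ⊔ V 2 := by
    intro a ha b hb
    have h1 := E.s4 1 (by decide) a ha b hb
    have h2 : X (1 + 1) ⊔ X (1 + 2) ⊔ X (1 + 3) ≤ V 4 ⊔ V 3 ⊔ V 2 := by
      refine sup_le (sup_le ?_ ?_) ?_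
      · exact (XV M 2).trans (le_sup_right (a := V 4 ⊔ V 3))
      · exact (XV M 3).trans (le_sup_of_le_left (le_sup_right (a := V 4)))
      · exact (XV M 4).trans (le_sup_of_le_left (le_sup_left (b := V 3)))
    exact h2 h1
  have X1J : ∀ a ∈ X 1, ∀ m ∈ V 4 ⊔ V 3 ⊔ V 2 ⊔ X 5, a * m * a⁻¹ ∈ V 4 ⊔ V 3 ⊔ V 2 ⊔ X 5 := by
    intro a ha
    refine conj_sup (fun m hm => ?_) (fun m hm => ?_)
    · exact le_sup_left (b := X 5) (DJ_norm V a (V1_DJ M (XV M 1 ha)) m hm)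
    · exact conj_mem_of_comm (le_sup_left (b := X 5) (X15 a ha m hm)) (le_sup_right (a := V 4 ⊔ V 3 ⊔ V 2) hm)
  have QQle : QQ X 3 ≤ V 4 ⊔ V 3 ⊔ V 2 ⊔ X 5 ⊔ X 1 := by
    refine sup_le (sup_le (sup_le (sup_le ?_ ?_) ?_) ?_) ?_
    · exact le_sup_right (a := V 4 ⊔ V 3 ⊔ V 2 ⊔ X 5)
    · exact (XV M 2).trans (le_sup_of_le_left (le_sup_of_le_left (le_sup_right (a := V 4 ⊔ V 3))))
    · exact (XV M 3).trans (le_sup_of_le_left (le_sup_of_le_left (le_sup_of_le_left (le_sup_right (a := V 4)))))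
    · exact (XV M 4).trans (le_sup_of_le_left (le_sup_of_le_left (le_sup_of_le_left (le_sup_left (b := V 3)))))
    · exact le_sup_of_le_left (le_sup_right (a := V 4 ⊔ V 3 ⊔ V 2))
  refine pair (N := Nm (V 4 ⊔ V 3 ⊔ V 2)) (M0 := V 4 ⊔ V 3 ⊔ V 2) (Δ := DJ V) (t := t) (T := T) (A := X 1) (B := X 5)
    (fun g hg => hg.1) (t_Nm E HJ) (le_Nm (T_norm3 M)) (le_Nm (DJ_norm V)) (M.dbl 1) (M.dbl 5) (V1_DJ M) (V5_DJ M)
    ?_ (E.tX 1) (E.tX 5) X15 ?_ ?_ ?_ (fun h hh => E.TX h hh 1) (fun h hh => E.TX h hh 5)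
    (fun h hh => M.TV h hh 1) (fun h hh => M.TV h hh 5) hk (cenV E M hk k1)
    (k2 5 (by decide) (by decide)) (fpfV E M hk (k2 5 (by decide) (by decide))) hl (cenV E M hl l1)
    (l2 1 (by decide) (by decide)) (fpfV E M hl (l2 1 (by decide) (by decide))) (E.ttr 1) (E.ne 1) (E.ttr 5) (E.ne 5)
  · intro g hg hgt
    obtain ⟨w, hw, hc⟩ := exists_w E HJ hgt
    have hcD : w⁻¹ * g ∈ DJ V := mul_mem (inv_mem (J_DJ M hw)) hg
    set c := w⁻¹ * g with hcd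
    have h3 : ∀ a ∈ X 3, ⁅c, a⁆ ∈ X (3 - 1) ⊔ X (3 + 1) := by
      intro a ha
      have h4 := (towW E M).cent _ (hcD.2.2 a (XV M 3 ha)) (comm_fix hc (E.tX 3 a ha))
      rw [sup_comm] at h4
      exact h4
    have h5 : c ∈ QQ X 3 := by
      rcases E.cW 3 (by decide) c hc (fun a ha => hcD.1 a (XV M 2 ha)) (fun a ha => hcD.2.1 a (XV M 4 ha)) h3 with h | h
      · exact h
      · exfalso
        apply t_not M E
        intro z hz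
        have h6 := V4_QQ3 M z hz _ h
        have h7 := hcD.2.1 z hz
        calc t * z = t * (z * c) * c⁻¹ := by group
          _ = t * (c * z) * c⁻¹ := by rw [h7]
          _ = (t * c) * z * c⁻¹ := by group
          _ = (z * (t * c)) * c⁻¹ := by rw [h6]
          _ = z * t := by group
    have h6 : g ∈ V 4 ⊔ V 3 ⊔ V 2 ⊔ X 5 ⊔ X 1 := by
      have : g = w * c := by rw [hcd]; group
      rw [this]
      exact mul_mem (le_sup_of_le_left (le_sup_left (b := X 5)) hw) (QQle h5)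
    exact form3 X5J X1J h6
  · exact tow_dis HJ (M.dbl 1) (E.tX 1) fun a ha h =>
      dis E 1 ha ((sup_le (sup_le (le_FF X 1).2.2.1 (le_FF X 1).2.1) (le_FF X 1).1) h)
  · refine tow_dis HJ (M.dbl 5) (E.tX 5) fun a ha h => dis' E 0 ha ?_
    exact (sup_le (sup_le (le_FF X 11).2.2.2.2 (le_FF X 11).2.2.2.1) (le_FF X 11).2.2.1) h
  · intro a ha b hb h
    have h1 : (a⁻¹ * b) * t = t * (a⁻¹ * b) := by
      have h2 := E.tX 1 _ (inv_mem ha)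
      have h3 := E.tX 5 b hb
      calc (a⁻¹ * b) * t = a⁻¹ * (b * t) := by group
        _ = a⁻¹ * (t * b) := by rw [h3]
        _ = (a⁻¹ * t) * b := by group
        _ = (t * a⁻¹) * b := by rw [h2]
        _ = _ := by group
    have h2 := HJ.cent _ h h1
    have h3 : a ∈ FF X 1 := by
      have : a = b * (a⁻¹ * b)⁻¹ := by group
      rw [this]
      exact mul_mem ((le_FF X 1).2.2.2.1 hb)
        (inv_mem ((sup_le (sup_le (le_FF X 1).2.2.1 (le_FF X 1).2.1) (le_FF X 1).1) h2))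
    exact dis E 1 ha h3

/-! ## the level `R` -/

/-- inclusions into `V 5 ⊔ V 4 ⊔ V 3 ⊔ V 2` -/
theorem leR (V : ZMod 12 → Subgroup G) : V 5 ≤ V 5 ⊔ V 4 ⊔ V 3 ⊔ V 2 ∧ V 4 ≤ V 5 ⊔ V 4 ⊔ V 3 ⊔ V 2 ∧
    V 3 ≤ V 5 ⊔ V 4 ⊔ V 3 ⊔ V 2 ∧ V 2 ≤ V 5 ⊔ V 4 ⊔ V 3 ⊔ V 2 :=
  ⟨le_sup_of_le_left (le_sup_of_le_left le_sup_left), le_sup_of_le_left (le_sup_of_le_left le_sup_right),
    le_sup_of_le_left le_sup_right, le_sup_right⟩

theorem leJ (V : ZMod 12 → Subgroup G) : V 4 ≤ V 4 ⊔ V 3 ⊔ V 2 ∧ V 3 ≤ V 4 ⊔ V 3 ⊔ V 2 ∧ V 2 ≤ V 4 ⊔ V 3 ⊔ V 2 :=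
  ⟨le_sup_of_le_left le_sup_left, le_sup_of_le_left le_sup_right, le_sup_right⟩

theorem leW (V : ZMod 12 → Subgroup G) : V 4 ≤ V 4 ⊔ V 2 ∧ V 2 ≤ V 4 ⊔ V 2 := ⟨le_sup_left, le_sup_right⟩

theorem J_le_R (V : ZMod 12 → Subgroup G) : V 4 ⊔ V 3 ⊔ V 2 ≤ V 5 ⊔ V 4 ⊔ V 3 ⊔ V 2 :=
  sup_le (sup_le (leR V).2.1 (leR V).2.2.1) (leR V).2.2.2

/-- `g` is trivial on the factors of `V 4 < V 4 V 2 < V 4 V 3 V 2 < V 5 V 4 V 3 V 2` -/
def PR (V : ZMod 12 → Subgroup G) (g : G) : Prop :=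
  (∀ z ∈ V 4, g * z = z * g) ∧ (∀ z ∈ V 2, ⁅g, z⁆ ∈ V 4) ∧ (∀ z ∈ V 3, ⁅g, z⁆ ∈ V 4 ⊔ V 2) ∧
    ∀ z ∈ V 5, ⁅g, z⁆ ∈ V 4 ⊔ V 3 ⊔ V 2

theorem PR_W {g : G} (h : PR V g) : ∀ m ∈ V 4 ⊔ V 2, g * m * g⁻¹ ∈ V 4 ⊔ V 2 :=
  conj_sup (fun m hm => conj_mem_of_commute (h.1 m hm) ((leW V).1 hm))
    (fun m hm => conj_mem_of_comm ((leW V).1 (h.2.1 m hm)) ((leW V).2 hm))

theorem W_le_J (V : ZMod 12 → Subgroup G) : V 4 ⊔ V 2 ≤ V 4 ⊔ V 3 ⊔ V 2 := sup_le (leJ V).1 (leJ V).2.2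

theorem PR_J {g : G} (h : PR V g) : ∀ m ∈ V 4 ⊔ V 3 ⊔ V 2, g * m * g⁻¹ ∈ V 4 ⊔ V 3 ⊔ V 2 :=
  conj_sup (conj_sup (fun m hm => conj_mem_of_commute (h.1 m hm) ((leJ V).1 hm))
    (fun m hm => conj_mem_of_comm (W_le_J V (h.2.2.1 m hm)) ((leJ V).2.1 hm)))
    (fun m hm => conj_mem_of_comm ((leJ V).1 (h.2.1 m hm)) ((leJ V).2.2 hm))

theorem PR_R {g : G} (h : PR V g) : ∀ m ∈ V 5 ⊔ V 4 ⊔ V 3 ⊔ V 2, g * m * g⁻¹ ∈ V 5 ⊔ V 4 ⊔ V 3 ⊔ V 2 :=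
  conj_sup (conj_sup (conj_sup (fun m hm => conj_mem_of_comm (J_le_R V (h.2.2.2 m hm)) ((leR V).1 hm))
    (fun m hm => conj_mem_of_commute (h.1 m hm) ((leR V).2.1 hm)))
    (fun m hm => conj_mem_of_comm (J_le_R V (W_le_J V (h.2.2.1 m hm))) ((leR V).2.2.1 hm)))
    (fun m hm => conj_mem_of_comm ((leR V).2.1 (h.2.1 m hm)) ((leR V).2.2.2 hm))

def DR [Finite G] (V : ZMod 12 → Subgroup G) : Subgroup G where
  carrier := {g | PR V g}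
  one_mem' := ⟨fun z _ => by simp, fun z _ => by rw [commutatorElement_one_left]; exact one_mem _,
    fun z _ => by rw [commutatorElement_one_left]; exact one_mem _,
    fun z _ => by rw [commutatorElement_one_left]; exact one_mem _⟩
  mul_mem' := by
    intro g h hg hh
    refine ⟨fun z hz => ?_, fun z hz => ?_, fun z hz => ?_, fun z hz => ?_⟩
    · rw [mul_assoc, hh.1 z hz, ← mul_assoc, hg.1 z hz, mul_assoc]
    · rw [comm_mul_left, hg.1 _ (hh.2.1 z hz), mul_inv_cancel_right]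
      exact mul_mem (hh.2.1 z hz) (hg.2.1 z hz)
    · rw [comm_mul_left]; exact mul_mem (PR_W hg _ (hh.2.2.1 z hz)) (hg.2.2.1 z hz)
    · rw [comm_mul_left]; exact mul_mem (PR_J hg _ (hh.2.2.2 z hz)) (hg.2.2.2 z hz)
  inv_mem' := by
    intro g hg
    have i : ∀ z, ⁅g⁻¹, z⁆ = g⁻¹ * ⁅g, z⁆⁻¹ * g := fun z => by simp only [commutatorElement_def]; group
    have j : ∀ z, g * z = z * g → g⁻¹ * z * g = z := fun z h => by
      calc g⁻¹ * z * g = g⁻¹ * (z * g) := by group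
        _ = g⁻¹ * (g * z) := by rw [h]
        _ = z := by group
    refine ⟨fun z hz => ?_, fun z hz => ?_, fun z hz => ?_, fun z hz => ?_⟩
    · have := j z (hg.1 z hz)
      calc g⁻¹ * z = (g⁻¹ * z * g) * g⁻¹ := by group
        _ = _ := by rw [this]
    · rw [i, j _ (hg.1 _ (inv_mem (hg.2.1 z hz)))]; exact inv_mem (hg.2.1 z hz)
    · rw [i]; exact inv_conj_mem_of_forall (PR_W hg) _ (inv_mem (hg.2.2.1 z hz))
    · rw [i]; exact inv_conj_mem_of_forall (PR_J hg) _ (inv_mem (hg.2.2.2 z hz))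

section R

variable [Finite G]

theorem V1_DR (E : Env t T X n) (M : Mid t T X n V) : V 1 ≤ DR V := fun y hy =>
  ⟨fun z hz => M.c3 1 y hy z hz, fun z hz => one_mem_comm (M.c1 1 y hy z hz),
    fun z hz => (leW V).2 (M.s2 1 (by decide) y hy z hz), fun z hz => s4 E M y hy z hz⟩

theorem V6_DR (M : Mid t T X n V) : V 6 ≤ DR V := fun y hy =>
  ⟨fun z hz => (M.l2 4 (by decide) z hz y hy).symm, fun z hz => swap_comm (M.l4 2 (by decide) z hz y hy),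
    fun z hz => one_mem_comm (M.c3 3 z hz y hy).symm, fun z hz => one_mem_comm (M.c1 5 z hz y hy).symm⟩

theorem R_DR (M : Mid t T X n V) : V 5 ⊔ V 4 ⊔ V 3 ⊔ V 2 ≤ DR V := by
  refine sup_le (sup_le (sup_le (fun y hy => ?_) (fun y hy => ?_)) (fun y hy => ?_)) (fun y hy => ?_)
  · exact ⟨fun z hz => (M.c1 4 z hz y hy).symm, fun z hz => one_mem_comm (M.c3 2 z hz y hy).symm,
      fun z hz => (leW V).1 (swap_comm (M.s2 3 (by decide) z hz y hy)), fun z hz => one_mem_comm (V_ab M 5 y hy z hz)⟩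
  · exact ⟨fun z hz => V_ab M 4 y hy z hz, fun z hz => one_mem_comm (M.l2 2 (by decide) z hz y hy).symm,
      fun z hz => one_mem_comm (M.c1 3 z hz y hy).symm, fun z hz => one_mem_comm (M.c1 4 y hy z hz)⟩
  · exact ⟨fun z hz => M.c1 3 y hy z hz, fun z hz => one_mem_comm (M.c1 2 z hz y hy).symm,
      fun z hz => one_mem_comm (V_ab M 3 y hy z hz), fun z hz => (leJ V).1 (M.s2 3 (by decide) y hy z hz)⟩
  · exact ⟨fun z hz => M.l2 2 (by decide) y hy z hz, fun z hz => one_mem_comm (V_ab M 2 y hy z hz),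
      fun z hz => one_mem_comm (M.c1 2 y hy z hz), fun z hz => one_mem_comm (M.c3 2 y hy z hz)⟩

/-- `[V 1, V 6] ≤ V 2 V 3 V 4 V 5` -/
theorem c5 (E : Env t T X n) (M : Mid t T X n V) : ∀ y ∈ V 1, ∀ v ∈ V 6, ⁅y, v⁆ ∈ V 5 ⊔ V 4 ⊔ V 3 ⊔ V 2 := by
  obtain ⟨k, hk, k1, k2, -⟩ := E.tod 1 (by decide)
  obtain ⟨l, hl, l1, l2⟩ := E.tev 6 (by decide)
  have HR := towR E M
  have X6R : ∀ b ∈ X 6, ∀ m ∈ V 5 ⊔ V 4 ⊔ V 3 ⊔ V 2, b * m * b⁻¹ ∈ V 5 ⊔ V 4 ⊔ V 3 ⊔ V 2 := fun b hb =>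
    PR_R (V6_DR M (XV M 6 hb))
  have X16 : ∀ a ∈ X 1, ∀ b ∈ X 6, ⁅a, b⁆ ∈ V 5 ⊔ V 4 ⊔ V 3 ⊔ V 2 := by
    intro a ha b hb
    have h1 := E.c5 1 a ha b hb
    have h2 : X (1 + 1) ⊔ X (1 + 2) ⊔ X (1 + 3) ⊔ X (1 + 4) ≤ V 5 ⊔ V 4 ⊔ V 3 ⊔ V 2 :=
      sup_le (sup_le (sup_le ((XV M 2).trans (leR V).2.2.2) ((XV M 3).trans (leR V).2.2.1))
        ((XV M 4).trans (leR V).2.1)) ((XV M 5).trans (leR V).1)
    exact h2 h1
  have X1R : ∀ a ∈ X 1, ∀ m ∈ V 5 ⊔ V 4 ⊔ V 3 ⊔ V 2 ⊔ X 6, a * m * a⁻¹ ∈ V 5 ⊔ V 4 ⊔ V 3 ⊔ V 2 ⊔ X 6 := by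
    intro a ha
    refine conj_sup (fun m hm => ?_) (fun m hm => ?_)
    · exact le_sup_left (b := X 6) (PR_R (V1_DR E M (XV M 1 ha)) m hm)
    · exact conj_mem_of_comm (le_sup_left (b := X 6) (X16 a ha m hm)) (le_sup_right (a := V 5 ⊔ V 4 ⊔ V 3 ⊔ V 2) hm)
  have hR : V 5 ⊔ V 4 ⊔ V 3 ⊔ V 2 ≤ V 5 ⊔ V 4 ⊔ V 3 ⊔ V 2 ⊔ X 6 ⊔ X 1 := le_sup_of_le_left le_sup_left
  have UUle : UU X 1 ≤ V 5 ⊔ V 4 ⊔ V 3 ⊔ V 2 ⊔ X 6 ⊔ X 1 := by
    refine sup_le (sup_le (sup_le (sup_le (sup_le ?_ ?_) ?_) ?_) ?_) ?_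
    · exact le_sup_right
    · exact ((XV M 2).trans (leR V).2.2.2).trans hR
    · exact ((XV M 3).trans (leR V).2.2.1).trans hR
    · exact ((XV M 4).trans (leR V).2.1).trans hR
    · exact ((XV M 5).trans (leR V).1).trans hR
    · exact le_sup_of_le_left (le_sup_right (a := V 5 ⊔ V 4 ⊔ V 3 ⊔ V 2))
  have UUD : UU X 1 ≤ DR V := by
    refine sup_le (sup_le (sup_le (sup_le (sup_le ?_ ?_) ?_) ?_) ?_) ?_
    · exact (XV M 1).trans (V1_DR E M)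
    · exact ((XV M 2).trans (leR V).2.2.2).trans (R_DR M)
    · exact ((XV M 3).trans (leR V).2.2.1).trans (R_DR M)
    · exact ((XV M 4).trans (leR V).2.1).trans (R_DR M)
    · exact ((XV M 5).trans (leR V).1).trans (R_DR M)
    · exact (XV M 6).trans (V6_DR M)
  refine pair (N := Nm (V 5 ⊔ V 4 ⊔ V 3 ⊔ V 2)) (M0 := V 5 ⊔ V 4 ⊔ V 3 ⊔ V 2) (Δ := DR V) (t := t) (T := T)
    (A := X 1) (B := X 6)
    (fun g hg => hg.1) (t_Nm E HR) (le_Nm (T_norm4 M)) (le_Nm fun g hg => PR_R hg) (M.dbl 1) (M.dbl 6) (V1_DR E M)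
    (V6_DR M) ?_ (E.tX 1) (E.tX 6) X16 ?_ ?_ ?_ (fun h hh => E.TX h hh 1) (fun h hh => E.TX h hh 6)
    (fun h hh => M.TV h hh 1) (fun h hh => M.TV h hh 6) hk (cenV E M hk k1)
    (k2 6 (by decide) (by decide)) (fpfV E M hk (k2 6 (by decide) (by decide))) hl (cenV E M hl l1)
    (l2 1 (by decide)) (fpfV E M hl (l2 1 (by decide))) (E.ttr 1) (E.ne 1) (E.ttr 6) (E.ne 6)
  · intro g hg hgt
    obtain ⟨w, hw, hc⟩ := exists_w E HR hgt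
    have hcD : w⁻¹ * g ∈ DR V := mul_mem (inv_mem (R_DR M hw)) hg
    set c := w⁻¹ * g with hcd
    have h5 : c ∈ UU X (4 - 3) := by
      have h2 : ∀ a ∈ X (4 - 2), ⁅c, a⁆ ∈ X 4 := fun a ha =>
        (M.dbl 4).fix _ (hcD.2.1 a (XV M 2 ha)) (comm_fix hc (E.tX 2 a ha))
      have h3 : ∀ a ∈ X (4 - 1), ⁅c, a⁆ ∈ X (4 - 2) ⊔ X 4 := by
        intro a ha
        have h4 := (towW E M).cent _ (hcD.2.2.1 a (XV M 3 ha)) (comm_fix hc (E.tX 3 a ha))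
        rw [sup_comm] at h4
        exact h4
      have h4 : ∀ a ∈ X (4 + 1), ⁅c, a⁆ ∈ X (4 - 2) ⊔ X (4 - 1) ⊔ X 4 := by
        intro a ha
        have h4 := (towJ E M).cent _ (hcD.2.2.2 a (XV M 5 ha)) (comm_fix hc (E.tX 5 a ha))
        have h5 : X 4 ⊔ X 3 ⊔ X 2 ≤ X (4 - 2) ⊔ X (4 - 1) ⊔ X 4 :=
          sup_le (sup_le le_sup_right (le_sup_of_le_left le_sup_right)) (le_sup_of_le_left le_sup_left)
        exact h5 h4
      rcases E.cU 4 (by decide) c hc (fun a ha => hcD.1 a (XV M 4 ha)) h2 h3 h4 with h | h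
      · exact h
      · exfalso
        apply t_not M E
        have h6 : t ∈ DR V := by
          have : t = (t * c) * c⁻¹ := by group
          rw [this]; exact mul_mem (UUD h) (inv_mem hcD)
        exact h6.1
    have h6 : g ∈ V 5 ⊔ V 4 ⊔ V 3 ⊔ V 2 ⊔ X 6 ⊔ X 1 := by
      have : g = w * c := by rw [hcd]; group
      rw [this]
      exact mul_mem (hR hw) (UUle h5)
    exact form3 X6R X1R h6
  · refine tow_dis HR (M.dbl 1) (E.tX 1) fun a ha h => dis E 1 ha ?_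
    exact (sup_le (sup_le (sup_le (le_FF X 1).2.2.2.1 (le_FF X 1).2.2.1) (le_FF X 1).2.1) (le_FF X 1).1) h
  · refine tow_dis HR (M.dbl 6) (E.tX 6) fun a ha h => dis' E 1 ha ?_
    exact (sup_le (sup_le (sup_le (le_FF X 0).2.2.2.2 (le_FF X 0).2.2.2.1) (le_FF X 0).2.2.1) (le_FF X 0).2.1) h
  · intro a ha b hb h
    have h1 : (a⁻¹ * b) * t = t * (a⁻¹ * b) := by
      have h2 := E.tX 1 _ (inv_mem ha)
      have h3 := E.tX 6 b hb
      calc (a⁻¹ * b) * t = a⁻¹ * (b * t) := by group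
        _ = a⁻¹ * (t * b) := by rw [h3]
        _ = (a⁻¹ * t) * b := by group
        _ = (t * a⁻¹) * b := by rw [h2]
        _ = _ := by group
    have h2 := HR.cent _ h h1
    have h3 : a ∈ FF X 1 := by
      have : a = b * (a⁻¹ * b)⁻¹ := by group
      rw [this]
      exact mul_mem ((le_FF X 1).2.2.2.2 hb)
        (inv_mem ((sup_le (sup_le (sup_le (le_FF X 1).2.2.2.1 (le_FF X 1).2.2.1) (le_FF X 1).2.1) (le_FF X 1).1) h2))
    exact dis E 1 ha h3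

end R

end Cfsg.Agent.HexGrow.Level
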