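import Cfsg.Agent.HexGrow.Tools

/-!
# Growth for `G2(q)`, `3D4(q)`, phase (B): the doubled long root groups are elementary abelian and
`[V 2, V 4] = 1`, `[X 6, V 2] ≤ V 4`.
-/

set_option autoImplicit false

namespace Cfsg.Agent.HexGrow.LongTwo

open Cfsg.Agent.HexGrow.Defs Cfsg.Agent.HexGrow.Basic Cfsg.Agent.HexGrow.Tools
open scoped commutatorElement

variable {G : Type*} [Group G] {t : G} {T : Subgroup G} {X : ZMod 12 → Subgroup G} {n : ZMod 12 → G}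
  {V : ZMod 12 → Subgroup G}

theorem tinv (E : Env t T X n) : t⁻¹ = t := inv_eq_of_mul_eq_one_left E.tt

theorem t_conj (E : Env t T X n) (g : G) : t * g * t = ⁅t, g⁆ * g := by
  rw [commutatorElement_def, tinv E]; group

theorem t_sup (E : Env t T X n) : ∀ g ∈ ⨆ r, X r, g * t = t * g := by
  have : (⨆ r, X r) ≤ Subgroup.centralizer {t} := by
    refine iSup_le fun r a ha => ?_
    rw [Subgroup.mem_centralizer_singleton_iff]; exact E.tX r a ha
  intro g hg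
  have := this hg
  rwa [Subgroup.mem_centralizer_singleton_iff] at this

theorem X_le (X : ZMod 12 → Subgroup G) (r : ZMod 12) : X r ≤ ⨆ r, X r := le_iSup X r

theorem QQ_le (X : ZMod 12 → Subgroup G) (r : ZMod 12) : QQ X r ≤ ⨆ r, X r := by
  unfold QQ
  exact sup_le (sup_le (sup_le (sup_le (X_le X _) (X_le X _)) (X_le X _)) (X_le X _)) (X_le X _)

/-- `[t, g] = 1` iff they commute -/
theorem comm_one_iff {g : G} : ⁅t, g⁆ = 1 ↔ g * t = t * g := by
  rw [commutatorElement_eq_one_iff_mul_comm]; exact eq_comm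

section W

theorem W_le (X : ZMod 12 → Subgroup G) : X 2 ⊔ X 4 ≤ QQ X 3 :=
  sup_le (le_QQ X 3).2.1 (le_QQ X 3).2.2.2.1

theorem W_t (E : Env t T X n) {w : G} (hw : w ∈ X 2 ⊔ X 4) : w * t = t * w :=
  t_sup E w (QQ_le X 3 (W_le X hw))

theorem tW (E : Env t T X n) : t ∉ X 2 ⊔ X 4 := fun h => E.tnot (QQ_le X 3 (W_le X h))

theorem W_mem (E : Env t T X n) {w : G} (hw : w ∈ X 2 ⊔ X 4) : ∃ m ∈ X 2, ∃ z ∈ X 4, m * z = w :=
  mem_sup_of_comm (fun a ha b hb => E.l2 2 (by decide) a ha b hb) hw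

theorem W_sq (E : Env t T X n) {w : G} (hw : w ∈ X 2 ⊔ X 4) : w * w = 1 := by
  obtain ⟨m, hm, z, hz, rfl⟩ := W_mem E hw
  have h := E.l2 2 (by decide) m hm z hz
  calc m * z * (m * z) = m * (z * m) * z := by group
    _ = m * (m * z) * z := by rw [h]
    _ = (m * m) * (z * z) := by group
    _ = 1 := by rw [E.sq _ m hm, E.sq _ z hz, one_mul]

theorem W_QQ (E : Env t T X n) : ∀ w ∈ X 2 ⊔ X 4, ∀ a ∈ QQ X 3, w * a = a * w := by
  intro w hw a ha
  have h2 : ∀ m ∈ X 2, ∀ a ∈ QQ X 3, m * a = a * m := fun m hm =>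
    comm_QQ (r := 3) (fun a ha => (E.c1 1 a ha m hm).symm)
      (fun a ha => by
        have : X 2 ≤ Subgroup.centralizer {m} := by
          intro b hb
          rw [Subgroup.mem_centralizer_singleton_iff]
          have h1 := E.sq 2 _ ((X 2).mul_mem hm hb)
          have h2 := E.sq 2 m hm
          have h3 := E.sq 2 b hb
          calc b * m = (m * m) * (b * m) * (b * b) := by rw [h2, h3]; group
            _ = m * (m * b * (m * b)) * b := by group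
            _ = m * b := by rw [h1]; group
        have := this (show a ∈ X 2 from ha)
        rw [Subgroup.mem_centralizer_singleton_iff] at this
        exact this.symm)
      (fun a ha => E.c1 2 m hm a ha) (fun a ha => E.l2 2 (by decide) m hm a ha)
      (fun a ha => E.c3 2 m hm a ha)
  have h4 : ∀ m ∈ X 4, ∀ a ∈ QQ X 3, m * a = a * m := fun m hm =>
    comm_QQ (r := 3) (fun a ha => (E.c3 1 a ha m hm).symm)
      (fun a ha => (E.l2 2 (by decide) a ha m hm).symm)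
      (fun a ha => (E.c1 3 a ha m hm).symm)
      (fun b hb => by
        have hb : b ∈ X 4 := hb
        have h1 := E.sq 4 _ ((X 4).mul_mem hm hb)
        have h2 := E.sq 4 m hm
        have h3 := E.sq 4 b hb
        symm
        calc b * m = (m * m) * (b * m) * (b * b) := by rw [h2, h3]; group
          _ = m * (m * b * (m * b)) * b := by group
          _ = m * b := by rw [h1]; group)
      (fun a ha => E.c1 4 m hm a ha)
  obtain ⟨m, hm, z, hz, rfl⟩ := W_mem E hw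
  calc m * z * a = m * (z * a) := by group
    _ = m * (a * z) := by rw [h4 z hz a ha]
    _ = (m * a) * z := by group
    _ = (a * m) * z := by rw [h2 m hm a ha]
    _ = a * (m * z) := by group

end W

/-- the elements centralising `Q2` whose commutator with `t` lies in `W` -/
def NP (t : G) (X : ZMod 12 → Subgroup G) (c : G) : Prop :=
  (∀ a ∈ QQ X 3, c * a = a * c) ∧ ⁅t, c⁆ ∈ X 2 ⊔ X 4

theorem NP_mul {c c' : G} (h : NP t X c) (h' : NP t X c') : NP t X (c * c') := by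
  refine ⟨fun a ha => ?_, ?_⟩
  · rw [mul_assoc, h'.1 a ha, ← mul_assoc, h.1 a ha, mul_assoc]
  · have : ⁅t, c * c'⁆ = ⁅t, c⁆ * ⁅t, c'⁆ := by
      have e : ⁅t, c * c'⁆ = ⁅t, c⁆ * (c * ⁅t, c'⁆ * c⁻¹) := by simp only [commutatorElement_def]; group
      rw [e, h.1 _ (W_le X h'.2), mul_inv_cancel_right]
    rw [this]; exact mul_mem h.2 h'.2

theorem NP_inv {c : G} (h : NP t X c) : NP t X c⁻¹ := by
  refine ⟨fun a ha => ?_, ?_⟩
  · have := h.1 a ha
    calc c⁻¹ * a = c⁻¹ * (a * c) * c⁻¹ := by group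
      _ = c⁻¹ * (c * a) * c⁻¹ := by rw [this]
      _ = a * c⁻¹ := by group
  · have : ⁅t, c⁻¹⁆ = c⁻¹ * (⁅t, c⁆⁻¹ * c) := by simp only [commutatorElement_def]; group
    have h2 := h.1 _ (W_le X (inv_mem h.2))
    rw [this, ← h2, inv_mul_cancel_left]
    exact inv_mem h.2

theorem NP_W (E : Env t T X n) {w : G} (hw : w ∈ X 2 ⊔ X 4) : NP t X w :=
  ⟨W_QQ E w hw, by rw [comm_one_iff.mpr (W_t E hw)]; exact one_mem _⟩

theorem NP_fix (E : Env t T X n) {c : G} (h : NP t X c) (hc : c * t = t * c) : c ∈ X 2 ⊔ X 4 ∨ t * c ∈ X 2 ⊔ X 4 :=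
  E.cQ2 3 (by decide) c hc h.1

theorem NP_t (E : Env t T X n) {c : G} (h : NP t X c) : t * (c * c) = (c * c) * t := by
  have h1 := t_conj E c
  have h2 : t * (c * c) * t = c * c := by
    calc t * (c * c) * t = (t * c * t) * (t * c * t) := by
          have := E.tt
          calc t * (c * c) * t = t * c * 1 * c * t := by group
            _ = t * c * (t * t) * c * t := by rw [this]
            _ = (t * c * t) * (t * c * t) := by group
      _ = ⁅t, c⁆ * c * (⁅t, c⁆ * c) := by rw [h1]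
      _ = ⁅t, c⁆ * (c * ⁅t, c⁆) * c := by group
      _ = ⁅t, c⁆ * (⁅t, c⁆ * c) * c := by rw [h.1 _ (W_le X h.2)]
      _ = (⁅t, c⁆ * ⁅t, c⁆) * (c * c) := by group
      _ = c * c := by rw [W_sq E h.2, one_mul]
  calc t * (c * c) = t * (c * c) * (t * t) := by rw [E.tt, mul_one]
    _ = (t * (c * c) * t) * t := by group
    _ = (c * c) * t := by rw [h2]

theorem NP_sq (E : Env t T X n) {c : G} (h : NP t X c) : c * c ∈ X 2 ⊔ X 4 := by
  rcases NP_fix E (NP_mul h h) (NP_t E h).symm with h1 | h1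
  · exact h1
  · exfalso
    -- `c` commutes with `t`
    have hct : c * t = t * c := by
      have h2 := h.1 _ (W_le X h1)
      have : c * t * (c * c) = t * c * (c * c) := by
        calc c * t * (c * c) = c * (t * (c * c)) := by group
          _ = t * (c * c) * c := h2
          _ = t * c * (c * c) := by group
      exact mul_right_cancel this
    have hcc : c * c = 1 := by
      rcases NP_fix E h hct with h3 | h3
      · exact W_sq E h3
      · have := W_sq E h3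
        calc c * c = (t * t) * (c * c) := by rw [E.tt, one_mul]
          _ = t * (t * c) * c := by group
          _ = t * (c * t) * c := by rw [hct]
          _ = t * c * (t * c) := by group
          _ = 1 := this
    rw [hcc, mul_one] at h1
    exact tW E h1

theorem NP_comm (E : Env t T X n) {c c' : G} (h : NP t X c) (h' : NP t X c') : ⁅c, c'⁆ ∈ X 2 ⊔ X 4 := by
  have h1 := NP_sq E h
  have h2 := NP_sq E h'
  have h3 := NP_sq E (NP_mul h h')
  have h4 := h'.1 _ (W_le X (inv_mem h1))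
  have : ⁅c, c'⁆ = (c * c' * (c * c')) * ((c * c)⁻¹ * (c' * c')⁻¹) := by
    rw [commutatorElement_def]
    calc c * c' * c⁻¹ * c'⁻¹ = (c * c' * (c * c')) * (c'⁻¹ * ((c * c)⁻¹ * c') * (c' * c')⁻¹) := by group
      _ = (c * c' * (c * c')) * (c'⁻¹ * (c' * (c * c)⁻¹) * (c' * c')⁻¹) := by rw [h4]
      _ = _ := by group
  rw [this]
  exact mul_mem h3 (mul_mem (inv_mem h1) (inv_mem h2))

theorem NP_V2 (L : Long t T X n V) {y : G} (hy : y ∈ V 2) : NP t X y :=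
  ⟨comm_QQ (r := 3) (L.near 2 1 (by decide) (by decide) y hy) (L.near 2 2 (by decide) (by decide) y hy)
    (L.near 2 3 (by decide) (by decide) y hy) (L.near 2 4 (by decide) (by decide) y hy)
    (L.near 2 5 (by decide) (by decide) y hy), le_sup_left (a := X 2) (L.br 2 (by decide) y hy)⟩

theorem NP_V4 (L : Long t T X n V) {y : G} (hy : y ∈ V 4) : NP t X y :=
  ⟨comm_QQ (r := 3) (L.near 4 1 (by decide) (by decide) y hy) (L.near 4 2 (by decide) (by decide) y hy)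
    (L.near 4 3 (by decide) (by decide) y hy) (L.near 4 4 (by decide) (by decide) y hy)
    (L.near 4 5 (by decide) (by decide) y hy), le_sup_right (a := X 2) (L.br 4 (by decide) y hy)⟩

/-- `X 6` normalises `Q2` -/
theorem X6_QQ (E : Env t T X n) {x : G} (hx : x ∈ X 6) : ∀ a ∈ QQ X 3, x * a * x⁻¹ ∈ QQ X 3 := by
  obtain ⟨l1, l2, l3, l4, l5⟩ := le_QQ X 3
  have l2 : X 2 ≤ QQ X 3 := l2
  have l4 : X 4 ≤ QQ X 3 := l4
  have l5 : X 5 ≤ QQ X 3 := l5
  refine conj_QQ (r := 3) (fun a ha => ?_) (fun a ha => ?_) (fun a ha => ?_) (fun a ha => ?_) (fun a ha => ?_)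
  · refine conj_mem_of_comm' ?_ (l1 ha)
    exact (sup_le (sup_le (sup_le l2 l3) l4) l5) (E.c5 1 a ha x hx)
  · refine conj_mem_of_comm' ?_ (l2 ha)
    exact l4 (E.l4 2 (by decide) a ha x hx)
  · exact conj_mem_of_commute (E.c3 3 a ha x hx).symm (l3 ha)
  · exact conj_mem_of_commute (E.l2 4 (by decide) a ha x hx).symm (l4 ha)
  · exact conj_mem_of_commute (E.c1 5 a ha x hx).symm (l5 ha)

/-- `x y x⁻¹ ∈ ⟨t⟩ X 2 V 4 y` -/
theorem conj_y (E : Env t T X n) (L : Long t T X n V) {x y : G} (hx : x ∈ X 6) (hy : y ∈ V 2) :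
    ∃ m ∈ X 2, ∃ z ∈ V 4, x * y * x⁻¹ = m * z * y ∨ x * y * x⁻¹ = t * (m * z * y) := by
  have hxt := E.tX 6 x hx
  have hNy := NP_V2 L hy
  have hNu : NP t X (x * y * x⁻¹) := by
    refine ⟨fun a ha => ?_, ?_⟩
    · have h1 := X6_QQ E ((X 6).inv_mem hx) a ha
      rw [inv_inv] at h1
      have h2 := hNy.1 _ h1
      calc x * y * x⁻¹ * a = x * (y * (x⁻¹ * a * x)) * x⁻¹ := by group
        _ = x * ((x⁻¹ * a * x) * y) * x⁻¹ := by rw [h2]
        _ = a * (x * y * x⁻¹) := by group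
    · have : ⁅t, x * y * x⁻¹⁆ = x * ⁅t, y⁆ * x⁻¹ := by
        simp only [commutatorElement_def]
        have h1 : t * x = x * t := hxt.symm
        have h2 : x⁻¹ * t⁻¹ = t⁻¹ * x⁻¹ := by rw [← mul_inv_rev, ← mul_inv_rev, h1]
        calc t * (x * y * x⁻¹) * t⁻¹ * (x * y * x⁻¹)⁻¹ = (t * x) * y * (x⁻¹ * t⁻¹) * (x * y⁻¹ * x⁻¹) := by group
          _ = (x * t) * y * (t⁻¹ * x⁻¹) * (x * y⁻¹ * x⁻¹) := by rw [h1, h2]
          _ = x * (t * y * t⁻¹ * y⁻¹) * x⁻¹ := by group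
      rw [this]
      have hb := L.br 2 (by decide) y hy
      have h3 : ⁅x, ⁅t, y⁆⁆ ∈ X 4 := by
        rw [← commutatorElement_inv]
        exact (X 4).inv_mem (E.l4 2 (by decide) _ hb x hx)
      have e : x * ⁅t, y⁆ * x⁻¹ = ⁅x, ⁅t, y⁆⁆ * ⁅t, y⁆ := by
        rw [commutatorElement_def x]; group
      rw [e]
      exact mul_mem (le_sup_right (a := X 2) h3) (le_sup_left (b := X 4) hb)
  have hb := L.br 2 (by decide) y hy
  have h3 : ⁅x, ⁅t, y⁆⁆ ∈ X 4 := by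
    rw [← commutatorElement_inv]
    exact (X 4).inv_mem (E.l4 2 (by decide) _ hb x hx)
  obtain ⟨z, hz, hzt⟩ := L.onto 4 (by decide) _ h3
  -- `c = x y x⁻¹ y⁻¹ z⁻¹` commutes with `t`
  have hNz := NP_V4 L hz
  have hNc : NP t X (x * y * x⁻¹ * y⁻¹ * z⁻¹) := NP_mul (NP_mul hNu (NP_inv hNy)) (NP_inv hNz)
  have hc : (x * y * x⁻¹ * y⁻¹ * z⁻¹) * t = t * (x * y * x⁻¹ * y⁻¹ * z⁻¹) := by
    have e1 : t * (x * y * x⁻¹) * t = (x * ⁅t, y⁆ * x⁻¹) * (x * y * x⁻¹) := by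
      have h1 : t * x = x * t := hxt.symm
      have h2 : x⁻¹ * t = t * x⁻¹ := by
        calc x⁻¹ * t = x⁻¹ * (t * x) * x⁻¹ := by group
          _ = x⁻¹ * (x * t) * x⁻¹ := by rw [h1]
          _ = t * x⁻¹ := by group
      calc t * (x * y * x⁻¹) * t = (t * x) * y * (x⁻¹ * t) := by group
        _ = (x * t) * y * (t * x⁻¹) := by rw [h1, h2]
        _ = x * (t * y * t) * x⁻¹ := by group
        _ = x * (⁅t, y⁆ * y) * x⁻¹ := by rw [t_conj E]
        _ = _ := by group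
    have e2 : t * y * t = ⁅t, y⁆ * y := t_conj E y
    have e3 : t * z * t = ⁅t, z⁆ * z := t_conj E z
    have e2' : t * y⁻¹ * t = y⁻¹ * ⁅t, y⁆⁻¹ := by
      calc t * y⁻¹ * t = (t⁻¹ * y * t⁻¹)⁻¹ := by group
        _ = (t * y * t)⁻¹ := by rw [tinv E]
        _ = y⁻¹ * ⁅t, y⁆⁻¹ := by rw [e2]; group
    have e3' : t * z⁻¹ * t = z⁻¹ * ⁅t, z⁆⁻¹ := by
      calc t * z⁻¹ * t = (t⁻¹ * z * t⁻¹)⁻¹ := by group
        _ = (t * z * t)⁻¹ := by rw [tinv E]
        _ = z⁻¹ * ⁅t, z⁆⁻¹ := by rw [e3]; group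
    set a := ⁅t, y⁆ with ha
    set b := ⁅t, z⁆ with hb'
    set u := x * y * x⁻¹ with hu
    have hbW : b ∈ X 2 ⊔ X 4 := hNz.2
    have haW : a ∈ X 2 ⊔ X 4 := hNy.2
    have hx' : x * a * x⁻¹ = b * a := by rw [hzt, commutatorElement_def]; group
    -- all of `a, b` commute with `u, y, z`
    have c1 : ∀ w ∈ X 2 ⊔ X 4, (u * y⁻¹ * z⁻¹) * w = w * (u * y⁻¹ * z⁻¹) := fun w hw => hNc.1 w (W_le X hw)
    have c2 : ∀ w ∈ X 2 ⊔ X 4, (y⁻¹) * w = w * (y⁻¹) := fun w hw => (NP_inv hNy).1 w (W_le X hw)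
    have c3 : ∀ w ∈ X 2 ⊔ X 4, u * w = w * u := fun w hw => hNu.1 w (W_le X hw)
    have key : t * (u * y⁻¹ * z⁻¹) * t = u * y⁻¹ * z⁻¹ := by
      calc t * (u * y⁻¹ * z⁻¹) * t = (t * u * t) * (t * y⁻¹ * t) * (t * z⁻¹ * t) := by
            have := E.tt
            calc t * (u * y⁻¹ * z⁻¹) * t = t * u * 1 * y⁻¹ * 1 * z⁻¹ * t := by group
              _ = t * u * (t * t) * y⁻¹ * (t * t) * z⁻¹ * t := by rw [this]
              _ = _ := by group
        _ = (b * a * u) * (y⁻¹ * a⁻¹) * (z⁻¹ * b⁻¹) := by rw [e1, e2', e3', hx']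
        _ = b * a * u * (y⁻¹ * a⁻¹) * z⁻¹ * b⁻¹ := by group
        _ = b * a * u * (a⁻¹ * y⁻¹) * z⁻¹ * b⁻¹ := by rw [c2 _ (inv_mem haW)]
        _ = b * a * (u * a⁻¹) * y⁻¹ * z⁻¹ * b⁻¹ := by group
        _ = b * a * (a⁻¹ * u) * y⁻¹ * z⁻¹ * b⁻¹ := by rw [c3 _ (inv_mem haW)]
        _ = b * ((u * y⁻¹ * z⁻¹) * b⁻¹) := by group
        _ = b * (b⁻¹ * (u * y⁻¹ * z⁻¹)) := by rw [c1 _ (inv_mem hbW)]
        _ = u * y⁻¹ * z⁻¹ := by group
    calc (u * y⁻¹ * z⁻¹) * t = (t * (u * y⁻¹ * z⁻¹) * t) * t := by rw [key]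
      _ = t * (u * y⁻¹ * z⁻¹) * (t * t) := by group
      _ = t * (u * y⁻¹ * z⁻¹) := by rw [E.tt, mul_one]
  rcases NP_fix E hNc hc with h1 | h1
  · obtain ⟨m, hm, z', hz', e⟩ := W_mem E h1
    refine ⟨m, hm, z' * z, (V 4).mul_mem (L.le 4 (by decide) hz') hz, Or.inl ?_⟩
    calc x * y * x⁻¹ = (x * y * x⁻¹ * y⁻¹ * z⁻¹) * z * y := by group
      _ = m * z' * z * y := by rw [e]
      _ = m * (z' * z) * y := by group
  · obtain ⟨m, hm, z', hz', e⟩ := W_mem E h1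
    refine ⟨m, hm, z' * z, (V 4).mul_mem (L.le 4 (by decide) hz') hz, Or.inr ?_⟩
    calc x * y * x⁻¹ = (t * t) * (x * y * x⁻¹ * y⁻¹ * z⁻¹) * z * y := by rw [E.tt]; group
      _ = t * (t * (x * y * x⁻¹ * y⁻¹ * z⁻¹)) * z * y := by group
      _ = t * (m * z') * z * y := by rw [e]
      _ = _ := by group

/-- `X 2 ∩ X 4 = 1` -/
theorem X24 (E : Env t T X n) {a : G} (h2 : a ∈ X 2) (h4 : a ∈ X 4) : a = 1 := by
  obtain ⟨x, hx, hx1⟩ := E.ne 6
  by_contra ha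
  exact E.l4n 2 (by decide) a h2 x hx ha hx1 (E.l2 4 (by decide) a h4 x hx)

theorem X2V4 (E : Env t T X n) (L : Long t T X n V) {a : G} (h2 : a ∈ X 2) (h4 : a ∈ V 4) : a = 1 :=
  X24 E h2 (L.fix 4 (by decide) a h4 (E.tX 2 a h2))

/-- two different nontrivial elements -/
theorem two (E : Env t T X n) (r : ZMod 12) : ∃ a ∈ X r, ∃ b ∈ X r, a ≠ 1 ∧ b ≠ 1 ∧ a ≠ b := by
  obtain ⟨h, hT, hf⟩ := E.tfp r
  obtain ⟨a, ha, ha1⟩ := E.ne r
  refine ⟨a, ha, h * a * h⁻¹, E.TX h hT r a ha, ha1, ?_, ?_⟩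
  · intro e
    apply ha1
    calc a = h⁻¹ * (h * a * h⁻¹) * h := by group
      _ = 1 := by rw [e]; group
  · intro e
    exact ha1 (hf a ha e.symm)

theorem S_mem (L : Long t T X n V) {s : G} (hs : s ∈ X 2 ⊔ V 4) : ∃ m ∈ X 2, ∃ z ∈ V 4, m * z = s :=
  mem_sup_of_comm (fun a ha b hb => (L.near 4 2 (by decide) (by decide) b hb a ha).symm) hs

theorem S_t (E : Env t T X n) (L : Long t T X n V) {s : G} (hs : s ∈ X 2 ⊔ V 4) : t * s * t ∈ X 2 ⊔ V 4 := by
  have : ∀ s ∈ X 2 ⊔ V 4, t * s * t⁻¹ ∈ X 2 ⊔ V 4 := by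
    refine conj_sup (fun a ha => ?_) (fun z hz => ?_)
    · exact conj_mem_of_commute (E.tX 2 a ha).symm (le_sup_left (b := V 4) ha)
    · exact conj_mem_of_comm (le_sup_right (a := X 2) (L.le 4 (by decide) (L.br 4 (by decide) z hz)))
        (le_sup_right (a := X 2) hz)
  have := this s hs
  rwa [tinv E] at this

theorem S_x (E : Env t T X n) (L : Long t T X n V) {x : G} (hx : x ∈ X 6) :
    ∀ s ∈ X 2 ⊔ V 4, x * s * x⁻¹ ∈ X 2 ⊔ V 4 := by
  refine conj_sup (fun a ha => ?_) (fun z hz => ?_)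
  · exact conj_mem_of_comm' (le_sup_right (a := X 2) (L.le 4 (by decide) (E.l4 2 (by decide) a ha x hx)))
      (le_sup_left (b := V 4) ha)
  · exact conj_mem_of_commute (L.near 4 6 (by decide) (by decide) z hz x hx).symm (le_sup_right (a := X 2) hz)

theorem conj_S (E : Env t T X n) (L : Long t T X n V) {x y : G} (hx : x ∈ X 6) (hy : y ∈ V 2) :
    x * y * x⁻¹ * y⁻¹ ∈ X 2 ⊔ V 4 ∨ t * (x * y * x⁻¹ * y⁻¹) ∈ X 2 ⊔ V 4 := by
  obtain ⟨m, hm, z, hz, h | h⟩ := conj_y E L hx hy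
  · left; rw [h, mul_inv_cancel_right]
    exact mul_mem (le_sup_left (b := V 4) hm) (le_sup_right (a := X 2) hz)
  · right
    have : t * (x * y * x⁻¹ * y⁻¹) = m * z := by
      rw [h]
      calc t * (t * (m * z * y) * y⁻¹) = (t * t) * (m * z) := by group
        _ = m * z := by rw [E.tt, one_mul]
    rw [this]
    exact mul_mem (le_sup_left (b := V 4) hm) (le_sup_right (a := X 2) hz)

theorem exists_x0 (E : Env t T X n) (L : Long t T X n V) {y : G} (hy : y ∈ V 2) :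
    ∃ x ∈ X 6, x ≠ 1 ∧ x * y * x⁻¹ * y⁻¹ ∈ X 2 ⊔ V 4 := by
  obtain ⟨a, ha, b, hb, ha1, hb1, hab⟩ := two E 6
  rcases conj_S E L ha hy with h1 | h1
  · exact ⟨a, ha, ha1, h1⟩
  rcases conj_S E L hb hy with h2 | h2
  · exact ⟨b, hb, hb1, h2⟩
  refine ⟨b * a, (X 6).mul_mem hb ha, ?_, ?_⟩
  · intro e
    apply hab
    have h3 := E.sq 6 b hb
    calc a = (b * b) * a := by rw [h3, one_mul]
      _ = b * (b * a) := by group
      _ = b := by rw [e, mul_one]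
  · -- `b a y a⁻¹ b⁻¹ y⁻¹ = b (a y a⁻¹ y⁻¹) b⁻¹ (b y b⁻¹ y⁻¹)`
    set u := a * y * a⁻¹ * y⁻¹ with hu
    set v := b * y * b⁻¹ * y⁻¹ with hv
    have e : b * a * y * (b * a)⁻¹ * y⁻¹ = (t * (b * (t * u) * b⁻¹) * t) * (t * v) := by
      have hbt : t * b = b * t := (E.tX 6 b hb).symm
      calc b * a * y * (b * a)⁻¹ * y⁻¹ = b * u * b⁻¹ * v := by rw [hu, hv]; group
        _ = (t * t) * b * u * b⁻¹ * (t * t) * v := by rw [E.tt]; group
        _ = t * (t * b) * u * b⁻¹ * (t * t) * v := by group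
        _ = t * (b * t) * u * b⁻¹ * (t * t) * v := by rw [hbt]
        _ = _ := by group
    rw [e]
    exact mul_mem (S_t E L (S_x E L hb _ h1)) h2

/-- the commutator `[w, y]` (`w ∈ V 4`, `y ∈ V 2`) after conjugation by `x ∈ X 6` -/
theorem conj_comm_A (E : Env t T X n) (L : Long t T X n V) {x y w : G} (hx : x ∈ X 6) (hy : y ∈ V 2) (hw : w ∈ V 4)
    (h : x * y * x⁻¹ * y⁻¹ ∈ X 2 ⊔ V 4) : x * ⁅w, y⁆ * x⁻¹ = ⁅w, y⁆ := by
  obtain ⟨m, hm, z, hz, e⟩ := S_mem L h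
  have hg : ⁅w, y⁆ ∈ X 2 ⊔ X 4 := NP_comm E (NP_V4 L hw) (NP_V2 L hy)
  have hxw : x * w * x⁻¹ = w := by
    rw [← L.near 4 6 (by decide) (by decide) w hw x hx, mul_inv_cancel_right]
  have hxy : x * y * x⁻¹ = m * z * y := by rw [e]; group
  have c1 : w * (m * z) = (m * z) * w := by
    rw [← mul_assoc, L.near 4 2 (by decide) (by decide) w hw m hm, mul_assoc, L.ab 4 (by decide) w hw z hz, mul_assoc]
  have c2 : (m * z) * ⁅w, y⁆ = ⁅w, y⁆ * (m * z) := by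
    have h1 := W_QQ E _ hg _ (W_le X (le_sup_left (b := X 4) hm))
    have h2 := (NP_V4 L hz).1 _ (W_le X hg)
    calc (m * z) * ⁅w, y⁆ = m * (z * ⁅w, y⁆) := by group
      _ = m * (⁅w, y⁆ * z) := by rw [h2]
      _ = (m * ⁅w, y⁆) * z := by group
      _ = (⁅w, y⁆ * m) * z := by rw [h1]
      _ = _ := by group
  calc x * ⁅w, y⁆ * x⁻¹ = (x * w * x⁻¹) * (x * y * x⁻¹) * (x * w * x⁻¹)⁻¹ * (x * y * x⁻¹)⁻¹ := by
        rw [commutatorElement_def]; group
    _ = w * (m * z * y) * w⁻¹ * (m * z * y)⁻¹ := by rw [hxw, hxy]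
    _ = (w * (m * z)) * y * w⁻¹ * y⁻¹ * (m * z)⁻¹ := by group
    _ = ((m * z) * w) * y * w⁻¹ * y⁻¹ * (m * z)⁻¹ := by rw [c1]
    _ = (m * z) * ⁅w, y⁆ * (m * z)⁻¹ := by rw [commutatorElement_def]; group
    _ = ⁅w, y⁆ := by rw [c2, mul_inv_cancel_right]

theorem conj_comm_B (E : Env t T X n) (L : Long t T X n V) {x y w : G} (hx : x ∈ X 6) (hy : y ∈ V 2) (hw : w ∈ V 4)
    (h : t * (x * y * x⁻¹ * y⁻¹) ∈ X 2 ⊔ V 4) : x * ⁅w, y⁆ * x⁻¹ = ⁅t, w⁆ * ⁅w, y⁆ := by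
  obtain ⟨m, hm, z, hz, e⟩ := S_mem L h
  have hg : ⁅w, y⁆ ∈ X 2 ⊔ X 4 := NP_comm E (NP_V4 L hw) (NP_V2 L hy)
  have hxw : x * w * x⁻¹ = w := by
    rw [← L.near 4 6 (by decide) (by decide) w hw x hx, mul_inv_cancel_right]
  have hxy : x * y * x⁻¹ = t * (m * z) * y := by
    rw [e]
    calc x * y * x⁻¹ = (t * t) * (x * y * x⁻¹) := by rw [E.tt, one_mul]
      _ = _ := by group
  have c1 : w * (m * z) = (m * z) * w := by
    rw [← mul_assoc, L.near 4 2 (by decide) (by decide) w hw m hm, mul_assoc, L.ab 4 (by decide) w hw z hz, mul_assoc]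
  have c2 : (m * z) * ⁅w, y⁆ = ⁅w, y⁆ * (m * z) := by
    have h1 := W_QQ E _ hg _ (W_le X (le_sup_left (b := X 4) hm))
    have h2 := (NP_V4 L hz).1 _ (W_le X hg)
    calc (m * z) * ⁅w, y⁆ = m * (z * ⁅w, y⁆) := by group
      _ = m * (⁅w, y⁆ * z) := by rw [h2]
      _ = (m * ⁅w, y⁆) * z := by group
      _ = (⁅w, y⁆ * m) * z := by rw [h1]
      _ = _ := by group
  have c3 : (m * z) * y * w⁻¹ * y⁻¹ * (m * z)⁻¹ = w⁻¹ * ⁅w, y⁆ := by
    calc (m * z) * y * w⁻¹ * y⁻¹ * (m * z)⁻¹ = w⁻¹ * (w * (m * z)) * y * w⁻¹ * y⁻¹ * (m * z)⁻¹ := by group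
      _ = w⁻¹ * ((m * z) * w) * y * w⁻¹ * y⁻¹ * (m * z)⁻¹ := by rw [c1]
      _ = w⁻¹ * ((m * z) * ⁅w, y⁆ * (m * z)⁻¹) := by rw [commutatorElement_def]; group
      _ = w⁻¹ * ⁅w, y⁆ := by rw [c2, mul_inv_cancel_right]
  have c4 : t * ⁅w, y⁆ = ⁅w, y⁆ * t := (W_t E hg).symm
  calc x * ⁅w, y⁆ * x⁻¹ = (x * w * x⁻¹) * (x * y * x⁻¹) * (x * w * x⁻¹)⁻¹ * (x * y * x⁻¹)⁻¹ := by
        rw [commutatorElement_def]; group
    _ = w * (t * (m * z) * y) * w⁻¹ * (t * (m * z) * y)⁻¹ := by rw [hxw, hxy]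
    _ = w * t * ((m * z) * y * w⁻¹ * y⁻¹ * (m * z)⁻¹) * t⁻¹ := by group
    _ = w * t * (w⁻¹ * ⁅w, y⁆) * t⁻¹ := by rw [c3]
    _ = w * t * w⁻¹ * (⁅w, y⁆ * t) * (t⁻¹ * t⁻¹) := by group
    _ = w * t * w⁻¹ * (t * ⁅w, y⁆) * (t⁻¹ * t⁻¹) := by rw [c4]
    _ = w * (t * w⁻¹ * t) * ⁅w, y⁆ * (t⁻¹ * t⁻¹) := by group
    _ = w * (t⁻¹ * w * t⁻¹)⁻¹ * ⁅w, y⁆ * (t * t)⁻¹ := by group
    _ = w * (t * w * t)⁻¹ * ⁅w, y⁆ := by rw [tinv E, E.tt, inv_one, mul_one]
    _ = w * (⁅t, w⁆ * w)⁻¹ * ⁅w, y⁆ := by rw [t_conj E w]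
    _ = ⁅t, w⁆⁻¹ * ⁅w, y⁆ := by group
    _ = ⁅t, w⁆ * ⁅w, y⁆ := by
      rw [inv_eq_of_mul_eq_one_left (E.sq 4 _ (L.br 4 (by decide) w hw))]

theorem comm_X4 (E : Env t T X n) (L : Long t T X n V) {y w : G} (hy : y ∈ V 2) (hw : w ∈ V 4) : ⁅w, y⁆ ∈ X 4 := by
  obtain ⟨x, hx, hx1, h⟩ := exists_x0 E L hy
  have h1 := conj_comm_A E L hx hy hw h
  obtain ⟨m, hm, z, hz, e⟩ := W_mem E (NP_comm E (NP_V4 L hw) (NP_V2 L hy))
  rw [← e] at h1 ⊢
  have hzx : z * x = x * z := E.l2 4 (by decide) z hz x hx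
  have : m * x = x * m := by
    calc m * x = (m * z) * (z⁻¹ * x) := by group
      _ = (m * z) * (x * z⁻¹) := by
        congr 1
        calc z⁻¹ * x = z⁻¹ * (x * z) * z⁻¹ := by group
          _ = z⁻¹ * (z * x) * z⁻¹ := by rw [hzx]
          _ = x * z⁻¹ := by group
      _ = (x * (m * z) * x⁻¹) * (x * z⁻¹) := by rw [h1]
      _ = x * m := by group
  have hm1 : m = 1 := by
    by_contra hm1
    exact E.l4n 2 (by decide) m hm x hx hm1 hx1 this
  rw [hm1, one_mul]; exact hz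

theorem conj_A (E : Env t T X n) (L : Long t T X n V) {x y : G} (hx : x ∈ X 6) (hy : y ∈ V 2) :
    x * y * x⁻¹ * y⁻¹ ∈ X 2 ⊔ V 4 := by
  rcases conj_S E L hx hy with h | h
  · exact h
  · exfalso
    obtain ⟨a, ha, ha1⟩ := E.ne 4
    obtain ⟨w, hw, hwa⟩ := L.onto 4 (by decide) a ha
    have h1 := conj_comm_B E L hx hy hw h
    have h2 := comm_X4 E L hy hw
    have h3 : x * ⁅w, y⁆ * x⁻¹ = ⁅w, y⁆ := by
      rw [← E.l2 4 (by decide) _ h2 x hx, mul_inv_cancel_right]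
    rw [h3, hwa] at h1
    apply ha1
    calc a = a * ⁅w, y⁆ * ⁅w, y⁆⁻¹ := by group
      _ = ⁅w, y⁆ * ⁅w, y⁆⁻¹ := by rw [← h1]
      _ = 1 := mul_inv_cancel _

/-- `[V 2, V 4] = 1` -/
theorem comm24 (E : Env t T X n) (L : Long t T X n V) {y w : G} (hy : y ∈ V 2) (hw : w ∈ V 4) : y * w = w * y := by
  have h1 : ⁅y, w⁆ ∈ X 4 := by rw [← commutatorElement_inv]; exact (X 4).inv_mem (comm_X4 E L hy hw)
  have h2 := comm_X4 E L (L.nV 0 4 (by decide) w hw) (L.nV 0 2 (by decide) y hy)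
  have h3 : n 0 * ⁅y, w⁆ * (n 0)⁻¹ ∈ X 2 := E.nX 0 4 _ h1
  have h4 : ⁅n 0 * y * (n 0)⁻¹, n 0 * w * (n 0)⁻¹⁆ = n 0 * ⁅y, w⁆ * (n 0)⁻¹ := by
    simp only [commutatorElement_def]; group
  rw [h4] at h2
  have h5 := X24 E h3 h2
  have h6 : ⁅y, w⁆ = 1 := by
    calc ⁅y, w⁆ = (n 0)⁻¹ * (n 0 * ⁅y, w⁆ * (n 0)⁻¹) * n 0 := by group
      _ = 1 := by rw [h5]; group
  exact commutatorElement_eq_one_iff_mul_comm.mp h6

theorem sq_mem (E : Env t T X n) (L : Long t T X n V) {y : G} (hy : y ∈ V 2) : y * y ∈ X 2 := by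
  apply L.fix 2 (by decide) _ ((V 2).mul_mem hy hy)
  exact (NP_t E (NP_V2 L hy)).symm

/-- for `x ≠ 1` in `X 6` : `x y x⁻¹ = (y y) z y` -/
theorem conj_sq (E : Env t T X n) (L : Long t T X n V) {x y : G} (hx : x ∈ X 6) (hx1 : x ≠ 1) (hy : y ∈ V 2) :
    ∃ z ∈ V 4, x * y * x⁻¹ = (y * y) * z * y := by
  obtain ⟨m, hm, z, hz, e⟩ := S_mem L (conj_A E L hx hy)
  have e1 : x * y * x⁻¹ = m * z * y := by rw [e]; group
  have hzx : z * x = x * z := L.near 4 6 (by decide) (by decide) z hz x hx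
  have hxz : x * z * x⁻¹ = z := by rw [← hzx, mul_inv_cancel_right]
  have hmz : z * m = m * z := L.near 4 2 (by decide) (by decide) z hz m hm
  have hyz : y * z = z * y := comm24 E L hy hz
  have hym : y * m = m * y := L.ab 2 (by decide) y hy m (L.le 2 (by decide) hm)
  have hmm : m * m = 1 := E.sq 2 m hm
  have hs := sq_mem E L hy
  have hss : y * y * (y * y) = 1 := E.sq 2 _ hs
  have hxx : x * x = 1 := E.sq 6 x hx
  -- (i)
  have i1 : (x * m * x⁻¹) * m * (z * z) = 1 := by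
    have : y = (x * m * x⁻¹) * z * (m * z * y) := by
      calc y = (x * x) * y * (x * x)⁻¹ := by rw [hxx]; group
        _ = x * (x * y * x⁻¹) * x⁻¹ := by group
        _ = x * (m * z * y) * x⁻¹ := by rw [e1]
        _ = (x * m * x⁻¹) * (x * z * x⁻¹) * (x * y * x⁻¹) := by group
        _ = _ := by rw [hxz, e1]
    have h2 : (x * m * x⁻¹) * z * (m * z) = 1 := by
      have : (x * m * x⁻¹) * z * (m * z) * y = 1 * y := by
        rw [one_mul]
        calc (x * m * x⁻¹) * z * (m * z) * y = (x * m * x⁻¹) * z * (m * z * y) := by group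
          _ = y := this.symm
      exact mul_right_cancel this
    calc (x * m * x⁻¹) * m * (z * z) = (x * m * x⁻¹) * (m * z) * z := by group
      _ = (x * m * x⁻¹) * (z * m) * z := by rw [hmz]
      _ = (x * m * x⁻¹) * z * (m * z) := by group
      _ = 1 := h2
  -- (ii)
  have i2 : x * (y * y) * x⁻¹ = (z * z) * (y * y) := by
    calc x * (y * y) * x⁻¹ = (x * y * x⁻¹) * (x * y * x⁻¹) := by group
      _ = (m * z * y) * (m * z * y) := by rw [e1]
      _ = m * z * (y * m) * z * y := by group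
      _ = m * z * (m * y) * z * y := by rw [hym]
      _ = m * (z * m) * (y * z) * y := by group
      _ = m * (m * z) * (z * y) * y := by rw [hmz, hyz]
      _ = (m * m) * (z * z) * (y * y) := by group
      _ = _ := by rw [hmm, one_mul]
  have hmi : m⁻¹ = m := inv_eq_of_mul_eq_one_left hmm
  have i3 : x * m * x⁻¹ = (z * z)⁻¹ * m := by
    calc x * m * x⁻¹ = ((x * m * x⁻¹) * m * (z * z)) * (z * z)⁻¹ * m⁻¹ := by group
      _ = (z * z)⁻¹ * m := by rw [i1, one_mul, hmi]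
  have hzz : (z * z) * m = m * (z * z) := by
    calc (z * z) * m = z * (z * m) := by group
      _ = z * (m * z) := by rw [hmz]
      _ = (z * m) * z := by group
      _ = (m * z) * z := by rw [hmz]
      _ = _ := by group
  have key : x * (m * (y * y)) * x⁻¹ = m * (y * y) := by
    calc x * (m * (y * y)) * x⁻¹ = (x * m * x⁻¹) * (x * (y * y) * x⁻¹) := by group
      _ = ((z * z)⁻¹ * m) * ((z * z) * (y * y)) := by rw [i3, i2]
      _ = (z * z)⁻¹ * (m * (z * z)) * (y * y) := by group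
      _ = (z * z)⁻¹ * ((z * z) * m) * (y * y) := by rw [hzz]
      _ = m * (y * y) := by group
  have hms : m * (y * y) = 1 := by
    by_contra h
    refine E.l4n 2 (by decide) _ ((X 2).mul_mem hm hs) x hx h hx1 ?_
    calc m * (y * y) * x = (x * (m * (y * y)) * x⁻¹) * x := by rw [key]
      _ = x * (m * (y * y)) := by group
  have hm2 : m = y * y := by
    calc m = m * (y * y) * (y * y)⁻¹ := by group
      _ = (y * y)⁻¹ := by rw [hms, one_mul]
      _ = y * y := inv_eq_of_mul_eq_one_left hss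
  exact ⟨z, hz, by rw [e1, hm2]⟩

/-- the doubled long root groups are elementary abelian -/
theorem sq_one (E : Env t T X n) (L : Long t T X n V) {y : G} (hy : y ∈ V 2) : y * y = 1 := by
  obtain ⟨a, ha, b, hb, ha1, hb1, hab⟩ := two E 6
  have hba : b * a ≠ 1 := by
    intro e
    apply hab
    calc a = (b * b) * a := by rw [E.sq 6 b hb, one_mul]
      _ = b * (b * a) := by group
      _ = b := by rw [e, mul_one]
  obtain ⟨z1, hz1, e1⟩ := conj_sq E L ha ha1 hy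
  obtain ⟨z2, hz2, e2⟩ := conj_sq E L hb hb1 hy
  obtain ⟨z3, hz3, e3⟩ := conj_sq E L ((X 6).mul_mem hb ha) hba hy
  have hs := sq_mem E L hy
  have hss : y * y * (y * y) = 1 := E.sq 2 _ hs
  set s := y * y with hsd
  have hbz : b * z1 * b⁻¹ = z1 := by
    rw [← L.near 4 6 (by decide) (by decide) z1 hz1 b hb, mul_inv_cancel_right]
  have h1 : s * z3 * y = (b * s * b⁻¹) * z1 * (s * z2 * y) := by
    calc s * z3 * y = b * a * y * (b * a)⁻¹ := e3.symm
      _ = b * (a * y * a⁻¹) * b⁻¹ := by group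
      _ = b * (s * z1 * y) * b⁻¹ := by rw [e1]
      _ = (b * s * b⁻¹) * (b * z1 * b⁻¹) * (b * y * b⁻¹) := by group
      _ = _ := by rw [hbz, e2]
  have hbs : b * s * b⁻¹ = ⁅b, s⁆ * s := by rw [commutatorElement_def]; group
  have hc : ⁅b, s⁆ ∈ X 4 := by
    rw [← commutatorElement_inv]; exact (X 4).inv_mem (E.l4 2 (by decide) s hs b hb)
  have hz1s : z1 * s = s * z1 := L.near 4 2 (by decide) (by decide) z1 hz1 s hs
  have h2 : s * z3 = ⁅b, s⁆ * z1 * z2 := by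
    have : s * z3 * y = ⁅b, s⁆ * z1 * z2 * y := by
      calc s * z3 * y = (⁅b, s⁆ * s) * z1 * (s * z2 * y) := by rw [h1, hbs]
        _ = ⁅b, s⁆ * s * (z1 * s) * z2 * y := by group
        _ = ⁅b, s⁆ * s * (s * z1) * z2 * y := by rw [hz1s]
        _ = ⁅b, s⁆ * (s * s) * z1 * z2 * y := by group
        _ = _ := by rw [hss, mul_one]
    exact mul_right_cancel this
  have h3 : s ∈ V 4 := by
    have : s = ⁅b, s⁆ * z1 * z2 * z3⁻¹ := by rw [← h2]; group
    rw [this]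
    exact (V 4).mul_mem ((V 4).mul_mem ((V 4).mul_mem (L.le 4 (by decide) hc) hz1) hz2) ((V 4).inv_mem hz3)
  exact X2V4 E L hs h3

theorem comm62 (E : Env t T X n) (L : Long t T X n V) {x y : G} (hx : x ∈ X 6) (hy : y ∈ V 2) : ⁅x, y⁆ ∈ V 4 := by
  by_cases hx1 : x = 1
  · rw [hx1, commutatorElement_one_left]; exact one_mem _
  · obtain ⟨z, hz, e⟩ := conj_sq E L hx hx1 hy
    rw [sq_one E L hy, one_mul] at e
    rw [commutatorElement_def, e, mul_inv_cancel_right]; exact hz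

/-- The doubled long root groups, second form. -/
structure Long2 (t : G) (T : Subgroup G) (X : ZMod 12 → Subgroup G) (n : ZMod 12 → G)
    (V : ZMod 12 → Subgroup G) : Prop extends Long t T X n V where
  sq : ∀ r, Ev r → ∀ y ∈ V r, y * y = 1
  l2 : ∀ r, Ev r → ∀ y ∈ V r, ∀ z ∈ V (r + 2), y * z = z * y
  l4 : ∀ r, Ev r → ∀ y ∈ V r, ∀ x ∈ X (r + 4), ⁅y, x⁆ ∈ V (r + 2)
  l4' : ∀ r, Ev r → ∀ x ∈ X r, ∀ y ∈ V (r + 4), ⁅x, y⁆ ∈ V (r + 2)

theorem ev_sub2 {r : ZMod 12} (hr : Ev r) : Ev (r - 2) := by revert r; decide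

theorem long2 (E : Env t T X n) (L : Long t T X n V) : Long2 t T X n V := by
  refine { L with sq := ?_, l2 := ?_, l4 := ?_, l4' := ?_ }
  · intro r hr y hy
    have := sq_one (env_sh E (ev_sub2 hr)) (long_sh L (ev_sub2 hr)) (y := y)
      (by unfold sh; rwa [show (2 : ZMod 12) + (r - 2) = r by ring])
    exact this
  · intro r hr y hy z hz
    exact comm24 (env_sh E (ev_sub2 hr)) (long_sh L (ev_sub2 hr)) (y := y) (w := z)
      (by unfold sh; rwa [show (2 : ZMod 12) + (r - 2) = r by ring])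
      (by unfold sh; rwa [show (4 : ZMod 12) + (r - 2) = r + 2 by ring])
  · intro r hr y hy x hx
    have := comm62 (env_sh E (ev_sub2 hr)) (long_sh L (ev_sub2 hr)) (x := x) (y := y)
      (by unfold sh; rwa [show (6 : ZMod 12) + (r - 2) = r + 4 by ring])
      (by unfold sh; rwa [show (2 : ZMod 12) + (r - 2) = r by ring])
    unfold sh at this
    rw [show (4 : ZMod 12) + (r - 2) = r + 2 by ring] at this
    rw [← commutatorElement_inv]; exact inv_mem this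
  · intro r hr x hx y hy
    -- reflect
    have hc : Ev (r - 2) := ev_sub2 hr
    have E' := env_sh E hc
    have L' := long_sh L hc
    set X' := sh (r - 2) X with hX'
    set n' := sh (r - 2) n with hn'
    set V' := sh (r - 2) V with hV'
    have hx' : x ∈ X' 2 := by
      rw [hX']; unfold sh; rwa [show (2 : ZMod 12) + (r - 2) = r by ring]
    have hy' : y ∈ V' 6 := by
      rw [hV']; unfold sh; rwa [show (6 : ZMod 12) + (r - 2) = r + 4 by ring]
    have h1 := comm62 E' L' (E'.nX 1 2 x hx') (L'.nV 1 6 (by decide) y hy')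
    -- `n 1` fixes `V 4`
    have h2 : n' 1 * ⁅x, y⁆ * (n' 1)⁻¹ ∈ V' 4 := by
      have : ⁅n' 1 * x * (n' 1)⁻¹, n' 1 * y * (n' 1)⁻¹⁆ = n' 1 * ⁅x, y⁆ * (n' 1)⁻¹ := by
        simp only [commutatorElement_def]; group
      rwa [this] at h1
    have h3 : ∀ z ∈ V' 4, n' 1 * z = z * n' 1 := by
      intro z hz
      have : ∀ a ∈ X' 1 ⊔ X' 7, z * a = a * z :=
        comm_sup (L'.near 4 1 (by decide) (by decide) z hz) (L'.near 4 7 (by decide) (by decide) z hz)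
      exact (this _ (E'.ngen 1)).symm
    have h4 : ⁅x, y⁆ ∈ V' 4 := by
      have h5 := h3 _ h2
      have : ⁅x, y⁆ = n' 1 * ⁅x, y⁆ * (n' 1)⁻¹ := by
        have h6 : n' 1 * (n' 1 * ⁅x, y⁆ * (n' 1)⁻¹) * (n' 1)⁻¹ = n' 1 * ⁅x, y⁆ * (n' 1)⁻¹ := by
          rw [h5, mul_inv_cancel_right]
        have h7 : n' 1 * ⁅x, y⁆ * (n' 1)⁻¹ = ⁅x, y⁆ := by
          calc n' 1 * ⁅x, y⁆ * (n' 1)⁻¹
              = (n' 1)⁻¹ * (n' 1 * (n' 1 * ⁅x, y⁆ * (n' 1)⁻¹) * (n' 1)⁻¹) * n' 1 := by group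
            _ = (n' 1)⁻¹ * (n' 1 * ⁅x, y⁆ * (n' 1)⁻¹) * n' 1 := by rw [h6]
            _ = ⁅x, y⁆ := by group
        exact h7.symm
      rw [this]; exact h2
    rw [hV'] at h4
    unfold sh at h4
    rwa [show (4 : ZMod 12) + (r - 2) = r + 2 by ring] at h4

theorem long2_sh (L : Long2 t T X n V) {c : ZMod 12} (hc : Ev c) : Long2 t T (sh c X) (sh c n) (sh c V) where
  toLong := long_sh L.toLong hc
  sq r hr := L.sq _ (ev_add hr hc)
  l2 r hr y hy z hz := by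
    unfold sh at hz
    rw [show r + 2 + c = r + c + 2 by ring] at hz
    exact L.l2 _ (ev_add hr hc) y hy z hz
  l4 r hr y hy x hx := by
    unfold sh at hx ⊢
    rw [show r + 4 + c = r + c + 4 by ring] at hx
    rw [show r + 2 + c = r + c + 2 by ring]
    exact L.l4 _ (ev_add hr hc) y hy x hx
  l4' r hr x hx y hy := by
    unfold sh at hy ⊢
    rw [show r + 4 + c = r + c + 4 by ring] at hy
    rw [show r + 2 + c = r + c + 2 by ring]
    exact L.l4' _ (ev_add hr hc) x hx y hy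

end Cfsg.Agent.HexGrow.LongTwo
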