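import Cfsg.Agent.HexGrow.Pair

/-!
# Growth for `G2(q)`, `3D4(q)`: the twelve doubled root groups before the two remaining commutator relations
-/

set_option autoImplicit false

namespace Cfsg.Agent.HexGrow.Mid

open Cfsg.Agent.HexGrow.Defs Cfsg.Agent.HexGrow.Basic Cfsg.Agent.HexGrow.Tools Cfsg.Agent.HexGrow.LongTwo
  Cfsg.Agent.HexGrow.QOne Cfsg.Agent.HexGrow.Short Cfsg.Agent.HexGrow.Short2 Cfsg.Agent.HexGrow.Tower
  Cfsg.Agent.HexGrow.Pair
open scoped commutatorElement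

variable {G : Type*} [Group G] {t : G} {T : Subgroup G} {X : ZMod 12 → Subgroup G} {n : ZMod 12 → G}
  {V : ZMod 12 → Subgroup G}

/-- all twelve doubled root groups -/
def VV (t : G) (T : Subgroup G) (X V : ZMod 12 → Subgroup G) (r : ZMod 12) : Subgroup G :=
  if Ev r then V r else VS t T X V r

theorem VV_ev {r : ZMod 12} (hr : Ev r) : VV t T X V r = V r := by unfold VV; rw [if_pos hr]

theorem VV_od {r : ZMod 12} (hr : ¬ Ev r) : VV t T X V r = VS t T X V r := by unfold VV; rw [if_neg hr]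

structure Mid (t : G) (T : Subgroup G) (X : ZMod 12 → Subgroup G) (n : ZMod 12 → G)
    (V : ZMod 12 → Subgroup G) : Prop where
  dbl : ∀ r, Dbl t (X r) (V r)
  TV : ∀ h ∈ T, ∀ r, ∀ y ∈ V r, h * y * h⁻¹ ∈ V r
  nV : ∀ k r, ∀ y ∈ V r, n k * y * (n k)⁻¹ ∈ V (2 * k + 6 - r)
  c1 : ∀ r, ∀ a ∈ V r, ∀ b ∈ V (r + 1), a * b = b * a
  c3 : ∀ r, ∀ a ∈ V r, ∀ b ∈ V (r + 3), a * b = b * a
  l2 : ∀ r, Ev r → ∀ a ∈ V r, ∀ b ∈ V (r + 2), a * b = b * a
  l4 : ∀ r, Ev r → ∀ a ∈ V r, ∀ b ∈ V (r + 4), ⁅a, b⁆ ∈ V (r + 2)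
  s2 : ∀ r, ¬ Ev r → ∀ a ∈ V r, ∀ b ∈ V (r + 2), ⁅a, b⁆ ∈ V (r + 1)

theorem od_refl {k r : ZMod 12} (hr : ¬ Ev r) : ¬ Ev (2 * k + 6 - r) := by revert k r; decide

theorem od_succ {r : ZMod 12} (hr : Ev r) : ¬ Ev (r + 1) := by revert r; decide

theorem od_add3 {r : ZMod 12} (hr : Ev r) : ¬ Ev (r + 3) := by revert r; decide

theorem ev_add3 {r : ZMod 12} (hr : ¬ Ev r) : Ev (r + 3) := by revert r; decide

theorem ev_sub4 {r : ZMod 12} (hr : Ev r) : Ev (r - 4) := by revert r; decide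

variable [Finite G]

theorem VS_dbl' (E : Env t T X n) (L : Long2 t T X n V) (s : ZMod 12) (hs : ¬ Ev s) :
    Dbl t (X s) (VS t T X V s) := by
  have := VS_dbl (env_sh E (ev_sub3 hs)) (long2_sh L (ev_sub3 hs))
  rw [VS_sh] at this
  unfold sh at this
  rwa [show (3 : ZMod 12) + (s - 3) = s by ring] at this

theorem VS_V_c3 (E : Env t T X n) (L : Long2 t T X n V) (s : ZMod 12) (hs : ¬ Ev s) :
    ∀ y ∈ VS t T X V s, ∀ x ∈ V (s + 3), y * x = x * y := by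
  have := VS3_V6 (env_sh E (ev_sub3 hs)) (long2_sh L (ev_sub3 hs))
  rw [VS_sh] at this
  unfold sh at this
  rwa [show (3 : ZMod 12) + (s - 3) = s by ring, show (6 : ZMod 12) + (s - 3) = s + 3 by ring] at this

theorem N1_comm' (E : Env t T X n) (L : Long2 t T X n V) (r : ZMod 12) (hr : Ev r) :
    ∀ g ∈ N1 t X V r, ∀ h ∈ N1 t X V r, ⁅g, h⁆ ∈ V r := by
  intro g hg h hh
  have := N1_comm (env_sh E (ev_sub4 hr)) (long2_sh L (ev_sub4 hr)) (g := g) (h := h)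
  rw [N1_sh] at this
  unfold sh at this
  rw [show (4 : ZMod 12) + (r - 4) = r by ring] at this
  exact this hg hh

theorem VS_le1 (s : ZMod 12) : VS t T X V s ≤ N1 t X V (s + 1) := fun _ hy => (mem_VS.mp hy).1

theorem VS_le2 (E : Env t T X n) (L : Long2 t T X n V) (s : ZMod 12) (hs : ¬ Ev s) :
    VS t T X V s ≤ N1 t X V (s - 1) := by
  rw [VS_eq_VS' E L s hs]
  exact fun _ hy => (mem_VS'.mp hy).1

theorem V_le_N1 (E : Env t T X n) (L : Long2 t T X n V) (r : ZMod 12) (hr : Ev r) :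
    V (r - 2) ≤ N1 t X V r ∧ V (r + 2) ≤ N1 t X V r := by
  have h1 := V2_le_N1 (long2_sh L (ev_sub4 hr))
  have h2 := V6_le_N1 (long2_sh L (ev_sub4 hr))
  rw [N1_sh] at h1 h2
  unfold sh at h1 h2
  rw [show (4 : ZMod 12) + (r - 4) = r by ring] at h1 h2
  rw [show (2 : ZMod 12) + (r - 4) = r - 2 by ring] at h1
  rw [show (6 : ZMod 12) + (r - 4) = r + 2 by ring] at h2
  exact ⟨h1, h2⟩

theorem mid (E : Env t T X n) (L : Long2 t T X n V) : Mid t T X n (VV t T X V) where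
  dbl r := by
    by_cases hr : Ev r
    · rw [VV_ev hr]; exact long_dbl L hr
    · rw [VV_od hr]; exact VS_dbl' E L r hr
  TV h hh r := by
    by_cases hr : Ev r
    · rw [VV_ev hr]; exact L.TV h hh r hr
    · rw [VV_od hr]; exact VS_T E L hh r hr
  nV k r := by
    by_cases hr : Ev r
    · rw [VV_ev hr, VV_ev (ev_refl hr)]; exact L.nV k r hr
    · rw [VV_od hr, VV_od (od_refl hr), VS_eq_VS' E L _ (od_refl hr)]; exact VS_n E L k r hr
  c1 r a ha b hb := by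
    by_cases hr : Ev r
    · have hr1 : ¬ Ev (r + 1) := od_succ hr
      rw [VV_ev hr] at ha
      rw [VV_od hr1] at hb
      have h1 := VS_le2 E L _ hr1 hb
      rw [show r + 1 - 1 = r by ring] at h1
      exact (h1.1 a ha).symm
    · rw [VV_od hr] at ha
      rw [VV_ev (ev_succ hr)] at hb
      exact (VS_le1 r ha).1 b hb
  c3 r a ha b hb := by
    by_cases hr : Ev r
    · -- reflect by `n 0`
      have hr3 : ¬ Ev (r + 3) := od_add3 hr
      rw [VV_ev hr] at ha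
      rw [VV_od hr3] at hb
      have h1 : n 0 * b * (n 0)⁻¹ ∈ VS t T X V (2 * 0 + 6 - (r + 3)) := by
        rw [VS_eq_VS' E L _ (od_refl hr3)]; exact VS_n E L 0 _ hr3 b hb
      have h2 := L.nV 0 r hr a ha
      have h3 := VS_V_c3 E L _ (od_refl (k := 0) hr3) _ h1 (n 0 * a * (n 0)⁻¹) (by
        rwa [show 2 * 0 + 6 - (r + 3) + 3 = 2 * 0 + 6 - r by ring])
      calc a * b = (n 0)⁻¹ * ((n 0 * a * (n 0)⁻¹) * (n 0 * b * (n 0)⁻¹)) * n 0 := by group
        _ = (n 0)⁻¹ * ((n 0 * b * (n 0)⁻¹) * (n 0 * a * (n 0)⁻¹)) * n 0 := by rw [h3]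
        _ = b * a := by group
    · have hr3 : Ev (r + 3) := ev_add3 hr
      rw [VV_od hr] at ha
      rw [VV_ev hr3] at hb
      exact VS_V_c3 E L r hr a ha b hb
  l2 r hr a ha b hb := by
    rw [VV_ev hr] at ha
    rw [VV_ev (ev_add hr (by decide))] at hb
    exact L.l2 r hr a ha b hb
  l4 r hr a ha b hb := by
    rw [VV_ev hr] at ha
    rw [VV_ev (ev_add hr (by decide))] at hb ⊢
    have h := V_le_N1 E L (r + 2) (ev_add hr (by decide))
    rw [show r + 2 - 2 = r by ring, show r + 2 + 2 = r + 4 by ring] at h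
    exact N1_comm' E L (r + 2) (ev_add hr (by decide)) a (h.1 ha) b (h.2 hb)
  s2 r hr a ha b hb := by
    have hr2 : ¬ Ev (r + 2) := not_ev_add hr (by decide)
    rw [VV_od hr] at ha
    rw [VV_od hr2] at hb
    rw [VV_ev (ev_succ hr)]
    have h1 := VS_le2 E L _ hr2 hb
    rw [show r + 2 - 1 = r + 1 by ring] at h1
    exact N1_comm' E L (r + 1) (ev_succ hr) a (VS_le1 r ha) b h1

end Cfsg.Agent.HexGrow.Mid
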