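import Cfsg.Agent.HexGrow.OfOut
import Cfsg.Agent.StdRank2.HexAut

/-!
# S1778, types `G2(q)` and `3D4(q)`, `q ≥ 4`: the environment of the growth

`env` : `HexGrow.Defs.Env` from: `h : HexTwo σ x`; the involution `t ∉ A = AA σ x` centralises `A`; elements of `C(t)`
normalise `A`; `C(t) ∩ C(A) = {1, t}`.
-/

set_option autoImplicit false

namespace Cfsg.Agent.HexGrow.OfAut

open Cfsg.Agent.SplitTwo Cfsg.Agent.StdRank2.Hex
open scoped commutatorElement
open Defs OfHexTwo OfOut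

variable {E : Type*} [Field E] {σ : E ≃+* E} {Γ : Type*} [Group Γ] {x : ZMod 12 → E → Γ}

variable (σ x) in
/-- `t` is an involution outside `A`, centralising `A`; `C(t)` normalises `A` and `C(t) ∩ C(A) = {1, t}`. -/
structure Inv (t : Γ) : Prop where
  tt : t * t = 1
  tA : ∀ v ∈ HexTwo.AA σ x, v * t = t * v
  tnot : t ∉ HexTwo.AA σ x
  nor : ∀ c, c * t = t * c → ∀ v ∈ HexTwo.AA σ x, c * v * c⁻¹ ∈ HexTwo.AA σ x
  cen : ∀ c, c * t = t * c → (∀ v ∈ HexTwo.AA σ x, c * v = v * c) → c = 1 ∨ c = t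

theorem gen_centralizer {S : Set (ZMod 12)} {c : Γ} (hc : ∀ r ∈ S, ∀ a, Ok σ r a → c * x r a = x r a * c) :
    ∀ v ∈ gen σ x S, c * v = v * c := by
  have : gen σ x S ≤ Subgroup.centralizer {c} := by
    refine gen_le fun k hk a ha => ?_
    rw [Subgroup.mem_centralizer_singleton_iff]
    exact (hc k hk a ha).symm
  exact fun v hv => (Subgroup.mem_centralizer_singleton_iff.1 (this hv)).symm

/-- Elements normalising `A` act on the root elements like an element of `A` times a field automorphism. -/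
theorem out_of [Finite E] [Finite Γ] (h : HexTwo σ x) (hN : HexTwo.NotTwo σ) {c : Γ}
    (hc : ∀ v ∈ HexTwo.AA σ x, c * v * c⁻¹ ∈ HexTwo.AA σ x)
    (hc' : ∀ v ∈ HexTwo.AA σ x, c⁻¹ * v * c ∈ HexTwo.AA σ x) :
    ∃ g ∈ HexTwo.AA σ x, ∃ ρ : E ≃+* E, ∀ r a, Ok σ r a → c * x r a * c⁻¹ = g * x r (ρ a) * g⁻¹ := by
  have eA : HexTwo.AA σ (cj c x) = HexTwo.AA σ x := by
    ext v
    unfold HexTwo.AA
    rw [mem_gen_cj]
    constructor
    · intro hv
      have := hc _ hv
      rwa [show c * (c⁻¹ * v * c) * c⁻¹ = v by group] at this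
    · intro hv
      exact hc' v hv
  exact exists_conj h (h.conj c) hN eA

theorem Inv.outS [Finite E] [Finite Γ] {t : Γ} (I : Inv σ x t) (h : HexTwo σ x) (hN : HexTwo.NotTwo σ) :
    OutS σ x t where
  tt := I.tt
  tX r a ha := I.tA _ (HexTwo.x_mem_AA ha)
  tnot := I.tnot
  cen c hct hc := I.cen c hct (gen_centralizer fun r _ a ha => hc r a ha)
  out c hct := by
    refine out_of h hN (I.nor c hct) fun v hv => ?_
    have h1 : c⁻¹ * t = t * c⁻¹ := by
      rw [inv_mul_eq_iff_eq_mul, ← mul_assoc, hct, mul_inv_cancel_right]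
    have := I.nor c⁻¹ h1 v hv
    rwa [inv_inv] at this

/-- **The environment of the growth.** -/
theorem Inv.env [Finite E] [Finite Γ] {t : Γ} (I : Inv σ x t) (h : HexTwo σ x) {u : E} (hu : σ u = u) (hu0 : u ≠ 0)
    (hu1 : u ≠ 1) : Env t h.H (XX σ x) (nn x) := by
  refine OfOut.env (I.outS h (Or.inl ⟨u, hu, fun e => ?_⟩)) h hu hu0 hu1
  rw [pow_two] at e
  exact hu1 (mul_left_cancel₀ hu0 (by rw [e, mul_one]))

end Cfsg.Agent.HexGrow.OfAut
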