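import Cfsg.Agent.HexGrow.Defs
import Cfsg.Agent.StdRank2.HexFacts
import Cfsg.Agent.StdRank2.HexBorel

/-!
# S1778, types `G2(q)` and `3D4(q)`, `q ≥ 4` even: the environment `HexGrow.Env` from a hexagonal root system

`h : HexTwo σ x`, `X r = XX σ x r = {x r a}`, torus `h.H`, Weyl elements `nn x k`.  `env` : all fields of `Env` from
`CT σ x t` (the facts on `C(t)`) and a fixed element `u ≠ 0, 1` of `σ`.
-/

set_option autoImplicit false

namespace Cfsg.Agent.HexGrow.OfHexTwo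

open Cfsg.Agent.SplitTwo Cfsg.Agent.StdRank2.Hex
open scoped commutatorElement
open Defs

section Sup

variable {E : Type*} [Field E] {σ : E ≃+* E} {Γ : Type*} [Group Γ] {x : ZMod 12 → E → Γ}

variable (σ x) in
/-- the root groups -/
def XX (r : ZMod 12) : Subgroup Γ := gen σ x {r}

theorem XX_le {r : ZMod 12} {S : Set (ZMod 12)} (hr : r ∈ S) : XX σ x r ≤ gen σ x S :=
  gen_mono (Set.singleton_subset_iff.2 hr)

theorem gen_le' {S : Set (ZMod 12)} {P : Subgroup Γ} (hP : ∀ k ∈ S, XX σ x k ≤ P) : gen σ x S ≤ P :=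
  gen_le fun k hk _ ha => hP k hk (x_mem_gen (Set.mem_singleton k) ha)

theorem arc5_cases : ∀ r l : ZMod 12, (l - (r - 2)).val < 5 → l = r - 2 ∨ l = r - 1 ∨ l = r ∨ l = r + 1 ∨ l = r + 2 := by
  decide
theorem arc6_cases : ∀ r l : ZMod 12, (l - r).val < 6 →
    l = r ∨ l = r + 1 ∨ l = r + 2 ∨ l = r + 3 ∨ l = r + 4 ∨ l = r + 5 := by decide
theorem arc5a : ∀ r : ZMod 12, (r - 2 - (r - 2)).val < 5 ∧ (r - 1 - (r - 2)).val < 5 ∧ (r - (r - 2)).val < 5 ∧
    (r + 1 - (r - 2)).val < 5 ∧ (r + 2 - (r - 2)).val < 5 := by decide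
theorem arc6a : ∀ r : ZMod 12, (r - r).val < 6 ∧ (r + 1 - r).val < 6 ∧ (r + 2 - r).val < 6 ∧
    (r + 3 - r).val < 6 ∧ (r + 4 - r).val < 6 ∧ (r + 5 - r).val < 6 := by decide

/-- `Q` as a generated subgroup -/
theorem QQ_eq (r : ZMod 12) : QQ (XX σ x) r = gen σ x (arc (r - 2) 5) := by
  obtain ⟨h1, h2, h3, h4, h5⟩ := arc5a r
  refine le_antisymm (sup_le (sup_le (sup_le (sup_le (XX_le h1) (XX_le h2)) (XX_le h3)) (XX_le h4)) (XX_le h5)) ?_
  refine gen_le' fun l hl => ?_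
  unfold QQ
  rcases arc5_cases r l hl with rfl | rfl | rfl | rfl | rfl
  · exact le_sup_of_le_left (le_sup_of_le_left (le_sup_of_le_left le_sup_left))
  · exact le_sup_of_le_left (le_sup_of_le_left (le_sup_of_le_left le_sup_right))
  · exact le_sup_of_le_left (le_sup_of_le_left le_sup_right)
  · exact le_sup_of_le_left le_sup_right
  · exact le_sup_right

/-- `U` as a generated subgroup -/
theorem UU_eq (r : ZMod 12) : Defs.UU (XX σ x) r = gen σ x (arc r 6) := by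
  obtain ⟨h1, h2, h3, h4, h5, h6⟩ := arc6a r
  refine le_antisymm (sup_le (sup_le (sup_le (sup_le (sup_le (XX_le h1) (XX_le h2)) (XX_le h3)) (XX_le h4)) (XX_le h5))
    (XX_le h6)) ?_
  refine gen_le' fun l hl => ?_
  unfold Defs.UU
  rcases arc6_cases r l hl with rfl | rfl | rfl | rfl | rfl | rfl
  · exact le_sup_of_le_left (le_sup_of_le_left (le_sup_of_le_left (le_sup_of_le_left le_sup_left)))
  · exact le_sup_of_le_left (le_sup_of_le_left (le_sup_of_le_left (le_sup_of_le_left le_sup_right)))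
  · exact le_sup_of_le_left (le_sup_of_le_left (le_sup_of_le_left le_sup_right))
  · exact le_sup_of_le_left (le_sup_of_le_left le_sup_right)
  · exact le_sup_of_le_left le_sup_right
  · exact le_sup_right

theorem pair_eq (k l : ZMod 12) : XX σ x k ⊔ XX σ x l = gen σ x {k, l} := by
  refine le_antisymm (sup_le (XX_le (Or.inl rfl)) (XX_le (Or.inr rfl))) ?_
  refine gen_le' fun m hm => ?_
  rcases hm with rfl | hm
  · exact le_sup_left
  · rw [Set.mem_singleton_iff] at hm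
    subst hm
    exact le_sup_right

theorem iSup_eq : (⨆ r, XX σ x r) = HexTwo.AA σ x :=
  le_antisymm (iSup_le fun r => XX_le (Set.mem_univ r)) (gen_le' fun l _ => le_iSup (XX σ x) l)

end Sup

variable {E : Type*} [Field E] {σ : E ≃+* E} {Γ : Type*} [Group Γ] {x : ZMod 12 → E → Γ}

variable (σ x) in
/-- The facts on `C(t)`. -/
structure CT (t : Γ) : Prop where
  tt : t * t = 1
  tX : ∀ r a, Ok σ r a → x r a * t = t * x r a
  tnot : t ∉ HexTwo.AA σ x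
  cW : ∀ s, ¬ Ev s → ∀ c, c * t = t * c → (∀ a ∈ XX σ x (s - 1), c * a = a * c) →
    (∀ a ∈ XX σ x (s + 1), c * a = a * c) → (∀ a ∈ XX σ x s, ⁅c, a⁆ ∈ gen σ x {s - 1, s + 1}) →
    c ∈ gen σ x (arc (s - 2) 5) ∨ t * c ∈ gen σ x (arc (s - 2) 5)
  cQ2 : ∀ s, ¬ Ev s → ∀ c, c * t = t * c → (∀ a ∈ gen σ x (arc (s - 2) 5), c * a = a * c) →
    c ∈ gen σ x {s - 1, s + 1} ∨ t * c ∈ gen σ x {s - 1, s + 1}
  cQ1 : ∀ r, Ev r → ∀ c, c * t = t * c → (∀ a ∈ XX σ x r, c * a = a * c) →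
    (∀ a ∈ gen σ x (arc (r - 2) 5), ⁅c, a⁆ ∈ XX σ x r) →
    c ∈ gen σ x (arc (r - 2) 5) ∨ t * c ∈ gen σ x (arc (r - 2) 5)
  cQ1' : ∀ r, Ev r → ∀ c, c * t = t * c → (∀ a ∈ gen σ x (arc (r - 2) 5), c * a = a * c) →
    c ∈ XX σ x r ∨ t * c ∈ XX σ x r
  cU : ∀ r, Ev r → ∀ c, c * t = t * c →
    (∀ a ∈ XX σ x r, c * a = a * c) → (∀ a ∈ XX σ x (r - 2), ⁅c, a⁆ ∈ XX σ x r) →
    (∀ a ∈ XX σ x (r - 1), ⁅c, a⁆ ∈ XX σ x (r - 2) ⊔ XX σ x r) →
    (∀ a ∈ XX σ x (r + 1), ⁅c, a⁆ ∈ XX σ x (r - 2) ⊔ XX σ x (r - 1) ⊔ XX σ x r) →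
    c ∈ gen σ x (arc (r - 3) 6) ∨ t * c ∈ gen σ x (arc (r - 3) 6)

variable (h : HexTwo σ x)
include h

theorem mem_XX {r : ZMod 12} {g : Γ} : g ∈ XX σ x r ↔ ∃ a, Ok σ r a ∧ g = x r a := h.mem_gen_singleton

omit h in
theorem x_mem_XX {r : ZMod 12} {a : E} (ha : Ok σ r a) : x r a ∈ XX σ x r := x_mem_gen (Set.mem_singleton r) ha

/-- Centralising a root group, from the character. -/
theorem cen_of {g : Γ} {r : ZMod 12} (hg : ∀ a, Ok σ r a → g * x r a * g⁻¹ = x r a) : Cen g (XX σ x r) := by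
  intro y hy
  obtain ⟨a, ha, rfl⟩ := (mem_XX h).1 hy
  exact hg a ha

/-- Fixed point free action on a root group, from the character. -/
theorem fpf_of {g : Γ} {r : ZMod 12} {c : E} (hc : Ok σ r c) (hc1 : c ≠ 1)
    (hg : ∀ a, Ok σ r a → g * x r a * g⁻¹ = x r (c * a)) : Fpf g (XX σ x r) := by
  intro y hy e
  obtain ⟨a, ha, rfl⟩ := (mem_XX h).1 hy
  rw [hg a ha, h.x_inj (hc.mul ha) ha] at e
  by_contra h0
  have ha0 : a ≠ 0 := by
    rintro rfl
    exact h0 (h.x_zero r)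
  exact hc1 (mul_right_cancel₀ ha0 (by rw [e, one_mul]))

/-- fixed points of a torus element in a positive system -/
theorem fix_arc [Finite E] {g : Γ} (hg : g ∈ h.H) (s : ZMod 12) (n : ℕ) : n ≤ 6 → ∀ k : ZMod 12,
    (∀ l ∈ arc k n, l ≠ s → Fpf g (XX σ x l)) → ∀ q ∈ gen σ x (arc k n), g * q * g⁻¹ = q → q ∈ XX σ x s := by
  induction n with
  | zero =>
    intro _ k _ q hq _
    rw [HexTwo.gen_arc_zero, Subgroup.mem_bot] at hq
    rw [hq]
    exact one_mem _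
  | succ n ih =>
    intro hn k hF q hq e
    obtain ⟨a, ha, v, hv, rfl⟩ := (h.mem_gen_first (by omega)).1 hq
    obtain ⟨c, _, hc, hgc⟩ := h.H_diag hg k
    have hv' : g * v * g⁻¹ ∈ gen σ x (arc (k + 1) n) := h.H_conj_gen hg _ hv
    have e1 : x k (c * a) * (g * v * g⁻¹) = x k a * v := by
      rw [← hgc a ha, ← e]
      group
    obtain ⟨e2, e3⟩ := h.uniq_first (by omega) (hc.mul ha) ha hv' hv e1
    have hvs : v ∈ XX σ x s := ih (by omega) (k + 1) (fun l hl hls => hF l (arc_succ_sub (by omega) hl) hls) v hv e3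
    refine mul_mem ?_ hvs
    by_cases hks : k = s
    · subst hks
      exact x_mem_XX ha
    · have h1 := hF k (self_mem_arc (by omega)) hks (x k a) (x_mem_XX ha) (by rw [hgc a ha, e2])
      rw [h1]
      exact one_mem _

section Weights

variable {u : E} (hu : σ u = u) (hu0 : u ≠ 0) (hu1 : u ≠ 1)
include hu hu0 hu1

omit hu hu0 in
theorem sq_ne : u ^ 2 ≠ 1 := fun e => hu1 (h.sq_eq_one (by rw [← pow_two]; exact e))

omit h hu hu0 in
theorem inv_ne : u⁻¹ ≠ 1 := fun e => hu1 (by rw [← inv_inv u, e, inv_one])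

omit hu hu0 in
theorem sqinv_ne : (u ^ 2)⁻¹ ≠ 1 := fun e => sq_ne h hu1 (by rw [← inv_inv (u ^ 2), e, inv_one])

omit hu in
/-- the long characters of `u` -/
theorem chL_ne (d : ZMod 12) (h3 : d ≠ 3) (h9 : d ≠ 9) : chL d u ≠ 1 := by
  have k1 := sq_ne h hu1
  have k2 := inv_ne hu1
  have k3 := sqinv_ne h hu1
  have key : ∀ d : Fin 12, (d : ZMod 12) ≠ 3 → (d : ZMod 12) ≠ 9 → chL (d : ZMod 12) u ≠ 1 := by
    intro d
    fin_cases d
    · exact fun _ _ => k1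
    · exact fun _ _ => hu1
    · exact fun _ _ => hu1
    · exact fun h3 _ => absurd rfl h3
    · exact fun _ _ => k2
    · exact fun _ _ => k2
    · exact fun _ _ => k3
    · exact fun _ _ => k2
    · exact fun _ _ => k2
    · exact fun _ h9 => absurd rfl h9
    · exact fun _ _ => hu1
    · exact fun _ _ => hu1
  exact key d h3 h9

/-- the short characters of `u` on short roots -/
theorem chS_ne (d : ZMod 12) (hd : d.val % 2 = 0) : chS σ d u ≠ 1 := by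
  have k1 := sq_ne h hu1
  have k2 := inv_ne hu1
  have k3 := sqinv_ne h hu1
  have e1 : u⁻¹ * shp σ u = u := by
    unfold shp
    rw [hu, hu, inv_mul_cancel_left₀ hu0]
  have e2 : u * (shp σ u)⁻¹ = u⁻¹ := by
    unfold shp
    rw [hu, hu]
    field_simp
  have key : ∀ d : Fin 12, (d : ℕ) % 2 = 0 → chS σ (d : ZMod 12) u ≠ 1 := by
    intro d
    fin_cases d
    · exact fun _ => k1
    · exact fun h0 => absurd h0 (by decide)
    · intro _
      change u⁻¹ * shp σ u ≠ 1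
      rw [e1]; exact hu1
    · exact fun h0 => absurd h0 (by decide)
    · intro _
      change u * (shp σ u)⁻¹ ≠ 1
      rw [e2]; exact k2
    · exact fun h0 => absurd h0 (by decide)
    · exact fun _ => k3
    · exact fun h0 => absurd h0 (by decide)
    · intro _
      change u * (shp σ u)⁻¹ ≠ 1
      rw [e2]; exact k2
    · exact fun h0 => absurd h0 (by decide)
    · intro _
      change u⁻¹ * shp σ u ≠ 1
      rw [e1]; exact hu1
    · exact fun h0 => absurd h0 (by decide)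
  exact key d hd

theorem tfp [Finite E] (r : ZMod 12) : ∃ g ∈ h.H, Fpf g (XX σ x r) := by
  have hok : Ok σ r u := ok_of_fix r hu
  refine ⟨hh x r u, h.hh_mem_H r hu0 hok, fpf_of h (c := u ^ 2) (by rw [pow_two]; exact hok.mul hok) (sq_ne h hu1) ?_⟩
  intro a ha
  rw [h.tor r r hu0 hok ha, sub_self, ch_zero_right]

theorem tod [Finite E] (s : ZMod 12) (hs : ¬ Ev s) : ∃ g ∈ h.H, Cen g (XX σ x s) ∧
    (∀ r, r ≠ s → r ≠ s + 6 → Fpf g (XX σ x r)) ∧
    (∀ q ∈ QQ (XX σ x) s, g * q * g⁻¹ = q → q ∈ XX σ x s) ∧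
    (∀ q ∈ QQ (XX σ x) (s + 1), g * q * g⁻¹ = q → q ∈ XX σ x s) ∧
    (∀ q ∈ QQ (XX σ x) (s - 1), g * q * g⁻¹ = q → q ∈ XX σ x s) := by
  have hev : ∀ s : ZMod 12, ¬ Ev s → (s + 3).val % 2 = 0 := by decide
  have h3 := hev s hs
  have hok : Ok σ (s + 3) u := ok_of_fix _ hu
  have hmem := h.hh_mem_H (s + 3) hu0 hok
  have hch : ∀ d, ch σ (s + 3) d u = chL d u := fun d => by unfold ch; rw [if_pos h3]
  have hcen : Cen (hh x (s + 3) u) (XX σ x s) := by
    refine cen_of h fun a ha => ?_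
    rw [h.tor (s + 3) s hu0 hok ha, hch, show s - (s + 3) = -3 by ring]
    change x s (1 * a) = _
    rw [one_mul]
  have hf : ∀ r, r ≠ s → r ≠ s + 6 → Fpf (hh x (s + 3) u) (XX σ x r) := by
    intro r hr hr6
    have hr' : ∀ s r : ZMod 12, r ≠ s → r ≠ s + 6 → r - (s + 3) ≠ 3 ∧ r - (s + 3) ≠ 9 := by decide
    obtain ⟨d3, d9⟩ := hr' s r hr hr6
    refine fpf_of h (c := chL (r - (s + 3)) u) ?_ (chL_ne h hu0 hu1 _ d3 d9) fun a ha => ?_
    · rw [← hch]; exact h.ok_chi (s + 3) r hok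
    · rw [h.tor (s + 3) r hu0 hok ha, hch]
  have hQ : ∀ r : ZMod 12, (∀ l ∈ arc (r - 2) 5, l ≠ s + 6) →
      ∀ q ∈ QQ (XX σ x) r, hh x (s + 3) u * q * (hh x (s + 3) u)⁻¹ = q → q ∈ XX σ x s := by
    intro r hr q hq e
    rw [QQ_eq] at hq
    exact fix_arc h hmem s 5 (by norm_num) (r - 2) (fun l hl hls => hf l hls (hr l hl)) q hq e
  have i0 : ∀ s l : ZMod 12, (l - (s - 2)).val < 5 → l ≠ s + 6 := by decide
  have i1 : ∀ s l : ZMod 12, (l - (s + 1 - 2)).val < 5 → l ≠ s + 6 := by decide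
  have i2 : ∀ s l : ZMod 12, (l - (s - 1 - 2)).val < 5 → l ≠ s + 6 := by decide
  exact ⟨_, hmem, hcen, hf, hQ s (fun l hl => i0 s l hl), hQ (s + 1) (fun l hl => i1 s l hl),
    hQ (s - 1) (fun l hl => i2 s l hl)⟩

theorem tev [Finite E] (r : ZMod 12) (hr : Ev r) :
    ∃ g ∈ h.H, Cen g (XX σ x r) ∧ ∀ s, ¬ Ev s → Fpf g (XX σ x s) := by
  have hod : ∀ r : ZMod 12, Ev r → ¬ (r + 3).val % 2 = 0 := by decide
  have h3 := hod r hr
  have hok : Ok σ (r + 3) u := ok_of_fix _ hu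
  have hch : ∀ d, ch σ (r + 3) d u = chS σ d u := fun d => by unfold ch; rw [if_neg h3]
  refine ⟨hh x (r + 3) u, h.hh_mem_H (r + 3) hu0 hok, cen_of h fun a ha => ?_, fun s hs => ?_⟩
  · rw [h.tor (r + 3) r hu0 hok ha, hch, show r - (r + 3) = -3 by ring]
    change x r (1 * a) = _
    rw [one_mul]
  · have hd : ∀ r s : ZMod 12, Ev r → ¬ Ev s → (s - (r + 3)).val % 2 = 0 := by decide
    refine fpf_of h (c := chS σ (s - (r + 3)) u) ?_ (chS_ne h hu hu0 hu1 _ (hd r s hr hs)) fun a ha => ?_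
    · rw [← hch]; exact h.ok_chi (r + 3) s hok
    · rw [h.tor (r + 3) s hu0 hok ha, hch]

/-- the additive map argument: `g (c a) = u³ g a` with `c = u` or `c = u²` is impossible -/
theorem kill (s : ZMod 12) (hs : ¬ Ev s) (g : Γ → Γ) (hg : ∀ a ∈ XX σ x s, g a ∈ XX σ x (s + 1))
    (hadd : ∀ a ∈ XX σ x s, ∀ b ∈ XX σ x s, g (a * b) = g a * g b) (f : E → E)
    (hf : ∀ u : E, σ u = u → u ≠ 0 → ∀ a, ∀ b, Ok σ (s + 1) b → g (x s a) = x (s + 1) b →
      g (x s (f u * a)) = x (s + 1) (u ^ 3 * b)) (hfadd : ∀ u : E, f (u + 1) = f u + 1) :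
    ∀ a ∈ XX σ x s, g a = 1 := by
  intro y hy
  have hso : s.val % 2 = 1 := by
    have : ∀ s : ZMod 12, ¬ Ev s → s.val % 2 = 1 := by decide
    exact this s hs
  have hse : (s + 1).val % 2 = 0 := by
    have : ∀ s : ZMod 12, ¬ Ev s → (s + 1).val % 2 = 0 := by decide
    exact this s hs
  obtain ⟨a, ha, rfl⟩ := (mem_XX h).1 hy
  obtain ⟨b, hb, e⟩ := (mem_XX h).1 (hg _ hy)
  have hb' : σ b = b := hb hse
  have hu10 : u + 1 ≠ 0 := fun e0 => hu1 (by
    have := eq_neg_of_add_eq_zero_left e0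
    rwa [h.neg_eq] at this)
  have e1 := hf u hu hu0 a b hb e
  have e2 := hf (u + 1) (by rw [map_add, hu, map_one]) hu10 a b hb e
  have e3 : x s (f (u + 1) * a) = x s (f u * a) * x s a := by
    rw [hfadd, add_mul, one_mul, h.add s _ _ (ok_odd hso _) (ok_odd hso _)]
  rw [e3, hadd _ (x_mem_XX (ok_odd hso _)) _ (x_mem_XX (ok_odd hso _)), e1, e] at e2
  have okb : ∀ v : E, σ v = v → Ok σ (s + 1) (v * b) := fun v hv => ok_of_fix _ (by rw [map_mul, hv, hb'])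
  have f3 : σ (u ^ 3) = u ^ 3 := by rw [map_pow, hu]
  have f4 : σ ((u + 1) ^ 3) = (u + 1) ^ 3 := by rw [map_pow, map_add, hu, map_one]
  rw [← h.add (s + 1) _ _ (okb _ f3) hb, h.x_inj ((okb _ f3).add hb) (okb _ f4)] at e2
  have e5 : u * (u + 1) * b = 0 := by
    have h2 : (2 : E) = 0 := h.two
    have : (u + 1) ^ 3 * b - (u ^ 3 * b + b) = u * (u + 1) * b + 2 * (u * (u + 1) * b) := by ring
    rw [← e2, sub_self, h2, zero_mul, add_zero] at this
    exact this.symm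
  have hb0 : b = 0 := by
    rcases mul_eq_zero.1 e5 with h6 | h6
    · exact absurd h6 (mul_ne_zero hu0 hu10)
    · exact h6
  rw [e, hb0, h.x_zero]

theorem nh1 [Finite E] (s : ZMod 12) (hs : ¬ Ev s) (g : Γ → Γ) (hg : ∀ a ∈ XX σ x s, g a ∈ XX σ x (s + 1))
    (hadd : ∀ a ∈ XX σ x s, ∀ b ∈ XX σ x s, g (a * b) = g a * g b)
    (hT : ∀ t ∈ h.H, Cen t (XX σ x (s - 1)) → ∀ a ∈ XX σ x s, g (t * a * t⁻¹) = t * g a * t⁻¹) :
    ∀ a ∈ XX σ x s, g a = 1 := by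
  have hso : s.val % 2 = 1 := by
    have : ∀ s : ZMod 12, ¬ Ev s → s.val % 2 = 1 := by decide
    exact this s hs
  refine kill h hu hu0 hu1 s hs g hg hadd (fun u => u) ?_ (fun u => rfl)
  intro v hv hv0 a b hb e
  have h3 : ∀ s : ZMod 12, ¬ Ev s → ¬ (s + 2).val % 2 = 0 := by decide
  have hok : Ok σ (s + 2) v := ok_of_fix _ hv
  have hch : ∀ d, ch σ (s + 2) d v = chS σ d v := fun d => by unfold ch; rw [if_neg (h3 s hs)]
  have hcen : Cen (hh x (s + 2) v) (XX σ x (s - 1)) := by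
    refine cen_of h fun a ha => ?_
    rw [h.tor (s + 2) (s - 1) hv0 hok ha, hch, show s - 1 - (s + 2) = -3 by ring]
    change x (s - 1) (1 * a) = _
    rw [one_mul]
  have := hT _ (h.hh_mem_H (s + 2) hv0 hok) hcen (x s a) (x_mem_XX (ok_odd hso a))
  rw [h.tor (s + 2) s hv0 hok (ok_odd hso a), e, h.tor (s + 2) (s + 1) hv0 hok hb, hch, hch,
    show s - (s + 2) = -2 by ring, show s + 1 - (s + 2) = -1 by ring] at this
  have e1 : chS σ (-2) v = v := by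
    change v⁻¹ * shp σ v = v
    unfold shp
    rw [hv, hv, inv_mul_cancel_left₀ hv0]
  have e2 : chS σ (-1) v = v ^ 3 := by
    change nrm σ v = v ^ 3
    unfold nrm
    rw [hv, hv]
    ring
  rw [e1, e2] at this
  exact this

theorem nh2 [Finite E] (s : ZMod 12) (hs : ¬ Ev s) (g : Γ → Γ) (hg : ∀ a ∈ XX σ x s, g a ∈ XX σ x (s + 1))
    (hadd : ∀ a ∈ XX σ x s, ∀ b ∈ XX σ x s, g (a * b) = g a * g b)
    (hT : ∀ t ∈ h.H, Cen t (XX σ x (s + 3)) → ∀ a ∈ XX σ x s, g (t * a * t⁻¹) = t * g a * t⁻¹) :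
    ∀ a ∈ XX σ x s, g a = 1 := by
  have hso : s.val % 2 = 1 := by
    have : ∀ s : ZMod 12, ¬ Ev s → s.val % 2 = 1 := by decide
    exact this s hs
  refine kill h hu hu0 hu1 s hs g hg hadd (fun u => u ^ 2) ?_ (fun u => ?_)
  · intro v hv hv0 a b hb e
    have hok : Ok σ s v := ok_of_fix _ hv
    have hch : ∀ d, ch σ s d v = chS σ d v := fun d => by unfold ch; rw [if_neg (by omega)]
    have hcen : Cen (hh x s v) (XX σ x (s + 3)) := by
      refine cen_of h fun a ha => ?_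
      rw [h.tor s (s + 3) hv0 hok ha, hch, show s + 3 - s = 3 by ring]
      change x (s + 3) (1 * a) = _
      rw [one_mul]
    have := hT _ (h.hh_mem_H s hv0 hok) hcen (x s a) (x_mem_XX (ok_odd hso a))
    rw [h.tor s s hv0 hok (ok_odd hso a), e, h.tor s (s + 1) hv0 hok hb, hch, hch,
      show s - s = 0 by ring, show s + 1 - s = 1 by ring] at this
    have e2 : chS σ 1 v = v ^ 3 := by
      change nrm σ v = v ^ 3
      unfold nrm
      rw [hv, hv]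
      ring
    rw [e2] at this
    exact this
  · have : (u + 1) ^ 2 = u ^ 2 + 1 + 2 * u := by ring
    rw [this, h.two, zero_mul, add_zero]

/-- `X s` is generated modulo `X (s-1) X (s+1)` by commutators of `X (s-2)` and `X (s+3)` -/
theorem genX (s : ZMod 12) (hs : ¬ Ev s) (Y : Subgroup Γ) (h1 : XX σ x (s - 1) ≤ Y) (h2 : XX σ x (s + 1) ≤ Y)
    (h3 : ∀ a ∈ XX σ x (s - 2), ∀ b ∈ XX σ x (s + 3), ⁅a, b⁆ ∈ Y) : XX σ x s ≤ Y := by
  intro y hy
  have hso : ∀ s : ZMod 12, ¬ Ev s → s.val % 2 = 1 ∧ (s - 2).val % 2 = 1 ∧ (s + 2).val % 2 = 1 := by decide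
  obtain ⟨o0, o1, o2⟩ := hso s hs
  obtain ⟨b, hb, rfl⟩ := (mem_XX h).1 hy
  by_cases hb0 : b = 0
  · rw [hb0, h.x_zero]
    exact one_mem _
  have hu10 : u + 1 ≠ 0 := fun e0 => hu1 (by
    have := eq_neg_of_add_eq_zero_left e0
    rwa [h.neg_eq] at this)
  -- `a = b#`, `a# = N(b) b`
  have hN := h.fix_nrm b
  have hN0 := nrm_ne_zero (σ := σ) hb0
  have ha : shp σ (shp σ b) = nrm σ b * b := by
    unfold shp nrm
    simp only [map_mul, h.cube]
    ring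
  set w : E := (nrm σ b)⁻¹ * (u + 1)⁻¹ with hw
  have hwf : σ w = w := by rw [hw, map_mul, map_inv₀, map_inv₀, hN, map_add, hu, map_one]
  have key : ∀ a t : E, σ t = t → ⁅x (s - 2) a, x (s + 3) t⁆ =
      x (s - 1) (t * nrm σ a) * x s (t * shp σ a) * x (s + 1) (t ^ 2 * nrm σ a) * x (s + 2) (t * a) := by
    intro a t ht
    have := h.commS5 o1 a ht
    rw [show s - 2 + 5 = s + 3 by ring, show s - 2 + 1 = s - 1 by ring, show s - 2 + 2 = s by ring,
      show s - 2 + 3 = s + 1 by ring, show s - 2 + 4 = s + 2 by ring] at this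
    exact this
  have hu' : σ (u⁻¹ * w) = u⁻¹ * w := by rw [map_mul, map_inv₀, hu, hwf]
  have m1 := h3 _ (x_mem_XX (ok_odd o1 (shp σ b))) _ (x_mem_XX (ok_of_fix (s + 3) hwf))
  have m2 := h3 _ (x_mem_XX (ok_odd o1 (u * shp σ b))) _ (x_mem_XX (ok_of_fix (s + 3) hu'))
  rw [key _ _ hwf] at m1
  rw [key _ _ hu'] at m2
  have s1 : shp σ (u * shp σ b) = u ^ 2 * shp σ (shp σ b) := by
    rw [shp_mul]
    congr 1
    unfold shp
    rw [hu, hu]
    ring
  have s2 : u⁻¹ * w * (u * shp σ b) = w * shp σ b := by field_simp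
  have s3 : u⁻¹ * w * shp σ (u * shp σ b) = u * (w * shp σ (shp σ b)) := by
    rw [s1]
    field_simp
  rw [s2, s3] at m2
  -- the elements of `X (s ± 1)`
  have f1 : ∀ a t : E, σ t = t → x (s - 1) (t * nrm σ a) ∈ Y := fun a t ht =>
    h1 (x_mem_XX (ok_of_fix _ (by rw [map_mul, ht, h.fix_nrm])))
  have f2 : ∀ a t : E, σ t = t → x (s + 1) (t ^ 2 * nrm σ a) ∈ XX σ x (s + 1) := fun a t ht =>
    x_mem_XX (ok_of_fix _ (by rw [map_mul, map_pow, ht, h.fix_nrm]))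
  have hc : ∀ c, ∀ y ∈ XX σ x (s + 1), x s c * y = y * x s c := by
    intro c y hy
    obtain ⟨d, hd, rfl⟩ := (mem_XX h).1 hy
    have hev : ∀ s : ZMod 12, ¬ Ev s → (s + 1).val % 2 = 0 := by decide
    exact HexTwo.swap (h.commS1 o0 c (hd (hev s hs)))
  have m3 := mul_mem m2 (inv_mem m1)
  set y1 := x (s - 1) (w * nrm σ (shp σ b))
  set y2 := x (s + 1) (w ^ 2 * nrm σ (shp σ b))
  set z1 := x (s - 1) (u⁻¹ * w * nrm σ (u * shp σ b))
  set z2 := x (s + 1) ((u⁻¹ * w) ^ 2 * nrm σ (u * shp σ b))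
  set c := w * shp σ (shp σ b) with hcdef
  have hy1 : y1 ∈ Y := f1 _ _ hwf
  have hz1 : z1 ∈ Y := f1 _ _ hu'
  have hy2 : y2 ∈ XX σ x (s + 1) := f2 _ _ hwf
  have hz2 : z2 ∈ XX σ x (s + 1) := f2 _ _ hu'
  have m4 := mul_mem (mul_mem (inv_mem hz1) m3) hy1
  have e1 : z1⁻¹ * (z1 * x s (u * c) * z2 * x (s + 2) (w * shp σ b) *
      (y1 * x s c * y2 * x (s + 2) (w * shp σ b))⁻¹) * y1 =
      x s (u * c) * (z2 * y2⁻¹) * (x s c)⁻¹ := by group
  rw [e1, hc _ _ (mul_mem hz2 (inv_mem hy2)), h.x_inv (ok_odd o0 c), mul_assoc,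
    ← h.add s _ _ (ok_odd o0 _) (ok_odd o0 _)] at m4
  have m5 := mul_mem (h2 (inv_mem (mul_mem hz2 (inv_mem hy2)))) m4
  rw [inv_mul_cancel_left] at m5
  have e2 : u * c + c = b := by
    rw [hcdef, ha, hw]
    field_simp
  rwa [e2] at m5

/-- **The environment of the growth from a hexagonal root system.** -/
theorem env [Finite E] {t : Γ} (C : CT σ x t) : Env t h.H (XX σ x) (nn x) where
  tt := C.tt
  tX r a ha := by
    obtain ⟨b, hb, rfl⟩ := (mem_XX h).1 ha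
    exact C.tX r b hb
  tT g hg := by
    have : h.H ≤ Subgroup.centralizer {t} := by
      refine (h.H_le_AA).trans (gen_le fun k _ a ha => ?_)
      rw [Subgroup.mem_centralizer_singleton_iff]
      exact C.tX k a ha
    exact Subgroup.mem_centralizer_singleton_iff.1 (this hg)
  tn k := by
    have : HexTwo.AA σ x ≤ Subgroup.centralizer {t} := by
      refine gen_le fun k _ a ha => ?_
      rw [Subgroup.mem_centralizer_singleton_iff]
      exact C.tX k a ha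
    exact Subgroup.mem_centralizer_singleton_iff.1 (this (HexTwo.nn_mem_AA k))
  tnot := by
    rw [iSup_eq]
    exact C.tnot
  sq r a ha := by
    obtain ⟨b, hb, rfl⟩ := (mem_XX h).1 ha
    exact h.x_sq hb
  ne r := ⟨x r 1, x_mem_XX (ok_one σ r), fun e => one_ne_zero (h.inj r 1 (ok_one σ r) e)⟩
  Tab g hg g' hg' := (h.H_comm hg hg').eq
  Todd g hg := by
    obtain ⟨m, hm1, hm⟩ := h.exists_card
    refine Odd.of_dvd_nat ?_ (orderOf_dvd_of_pow_eq_one (h.H_pow hg))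
    rw [hm]
    obtain ⟨r, rfl⟩ := Nat.exists_eq_add_of_le hm1
    rw [pow_add, pow_one]
    have : 0 < 2 ^ r := by positivity
    exact ⟨2 ^ r - 1, by omega⟩
  TX g hg r a ha := h.H_conj_gen hg _ ha
  nX k r a ha := h.nn_singleton k rfl ha
  nT k g hg := h.nn_conj_H k hg
  ngen k := HexTwo.nn_mem_sup k
  c1 r a ha b hb := by
    obtain ⟨a, ha', rfl⟩ := (mem_XX h).1 ha
    obtain ⟨b, hb', rfl⟩ := (mem_XX h).1 hb
    rcases Nat.mod_two_eq_zero_or_one r.val with hr | hr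
    · exact HexTwo.swap (h.commL1 hr (ha' hr) b)
    · have : ∀ r : ZMod 12, r.val % 2 = 1 → (r + 1).val % 2 = 0 := by decide
      exact HexTwo.swap (h.commS1 hr a (hb' (this r hr)))
  c3 r a ha b hb := by
    obtain ⟨a, ha', rfl⟩ := (mem_XX h).1 ha
    obtain ⟨b, hb', rfl⟩ := (mem_XX h).1 hb
    rcases Nat.mod_two_eq_zero_or_one r.val with hr | hr
    · exact HexTwo.swap (h.commL3 hr (ha' hr) b)
    · have : ∀ r : ZMod 12, r.val % 2 = 1 → (r + 3).val % 2 = 0 := by decide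
      exact HexTwo.swap (h.commS3 hr a (hb' (this r hr)))
  l2 r hr a ha b hb := by
    obtain ⟨a, ha', rfl⟩ := (mem_XX h).1 ha
    obtain ⟨b, hb', rfl⟩ := (mem_XX h).1 hb
    have : ∀ r : ZMod 12, Ev r → (r + 2).val % 2 = 0 := by decide
    exact HexTwo.swap (h.commL2 hr (ha' hr) (hb' (this r hr)))
  l4 r hr a ha b hb := by
    obtain ⟨a, ha', rfl⟩ := (mem_XX h).1 ha
    obtain ⟨b, hb', rfl⟩ := (mem_XX h).1 hb
    have : ∀ r : ZMod 12, Ev r → (r + 4).val % 2 = 0 := by decide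
    have ka := ha' hr
    have kb := hb' (this r hr)
    rw [h.commL4 hr ka kb]
    exact x_mem_XX (ok_of_fix _ (by rw [map_mul, ka, kb]))
  l4n r hr a ha b hb ha1 hb1 e := by
    obtain ⟨a, ha', rfl⟩ := (mem_XX h).1 ha
    obtain ⟨b, hb', rfl⟩ := (mem_XX h).1 hb
    have : ∀ r : ZMod 12, Ev r → (r + 4).val % 2 = 0 := by decide
    have ka := ha' hr
    have kb := hb' (this r hr)
    have h1 := h.commL4 hr ka kb
    have h2 : ⁅x r a, x (r + 4) b⁆ = 1 := by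
      rw [commutatorElement_def, e]
      group
    rw [h2] at h1
    rcases mul_eq_zero.1 (h.inj _ _ (ok_of_fix _ (by rw [map_mul, ka, kb])) h1.symm) with h0 | h0
    · exact ha1 (by rw [h0, h.x_zero])
    · exact hb1 (by rw [h0, h.x_zero])
  s2 r hr a ha b hb := by
    obtain ⟨a, ha', rfl⟩ := (mem_XX h).1 ha
    obtain ⟨b, hb', rfl⟩ := (mem_XX h).1 hb
    have : ∀ r : ZMod 12, ¬ Ev r → r.val % 2 = 1 := by decide
    rw [h.commS2 (this r hr)]
    exact x_mem_XX (ok_of_fix _ (h.fix_trc a b))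
  s4 r hr a ha b hb := by
    obtain ⟨a, ha', rfl⟩ := (mem_XX h).1 ha
    obtain ⟨b, hb', rfl⟩ := (mem_XX h).1 hb
    have : ∀ r : ZMod 12, ¬ Ev r → r.val % 2 = 1 ∧ (r + 2).val % 2 = 1 := by decide
    rw [h.commS4 (this r hr).1]
    exact mul_mem (mul_mem (Subgroup.mem_sup_left (Subgroup.mem_sup_left (x_mem_XX (ok_of_fix _ (h.fix_trc _ _)))))
      (Subgroup.mem_sup_left (Subgroup.mem_sup_right (x_mem_XX (ok_odd (this r hr).2 _)))))
      (Subgroup.mem_sup_right (x_mem_XX (ok_of_fix _ (h.fix_trc _ _))))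
  c5 r a ha b hb := by
    obtain ⟨a, ha', rfl⟩ := (mem_XX h).1 ha
    obtain ⟨b, hb', rfl⟩ := (mem_XX h).1 hb
    have i1 : XX σ x (r + 1) ≤ XX σ x (r + 1) ⊔ XX σ x (r + 2) ⊔ XX σ x (r + 3) ⊔ XX σ x (r + 4) :=
      le_sup_of_le_left (le_sup_of_le_left le_sup_left)
    have i2 : XX σ x (r + 2) ≤ XX σ x (r + 1) ⊔ XX σ x (r + 2) ⊔ XX σ x (r + 3) ⊔ XX σ x (r + 4) :=
      le_sup_of_le_left (le_sup_of_le_left le_sup_right)
    have i3 : XX σ x (r + 3) ≤ XX σ x (r + 1) ⊔ XX σ x (r + 2) ⊔ XX σ x (r + 3) ⊔ XX σ x (r + 4) :=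
      le_sup_of_le_left le_sup_right
    have i4 : XX σ x (r + 4) ≤ XX σ x (r + 1) ⊔ XX σ x (r + 2) ⊔ XX σ x (r + 3) ⊔ XX σ x (r + 4) :=
      le_sup_right
    have p1 : ∀ r : ZMod 12, r.val % 2 = 0 → (r + 1).val % 2 = 1 ∧ (r + 3).val % 2 = 1 := by decide
    have p2 : ∀ r : ZMod 12, r.val % 2 = 1 → (r + 2).val % 2 = 1 ∧ (r + 4).val % 2 = 1 ∧ (r + 5).val % 2 = 0 := by
      decide
    have fx : ∀ k (t c : E), σ t = t → x k (t * nrm σ c) ∈ XX σ x k := fun k t c ht =>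
      x_mem_XX (ok_of_fix _ (by rw [map_mul, ht, h.fix_nrm]))
    have fx2 : ∀ k (t c : E), σ t = t → x k (t ^ 2 * nrm σ c) ∈ XX σ x k := fun k t c ht =>
      fx k _ c (by rw [map_pow, ht])
    rcases Nat.mod_two_eq_zero_or_one r.val with hr | hr
    · have ka := ha' hr
      rw [h.commL5 hr ka b]
      exact mul_mem (mul_mem (mul_mem (i1 (x_mem_XX (ok_odd (p1 r hr).1 _))) (i2 (fx2 _ _ _ ka)))
        (i3 (x_mem_XX (ok_odd (p1 r hr).2 _)))) (i4 (fx _ _ _ ka))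
    · have kb := hb' (p2 r hr).2.2
      rw [h.commS5 hr a kb]
      exact mul_mem (mul_mem (mul_mem (i1 (fx _ _ _ kb)) (i2 (x_mem_XX (ok_odd (p2 r hr).1 _))))
        (i3 (fx2 _ _ _ kb))) (i4 (x_mem_XX (ok_odd (p2 r hr).2.1 _)))
  dis r a ha hd := by
    obtain ⟨a, ha', rfl⟩ := (mem_XX h).1 ha
    have h5 : ∀ r : ZMod 12, (r + 1 - (r + 1)).val < 5 ∧ (r + 2 - (r + 1)).val < 5 ∧ (r + 3 - (r + 1)).val < 5 ∧
        (r + 4 - (r + 1)).val < 5 ∧ (r + 5 - (r + 1)).val < 5 := by decide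
    obtain ⟨k1, k2, k3, k4, k5⟩ := h5 r
    have hle : XX σ x (r + 1) ⊔ XX σ x (r + 2) ⊔ XX σ x (r + 3) ⊔ XX σ x (r + 4) ⊔ XX σ x (r + 5) ≤
        gen σ x (arc (r + 1) 5) :=
      sup_le (sup_le (sup_le (sup_le (XX_le k1) (XX_le k2)) (XX_le k3)) (XX_le k4)) (XX_le k5)
    rw [h.mem_first_eq_zero ha' (hle hd), h.x_zero]
  gen s hs Y h1 h2 h3 := genX h hu hu0 hu1 s hs Y h1 h2 h3
  ttr r a ha b hb ha1 hb1 := by
    obtain ⟨a, ha', rfl⟩ := (mem_XX h).1 ha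
    obtain ⟨b, hb', rfl⟩ := (mem_XX h).1 hb
    have ha0 : a ≠ 0 := fun e => ha1 (by rw [e, h.x_zero])
    have hb0 : b ≠ 0 := fun e => hb1 (by rw [e, h.x_zero])
    obtain ⟨c, hc⟩ := h.exists_sqrt (b * a⁻¹)
    have hc0 : c ≠ 0 := by
      rintro rfl
      rw [mul_zero] at hc
      exact mul_ne_zero hb0 (inv_ne_zero ha0) hc.symm
    have hok : Ok σ r c := fun h0 => h.sqrt_fix hc (by rw [map_mul, map_inv₀, ha' h0, hb' h0])
    refine ⟨hh x r c, h.hh_mem_H r hc0 hok, ?_⟩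
    rw [h.tor r r hc0 hok ha', sub_self, ch_zero_right, pow_two, hc, inv_mul_cancel_right₀ ha0]
  tfp r := tfp h hu hu0 hu1 r
  tod s hs := tod h hu hu0 hu1 s hs
  tev r hr := tev h hu hu0 hu1 r hr
  nh1 s hs g := nh1 h hu hu0 hu1 s hs g
  nh2 s hs g := nh2 h hu hu0 hu1 s hs g
  cW s hs c hc h1 h2 h3 := by
    rw [QQ_eq]
    simp only [pair_eq] at h3
    exact C.cW s hs c hc h1 h2 h3
  cQ2 s hs c hc h1 := by
    rw [QQ_eq] at h1
    rw [pair_eq]
    exact C.cQ2 s hs c hc h1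
  cQ1 r hr c hc h1 h2 := by
    rw [QQ_eq] at h2 ⊢
    exact C.cQ1 r hr c hc h1 h2
  cQ1' r hr c hc h1 := by
    rw [QQ_eq] at h1
    exact C.cQ1' r hr c hc h1
  cU r hr c hc h1 h2 h3 h4 := by
    rw [UU_eq]
    exact C.cU r hr c hc h1 h2 h3 h4

end Weights

end Cfsg.Agent.HexGrow.OfHexTwo
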