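import Cfsg.Agent.HexGrow.OfHexTwo

/-!
# S1778, types `G2(q)` and `3D4(q)`: the facts on `C(t)` of the environment from the outer automorphisms

`OutS σ x t` : `t` is an involution centralising all root elements, `C(t) ∩ C(A) = {1, t}`, and every element of `C(t)` acts
on the root elements like an element of `A` times a field automorphism.
`OutS.ct : CT σ x t` : the facts `cW`, `cQ2`, `cQ1`, `cQ1'`, `cU`.
-/

set_option autoImplicit false

namespace Cfsg.Agent.HexGrow.OfOut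

open Cfsg.Agent.SplitTwo Cfsg.Agent.StdRank2.Hex
open scoped commutatorElement
open Defs OfHexTwo

section Shift

variable {E : Type*} [Field E] {σ : E ≃+* E} {Γ : Type*} [Group Γ] {x : ZMod 12 → E → Γ}

theorem ok_shift {k c : ZMod 12} (hc : c.val % 2 = 0) {a : E} : Ok σ (k + c) a ↔ Ok σ k a := by
  have : ∀ k c : ZMod 12, c.val % 2 = 0 → (k + c).val % 2 = k.val % 2 := by decide
  exact ⟨fun ha => ha.congr (this k c hc).symm, fun ha => ha.congr (this k c hc)⟩

theorem gen_shift {c : ZMod 12} (hc : c.val % 2 = 0) (S : Set (ZMod 12)) :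
    gen σ (fun j => x (j + c)) S = gen σ x {l | l - c ∈ S} := by
  refine le_antisymm (gen_le fun k hk a ha => ?_) (gen_le fun k hk a ha => ?_)
  · refine x_mem_gen (x := x) (k := k + c) ?_ ((ok_shift hc).2 ha)
    change k + c - c ∈ S
    rwa [add_sub_cancel_right]
  · have hk' : k - c ∈ S := hk
    have e : k - c + c = k := by ring
    have ha' : Ok σ (k - c) a := (ok_shift hc).1 (by rwa [e])
    have := x_mem_gen (x := fun j => x (j + c)) hk' ha'
    simpa only [e] using this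

theorem gen_arc {c : ZMod 12} (hc : c.val % 2 = 0) (k : ZMod 12) (n : ℕ) :
    gen σ (fun j => x (j + c)) (arc k n) = gen σ x (arc (k + c) n) := by
  rw [gen_shift hc]
  congr 1
  ext l
  change (l - c - k).val < n ↔ (l - (k + c)).val < n
  rw [show l - c - k = l - (k + c) by ring]

theorem gen_one {c : ZMod 12} (hc : c.val % 2 = 0) (k : ZMod 12) :
    gen σ (fun j => x (j + c)) {k} = gen σ x {k + c} := by
  rw [gen_shift hc]
  congr 1
  ext l
  change l - c = k ↔ l = k + c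
  exact sub_eq_iff_eq_add

theorem gen_two {c : ZMod 12} (hc : c.val % 2 = 0) (k l : ZMod 12) :
    gen σ (fun j => x (j + c)) {k, l} = gen σ x {k + c, l + c} := by
  rw [gen_shift hc]
  congr 1
  ext m
  change (m - c = k ∨ m - c = l) ↔ (m = k + c ∨ m = l + c)
  rw [sub_eq_iff_eq_add, sub_eq_iff_eq_add]

theorem AA_shift {c : ZMod 12} (hc : c.val % 2 = 0) : HexTwo.AA σ (fun j => x (j + c)) = HexTwo.AA σ x := by
  unfold HexTwo.AA
  rw [gen_shift hc]
  rfl

end Shift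

variable {E : Type*} [Field E] {σ : E ≃+* E} {Γ : Type*} [Group Γ] {x : ZMod 12 → E → Γ}

variable (σ x) in
/-- `C(t) ∩ C(A) = {1, t}`, `C(t)` induces inner-field automorphisms on `A`. -/
structure OutS (t : Γ) : Prop where
  tt : t * t = 1
  tX : ∀ r a, Ok σ r a → x r a * t = t * x r a
  tnot : t ∉ HexTwo.AA σ x
  cen : ∀ c, c * t = t * c → (∀ r a, Ok σ r a → c * x r a = x r a * c) → c = 1 ∨ c = t
  out : ∀ c, c * t = t * c → ∃ g ∈ HexTwo.AA σ x, ∃ ρ : E ≃+* E,
    ∀ r a, Ok σ r a → c * x r a * c⁻¹ = g * x r (ρ a) * g⁻¹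

theorem OutS.shift {t : Γ} (O : OutS σ x t) {c₀ : ZMod 12} (hc : c₀.val % 2 = 0) :
    OutS σ (fun j => x (j + c₀)) t where
  tt := O.tt
  tX r a ha := O.tX _ a ((ok_shift hc).2 ha)
  tnot := by rw [AA_shift hc]; exact O.tnot
  cen c hct hc2 := O.cen c hct fun r a ha => by
    have e : r - c₀ + c₀ = r := by ring
    have := hc2 (r - c₀) a ((ok_shift hc).1 (by rwa [e]))
    simpa only [e] using this
  out c hct := by
    obtain ⟨g, hg, ρ, h2⟩ := O.out c hct
    exact ⟨g, by rw [AA_shift hc]; exact hg, ρ, fun r a ha => h2 _ a ((ok_shift hc).2 ha)⟩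

section Base

variable {t : Γ} (O : OutS σ x t)
include O

theorem comm_AA {z : Γ} (hz : z ∈ HexTwo.AA σ x) : z * t = t * z := by
  have : HexTwo.AA σ x ≤ Subgroup.centralizer {t} := by
    refine gen_le fun k _ a ha => ?_
    rw [Subgroup.mem_centralizer_singleton_iff]
    exact O.tX k a ha
  exact Subgroup.mem_centralizer_singleton_iff.1 (this hz)

theorem tc_comm {c z : Γ} (hz : z ∈ HexTwo.AA σ x) (h : c * z = z * c) : t * c * z = z * (t * c) := by
  rw [mul_assoc, h, ← mul_assoc, ← comm_AA O hz, mul_assoc]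

theorem tc_br {c z : Γ} (hct : c * t = t * c) (hz : z ∈ HexTwo.AA σ x) : ⁅t * c, z⁆ = ⁅c, z⁆ := by
  have h1 := comm_AA O hz
  have h2 : c * z * c⁻¹ * t = t * (c * z * c⁻¹) := by
    have h3 : c⁻¹ * t = t * c⁻¹ := by
      rw [inv_mul_eq_iff_eq_mul, ← mul_assoc, hct, mul_inv_cancel_right]
    calc c * z * c⁻¹ * t = c * z * (c⁻¹ * t) := by group
      _ = c * (z * t) * c⁻¹ := by rw [h3]; group
      _ = (c * t) * z * c⁻¹ := by rw [h1]; group
      _ = _ := by rw [hct]; group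
  rw [commutatorElement_def, commutatorElement_def]
  calc t * c * z * (t * c)⁻¹ * z⁻¹ = t * (c * z * c⁻¹) * t⁻¹ * z⁻¹ := by group
    _ = c * z * c⁻¹ * z⁻¹ := by rw [← h2]; group

variable (h : HexTwo σ x)
include h

/-- **An element of `C(t)` centralising `x 4 1` and acting trivially on `X₃` modulo `X₂X₄` lies in `⟨t⟩ U`.** -/
theorem core [Finite E] {c : Γ} (hct : c * t = t * c) (h4 : c * x 4 1 = x 4 1 * c)
    (h3 : ∀ y, ⁅c, x 3 y⁆ ∈ gen σ x {2, 4}) : c ∈ HexTwo.UU σ x ∨ t * c ∈ HexTwo.UU σ x := by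
  obtain ⟨g₀, hg₀, ρ, hρ₀⟩ := O.out c hct
  obtain ⟨g, rfl⟩ : ∃ g, g₀ = g⁻¹ := ⟨g₀⁻¹, (inv_inv g₀).symm⟩
  have hg : g ∈ HexTwo.AA σ x := by
    rw [← inv_inv g]
    exact inv_mem hg₀
  have hρ : ∀ r a, Ok σ r a → (g * c) * x r a * (g * c)⁻¹ = x r (ρ a) := by
    intro r a ha
    calc g * c * x r a * (g * c)⁻¹ = g * (c * x r a * c⁻¹) * g⁻¹ := by group
      _ = _ := by rw [hρ₀ r a ha]; group
  have hc' : ∀ r a, Ok σ r a → g⁻¹ * x r (ρ a) * g = c * x r a * c⁻¹ := by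
    intro r a ha
    rw [← hρ r a ha]
    group
  have o3 : ∀ a : E, Ok σ (3 : ZMod 12) a := fun a => ok_odd (by decide) a
  have hgi : g⁻¹ ∈ HexTwo.AA σ x := inv_mem hg
  have k4 : g⁻¹ * x 4 1 * (g⁻¹)⁻¹ = x 4 1 := by
    have := hc' 4 1 (ok_one σ 4)
    rw [map_one, h4, mul_inv_cancel_right] at this
    rw [inv_inv]
    exact this
  have k3 : ∀ y, ⁅g⁻¹, x 3 (ρ y)⁆ * x 3 (ρ y) * x 3 y = ⁅c, x 3 y⁆ := by
    intro y
    have := hc' 3 y (o3 y)
    rw [commutatorElement_def, commutatorElement_def, inv_inv, inv_mul_cancel_right, this, h.x_inv (o3 y)]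
  have k31 : ⁅g⁻¹, x 3 1⁆ ∈ gen σ x {2, 4} := by
    have e1 := k3 1
    rw [map_one, mul_assoc, h.x_sq (o3 1), mul_one] at e1
    rw [e1]
    exact h3 1
  have hU := h.mem_U_of hgi k4 k31
  have hρ1 : ∀ y, ρ y = y := fun y => h.U_x3 hU (by rw [k3 y]; exact h3 y)
  have hgc : g * c * t = t * (g * c) := by
    rw [mul_assoc, hct, ← mul_assoc, comm_AA O hg, mul_assoc]
  rcases O.cen (g * c) hgc fun r a ha => by
    have := hρ r a ha
    rw [hρ1] at this
    rwa [mul_inv_eq_iff_eq_mul] at this with e | e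
  · left
    rw [eq_inv_of_mul_eq_one_right e]
    exact hU
  · right
    have : t * c = g⁻¹ := by
      have h5 : c = g⁻¹ * t := by rw [← e]; group
      rw [h5, ← mul_assoc, ← comm_AA O hgi, mul_assoc, O.tt, mul_one]
    rw [this]
    exact hU

theorem cW_base [Finite E] {c : Γ} (hct : c * t = t * c) (h2 : ∀ a ∈ gen σ x {2}, c * a = a * c)
    (h4 : ∀ a ∈ gen σ x {4}, c * a = a * c) (h3 : ∀ a ∈ gen σ x {3}, ⁅c, a⁆ ∈ gen σ x {2, 4}) :
    c ∈ gen σ x (arc 1 5) ∨ t * c ∈ gen σ x (arc 1 5) := by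
  have m : ∀ k a, Ok σ k a → x k a ∈ gen σ x {k} := fun k a ha => x_mem_gen (Set.mem_singleton k) ha
  have o3 : ∀ a : E, Ok σ (3 : ZMod 12) a := fun a => ok_odd (by decide) a
  have k2 : c * x 2 1 = x 2 1 * c := h2 _ (m 2 1 (ok_one σ 2))
  rcases core O h hct (h4 _ (m 4 1 (ok_one σ 4))) (fun y => h3 _ (m 3 y (o3 y))) with hU | hU
  · exact Or.inl (h.mem_Q2_of_U hU k2)
  · exact Or.inr (h.mem_Q2_of_U hU (tc_comm O (HexTwo.x_mem_AA (ok_one σ 2)) k2))

theorem cQ2_base [Finite E] {c : Γ} (hct : c * t = t * c) (hQ : ∀ a ∈ gen σ x (arc 1 5), c * a = a * c) :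
    c ∈ gen σ x {2, 4} ∨ t * c ∈ gen σ x {2, 4} := by
  have mq : ∀ k, k ∈ arc 1 5 → ∀ a, Ok σ k a → c * x k a = x k a * c := fun k hk a ha => hQ _ (x_mem_gen hk ha)
  have o3 : ∀ a : E, Ok σ (3 : ZMod 12) a := fun a => ok_odd (by decide) a
  have k3 : ∀ y, ⁅c, x 3 y⁆ ∈ gen σ x {2, 4} := fun y => by
    rw [commutatorElement_eq_one_iff_mul_comm.2 (mq 3 (by rw [mem_arc]; decide) y (o3 y))]
    exact one_mem _
  rcases core O h hct (mq 4 (by rw [mem_arc]; decide) 1 (ok_one σ 4)) k3 with hU | hU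
  · exact Or.inl (h.mem_W_of (HexTwo.gen_le_AA _ hU) fun v hv => hQ v hv)
  · exact Or.inr (h.mem_W_of (HexTwo.gen_le_AA _ hU) fun v hv => tc_comm O (HexTwo.gen_le_AA _ hv) (hQ v hv))

theorem cQ1_base [Finite E] {c : Γ} (hct : c * t = t * c) (h4 : ∀ a ∈ gen σ x {4}, c * a = a * c)
    (hQ : ∀ a ∈ gen σ x (arc 2 5), ⁅c, a⁆ ∈ gen σ x {4}) :
    c ∈ gen σ x (arc 2 5) ∨ t * c ∈ gen σ x (arc 2 5) := by
  have mq : ∀ k, k ∈ arc 2 5 → ∀ a, Ok σ k a → ⁅c, x k a⁆ ∈ gen σ x {4} := fun k hk a ha => hQ _ (x_mem_gen hk ha)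
  have o3 : ∀ a : E, Ok σ (3 : ZMod 12) a := fun a => ok_odd (by decide) a
  have k3 : ∀ y, ⁅c, x 3 y⁆ ∈ gen σ x {4} := fun y => mq 3 (by rw [mem_arc]; decide) y (o3 y)
  have k3' : ∀ y, ⁅c, x 3 y⁆ ∈ gen σ x {2, 4} := fun y => gen_mono (by simp) (k3 y)
  rcases core O h hct (h4 _ (x_mem_gen (Set.mem_singleton _) (ok_one σ 4))) k3' with hU | hU
  · exact Or.inl (h.mem_Q1_of_U hU k3)
  · exact Or.inr (h.mem_Q1_of_U hU fun y => by
      rw [tc_br O hct (HexTwo.x_mem_AA (o3 y))]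
      exact k3 y)

theorem cQ1p_base [Finite E] {c : Γ} (hct : c * t = t * c) (hQ : ∀ a ∈ gen σ x (arc 2 5), c * a = a * c) :
    c ∈ gen σ x {4} ∨ t * c ∈ gen σ x {4} := by
  have mq : ∀ k, k ∈ arc 2 5 → ∀ a, Ok σ k a → c * x k a = x k a * c := fun k hk a ha => hQ _ (x_mem_gen hk ha)
  have o3 : ∀ a : E, Ok σ (3 : ZMod 12) a := fun a => ok_odd (by decide) a
  have k3 : ∀ y, ⁅c, x 3 y⁆ ∈ gen σ x {2, 4} := fun y => by
    rw [commutatorElement_eq_one_iff_mul_comm.2 (mq 3 (by rw [mem_arc]; decide) y (o3 y))]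
    exact one_mem _
  rcases core O h hct (mq 4 (by rw [mem_arc]; decide) 1 (ok_one σ 4)) k3 with hU | hU
  · exact Or.inl (h.mem_X4_of (HexTwo.gen_le_AA _ hU) fun v hv => hQ v hv)
  · exact Or.inr (h.mem_X4_of (HexTwo.gen_le_AA _ hU) fun v hv => tc_comm O (HexTwo.gen_le_AA _ hv) (hQ v hv))

theorem cU_base [Finite E] {c : Γ} (hct : c * t = t * c) (h4 : ∀ a ∈ gen σ x {4}, c * a = a * c)
    (h3 : ∀ a ∈ gen σ x {3}, ⁅c, a⁆ ∈ gen σ x {2, 4}) :
    c ∈ gen σ x (arc 1 6) ∨ t * c ∈ gen σ x (arc 1 6) :=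
  core O h hct (h4 _ (x_mem_gen (Set.mem_singleton _) (ok_one σ 4)))
    fun y => h3 _ (x_mem_gen (Set.mem_singleton _) (ok_odd (by decide) y))

/-- **The facts on `C(t)`.** -/
theorem ct [Finite E] : CT σ x t where
  tt := O.tt
  tX := O.tX
  tnot := O.tnot
  cW s hs c hct h1 h2 h3 := by
    have hc : (s - 3).val % 2 = 0 := by
      have : ∀ s : ZMod 12, ¬ Ev s → (s - 3).val % 2 = 0 := by decide
      exact this s hs
    have key := cW_base (O.shift hc) (h.shift hc) (c := c) hct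
    rw [gen_one hc, gen_one hc, gen_one hc, gen_two hc, gen_arc hc, show 2 + (s - 3) = s - 1 by ring,
      show 4 + (s - 3) = s + 1 by ring, show 3 + (s - 3) = s by ring, show 1 + (s - 3) = s - 2 by ring] at key
    exact key h1 h2 h3
  cQ2 s hs c hct h1 := by
    have hc : (s - 3).val % 2 = 0 := by
      have : ∀ s : ZMod 12, ¬ Ev s → (s - 3).val % 2 = 0 := by decide
      exact this s hs
    have key := cQ2_base (O.shift hc) (h.shift hc) (c := c) hct
    rw [gen_two hc, gen_arc hc, show 2 + (s - 3) = s - 1 by ring,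
      show 4 + (s - 3) = s + 1 by ring, show 1 + (s - 3) = s - 2 by ring] at key
    exact key h1
  cQ1 r hr c hct h1 h2 := by
    have hc : (r - 4).val % 2 = 0 := by
      have : ∀ r : ZMod 12, Ev r → (r - 4).val % 2 = 0 := by decide
      exact this r hr
    have key := cQ1_base (O.shift hc) (h.shift hc) (c := c) hct
    rw [gen_one hc, gen_arc hc, show 4 + (r - 4) = r by ring, show 2 + (r - 4) = r - 2 by ring] at key
    exact key h1 h2
  cQ1' r hr c hct h1 := by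
    have hc : (r - 4).val % 2 = 0 := by
      have : ∀ r : ZMod 12, Ev r → (r - 4).val % 2 = 0 := by decide
      exact this r hr
    have key := cQ1p_base (O.shift hc) (h.shift hc) (c := c) hct
    rw [gen_one hc, gen_arc hc, show 4 + (r - 4) = r by ring, show 2 + (r - 4) = r - 2 by ring] at key
    exact key h1
  cU r hr c hct h1 _ h3 _ := by
    have hc : (r - 4).val % 2 = 0 := by
      have : ∀ r : ZMod 12, Ev r → (r - 4).val % 2 = 0 := by decide
      exact this r hr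
    have key := cU_base (O.shift hc) (h.shift hc) (c := c) hct
    rw [gen_one hc, gen_one hc, gen_two hc, gen_arc hc, show 4 + (r - 4) = r by ring,
      show 2 + (r - 4) = r - 2 by ring, show 3 + (r - 4) = r - 1 by ring, show 1 + (r - 4) = r - 3 by ring] at key
    refine key h1 ?_
    rw [← pair_eq]
    exact h3

/-- **The environment of the growth**, everything included. -/
theorem env [Finite E] {u : E} (hu : σ u = u) (hu0 : u ≠ 0) (hu1 : u ≠ 1) :
    Env t h.H (XX σ x) (nn x) := OfHexTwo.env h hu hu0 hu1 (ct O h)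

end Base

end Cfsg.Agent.HexGrow.OfOut
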