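import Cfsg.Agent.HexGrow.Tower

/-!
# Growth for `G2(q)`, `3D4(q)`: two commuting root groups with `C_Δ(t) = A B` have commuting doubles
-/

set_option autoImplicit false

namespace Cfsg.Agent.HexGrow.Pair

open Cfsg.Agent.HexGrow.Defs Cfsg.Agent.HexGrow.Basic Cfsg.Agent.HexGrow.Tools Cfsg.Agent.HexGrow.LongTwo
  Cfsg.Agent.HexGrow.QOne Cfsg.Agent.HexGrow.Short Cfsg.Agent.HexGrow.Short2 Cfsg.Agent.HexGrow.Tower
open scoped commutatorElement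

section Clean

variable {G : Type*} [Group G] [Finite G] {t : G} {T Δ A B A' B' : Subgroup G}

theorem half (DA : Dbl t A A') (hA' : A' ≤ Δ) (hB : B ≤ Δ)
    (hc : ∀ g ∈ Δ, g * t = t * g → ∃ a ∈ A, ∃ b ∈ B, g = a * b)
    (tB : ∀ b ∈ B, b * t = t * b) (hAB : ∀ a ∈ A, ∀ b ∈ B, a * b = b * a) (Bsq : ∀ b ∈ B, b * b = 1)
    (TB : ∀ h ∈ T, ∀ b ∈ B, h * b * h⁻¹ ∈ B) (TA' : ∀ h ∈ T, ∀ y ∈ A', h * y * h⁻¹ ∈ A')
    {k : G} (hk : k ∈ T) (kA : Cen k A') (kB : Fpf k B)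
    (trB : ∀ a ∈ B, ∀ b ∈ B, a ≠ 1 → b ≠ 1 → ∃ h ∈ T, h * a * h⁻¹ = b) (neB : ∃ b ∈ B, b ≠ 1) :
    ∀ y ∈ A', ∀ x ∈ B, y * x = x * y := by
  classical
  -- step 1
  have s1 : ∀ y ∈ A', ∀ x ∈ B, ∃ a ∈ A, ∃ b ∈ B, ⁅y, x⁆ = a * b := by
    intro y hy x hx
    apply hc
    · rw [commutatorElement_def]
      exact mul_mem (mul_mem (mul_mem (hA' hy) (hB hx)) (inv_mem (hA' hy))) (inv_mem (hB hx))
    · have ha := DA.br y hy
      set a := ⁅t, y⁆ with had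
      have e1 : t * y * t⁻¹ = a * y := by rw [had, commutatorElement_def]; group
      have e2 : t * x * t⁻¹ = x := by rw [← tB x hx, mul_inv_cancel_right]
      have e3 : t * ⁅y, x⁆ * t⁻¹ = ⁅t * y * t⁻¹, t * x * t⁻¹⁆ := by simp only [commutatorElement_def]; group
      have hay : a * y = y * a := dbl_ab DA a (DA.le ha) y hy
      have hax := hAB a ha x hx
      have e4 : ⁅a * y, x⁆ = ⁅y, x⁆ := by
        rw [comm_mul_left, commutatorElement_eq_one_iff_mul_comm.mpr hax, mul_one]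
        have : a * ⁅y, x⁆ * a⁻¹ = ⁅a * y * a⁻¹, a * x * a⁻¹⁆ := by simp only [commutatorElement_def]; group
        rw [this, hay, hax, mul_inv_cancel_right, mul_inv_cancel_right]
      rw [e1, e2, e4] at e3
      calc ⁅y, x⁆ * t = (t * ⁅y, x⁆ * t⁻¹) * t := by rw [e3]
        _ = _ := by group
  -- step 2
  have s2 : ∀ y ∈ A', ∀ x ∈ B, y * x * y⁻¹ ∈ B := by
    intro y hy x hx
    obtain ⟨w, hw, e⟩ := exists_of_fpf_nonab (TB k hk) kB x hx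
    obtain ⟨a, ha, b, hb, e1⟩ := s1 y hy w hw
    have e2 : y * w * y⁻¹ = a * b * w := by rw [← e1, commutatorElement_def]; group
    have e3 : k * y * k⁻¹ = y := kA y hy
    have e4 : k * a * k⁻¹ = a := kA a (DA.le ha)
    have e5 : y * (k * w * k⁻¹) * y⁻¹ = a * (k * b * k⁻¹) * (k * w * k⁻¹) := by
      calc y * (k * w * k⁻¹) * y⁻¹ = (k * y * k⁻¹) * (k * w * k⁻¹) * (k * y * k⁻¹)⁻¹ := by rw [e3]
        _ = k * (y * w * y⁻¹) * k⁻¹ := by group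
        _ = k * (a * b * w) * k⁻¹ := by rw [e2]
        _ = (k * a * k⁻¹) * (k * b * k⁻¹) * (k * w * k⁻¹) := by group
        _ = _ := by rw [e4]
    have e6 : y * x * y⁻¹ = w⁻¹ * b⁻¹ * (k * b * k⁻¹) * (k * w * k⁻¹) := by
      calc y * x * y⁻¹ = (y * w * y⁻¹)⁻¹ * (y * (k * w * k⁻¹) * y⁻¹) := by rw [← e]; group
        _ = (a * b * w)⁻¹ * (a * (k * b * k⁻¹) * (k * w * k⁻¹)) := by rw [e2, e5]
        _ = _ := by group
    rw [e6]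
    exact mul_mem (mul_mem (mul_mem (inv_mem hw) (inv_mem hb)) (TB k hk b hb)) (TB k hk w hw)
  -- step 3
  have s3 : ∀ S : Finset G, (∀ y ∈ S, y ∈ A') → ∃ x ∈ B, x ≠ 1 ∧ ∀ y ∈ S, y * x = x * y := by
    intro S
    induction S using Finset.induction_on with
    | empty =>
      intro _
      obtain ⟨b, hb, hb1⟩ := neB
      exact ⟨b, hb, hb1, fun y hy => absurd hy (Finset.notMem_empty y)⟩
    | insert y S hyS ih =>
      intro hS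
      obtain ⟨x, hx, hx1, hxS⟩ := ih fun z hz => hS z (Finset.mem_insert_of_mem hz)
      have hy : y ∈ A' := hS y (Finset.mem_insert_self y S)
      by_cases hyx : y * x = x * y
      · refine ⟨x, hx, hx1, fun z hz => ?_⟩
        rcases Finset.mem_insert.mp hz with h | h
        · rw [h]; exact hyx
        · exact hxS z h
      · have hb : ⁅y, x⁆ ∈ B := by
          rw [commutatorElement_def]
          exact mul_mem (s2 y hy x hx) (inv_mem hx)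
        have hbb := Bsq _ hb
        refine ⟨⁅y, x⁆, hb, fun h => hyx (commutatorElement_eq_one_iff_mul_comm.mp h), fun z hz => ?_⟩
        rcases Finset.mem_insert.mp hz with h | h
        · rw [h]
          have hyy := DA.sq y hy
          have hyi : y⁻¹ = y := inv_eq_of_mul_eq_one_left hyy
          have hbi : ⁅y, x⁆⁻¹ = ⁅y, x⁆ := inv_eq_of_mul_eq_one_left hbb
          calc y * ⁅y, x⁆ = (y * y) * x * y⁻¹ * x⁻¹ := by rw [commutatorElement_def]; group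
            _ = x * y⁻¹ * x⁻¹ := by rw [hyy]; group
            _ = x * y * x⁻¹ := by rw [hyi]
            _ = ⁅x, y⁆ * y := by rw [commutatorElement_def]; group
            _ = ⁅y, x⁆⁻¹ * y := by rw [commutatorElement_inv]
            _ = ⁅y, x⁆ * y := by rw [hbi]
        · have h1 := hxS z h
          have h2 := dbl_ab DA z (hS z (Finset.mem_insert_of_mem h)) y hy
          have : z * ⁅y, x⁆ * z⁻¹ = ⁅y, x⁆ := by
            have e : z * ⁅y, x⁆ * z⁻¹ = ⁅z * y * z⁻¹, z * x * z⁻¹⁆ := by simp only [commutatorElement_def]; group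
            rw [e, h1, h2, mul_inv_cancel_right, mul_inv_cancel_right]
          calc z * ⁅y, x⁆ = (z * ⁅y, x⁆ * z⁻¹) * z := by group
            _ = _ := by rw [this]
  obtain ⟨f, hf, hf1, hfc⟩ := s3 (Set.toFinite (A' : Set G)).toFinset (fun y hy => by simpa using hy)
  have hfc' : ∀ y ∈ A', y * f = f * y := fun y hy => hfc y (by simpa using hy)
  intro y hy x hx
  by_cases hx1 : x = 1
  · rw [hx1, mul_one, one_mul]
  obtain ⟨h, hh, e⟩ := trB f hf x hx hf1 hx1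
  have h1 := TA' h⁻¹ (inv_mem hh) y hy
  rw [inv_inv] at h1
  have h2 := hfc' _ h1
  rw [← e]
  calc y * (h * f * h⁻¹) = h * ((h⁻¹ * y * h) * f) * h⁻¹ := by group
    _ = h * (f * (h⁻¹ * y * h)) * h⁻¹ := by rw [h2]
    _ = _ := by group

theorem pairQ (DA : Dbl t A A') (DB : Dbl t B B') (hA' : A' ≤ Δ) (hB' : B' ≤ Δ)
    (hc : ∀ g ∈ Δ, g * t = t * g → ∃ a ∈ A, ∃ b ∈ B, g = a * b)
    (tA : ∀ b ∈ A, b * t = t * b) (tB : ∀ b ∈ B, b * t = t * b) (hAB : ∀ a ∈ A, ∀ b ∈ B, a * b = b * a)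
    (dis : ∀ a ∈ A, a ∈ B → a = 1)
    (TA : ∀ h ∈ T, ∀ b ∈ A, h * b * h⁻¹ ∈ A) (TB : ∀ h ∈ T, ∀ b ∈ B, h * b * h⁻¹ ∈ B)
    (TA' : ∀ h ∈ T, ∀ y ∈ A', h * y * h⁻¹ ∈ A') (TB' : ∀ h ∈ T, ∀ y ∈ B', h * y * h⁻¹ ∈ B')
    {k : G} (hk : k ∈ T) (kA : Cen k A') (kB : Fpf k B) (kB' : Fpf k B')
    {l : G} (hl : l ∈ T) (lB : Cen l B') (lA : Fpf l A) (lA' : Fpf l A')
    (trA : ∀ a ∈ A, ∀ b ∈ A, a ≠ 1 → b ≠ 1 → ∃ h ∈ T, h * a * h⁻¹ = b) (neA : ∃ b ∈ A, b ≠ 1)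
    (trB : ∀ a ∈ B, ∀ b ∈ B, a ≠ 1 → b ≠ 1 → ∃ h ∈ T, h * a * h⁻¹ = b) (neB : ∃ b ∈ B, b ≠ 1) :
    ∀ y ∈ A', ∀ v ∈ B', y * v = v * y := by
  have h1 : ∀ y ∈ A', ∀ x ∈ B, y * x = x * y :=
    half DA hA' (DB.le.trans hB') hc tB hAB (fun b hb => DB.sq b (DB.le hb)) TB TA' hk kA kB trB neB
  have hc' : ∀ g ∈ Δ, g * t = t * g → ∃ b ∈ B, ∃ a ∈ A, g = b * a := by
    intro g hg hgt
    obtain ⟨a, ha, b, hb, e⟩ := hc g hg hgt
    exact ⟨b, hb, a, ha, by rw [e, hAB a ha b hb]⟩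
  have h2 : ∀ v ∈ B', ∀ x ∈ A, v * x = x * v :=
    half DB hB' (DA.le.trans hA') hc' tA (fun a ha b hb => (hAB b hb a ha).symm) (fun b hb => DA.sq b (DA.le hb))
      TA TB' hl lB lA trA neA
  -- the commutator is fixed by `t`
  have h3 : ∀ y ∈ A', ∀ v ∈ B', ⁅y, v⁆ * t = t * ⁅y, v⁆ := by
    intro y hy v hv
    have ha := DA.br y hy
    have hb := DB.br v hv
    set a := ⁅t, y⁆ with had
    set b := ⁅t, v⁆ with hbd
    have e1 : t * y * t⁻¹ = a * y := by rw [had, commutatorElement_def]; group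
    have e2 : t * v * t⁻¹ = b * v := by rw [hbd, commutatorElement_def]; group
    have e3 : t * ⁅y, v⁆ * t⁻¹ = ⁅t * y * t⁻¹, t * v * t⁻¹⁆ := by simp only [commutatorElement_def]; group
    have c1 := h1 y hy b hb
    have c2 := h2 v hv a ha
    have c3 := hAB a ha b hb
    have c4 : a * y = y * a := dbl_ab DA a (DA.le ha) y hy
    have c5 : b * v = v * b := dbl_ab DB b (DB.le hb) v hv
    have ca : a * ⁅y, v⁆ * a⁻¹ = ⁅y, v⁆ := by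
      have e : a * ⁅y, v⁆ * a⁻¹ = ⁅a * y * a⁻¹, a * v * a⁻¹⁆ := by simp only [commutatorElement_def]; group
      rw [e, c4, ← c2, mul_inv_cancel_right, mul_inv_cancel_right]
    have cb : b * ⁅y, v⁆ * b⁻¹ = ⁅y, v⁆ := by
      have e : b * ⁅y, v⁆ * b⁻¹ = ⁅b * y * b⁻¹, b * v * b⁻¹⁆ := by simp only [commutatorElement_def]; group
      rw [e, c5, ← c1, mul_inv_cancel_right, mul_inv_cancel_right]
    have e4 : ⁅a * y, b * v⁆ = ⁅y, v⁆ := by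
      rw [comm_mul_left, comm_mul_right, comm_mul_right a]
      rw [commutatorElement_eq_one_iff_mul_comm.mpr c1, commutatorElement_eq_one_iff_mul_comm.mpr c3,
        commutatorElement_eq_one_iff_mul_comm.mpr c2.symm, cb, one_mul, ca]
      group
    rw [e1, e2, e4] at e3
    calc ⁅y, v⁆ * t = (t * ⁅y, v⁆ * t⁻¹) * t := by rw [e3]
      _ = _ := by group
  have hΔ : ∀ y ∈ A', ∀ v ∈ B', ⁅y, v⁆ ∈ Δ := by
    intro y hy v hv
    rw [commutatorElement_def]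
    exact mul_mem (mul_mem (mul_mem (hA' hy) (hB' hv)) (inv_mem (hA' hy))) (inv_mem (hB' hv))
  -- `[y, v] ∈ B'`
  have h4 : ∀ y ∈ A', ∀ v ∈ B', ⁅y, v⁆ ∈ B' := by
    intro y hy v hv
    obtain ⟨w, hw, e⟩ := exists_of_fpf_nonab (TB' k hk) kB' v hv
    obtain ⟨a, ha, b, hb, e1⟩ := hc _ (hΔ y hy w hw) (h3 y hy w hw)
    have e2 : y * w * y⁻¹ = a * b * w := by rw [← e1, commutatorElement_def]; group
    have e3 : k * y * k⁻¹ = y := kA y hy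
    have e4 : k * a * k⁻¹ = a := kA a (DA.le ha)
    have e5 : y * (k * w * k⁻¹) * y⁻¹ = a * (k * b * k⁻¹) * (k * w * k⁻¹) := by
      calc y * (k * w * k⁻¹) * y⁻¹ = (k * y * k⁻¹) * (k * w * k⁻¹) * (k * y * k⁻¹)⁻¹ := by rw [e3]
        _ = k * (y * w * y⁻¹) * k⁻¹ := by group
        _ = k * (a * b * w) * k⁻¹ := by rw [e2]
        _ = (k * a * k⁻¹) * (k * b * k⁻¹) * (k * w * k⁻¹) := by group
        _ = _ := by rw [e4]
    have e6 : y * v * y⁻¹ = w⁻¹ * b⁻¹ * (k * b * k⁻¹) * (k * w * k⁻¹) := by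
      calc y * v * y⁻¹ = (y * w * y⁻¹)⁻¹ * (y * (k * w * k⁻¹) * y⁻¹) := by rw [← e]; group
        _ = (a * b * w)⁻¹ * (a * (k * b * k⁻¹) * (k * w * k⁻¹)) := by rw [e2, e5]
        _ = _ := by group
    rw [commutatorElement_def, e6]
    have hbB := DB.le hb
    exact mul_mem (mul_mem (mul_mem (mul_mem (inv_mem hw) (inv_mem hbB)) (TB' k hk b hbB)) (TB' k hk w hw))
      (inv_mem hv)
  have h5 : ∀ y ∈ A', ∀ v ∈ B', ⁅v, y⁆ ∈ A' := by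
    intro y hy v hv
    obtain ⟨w, hw, e⟩ := exists_of_fpf_nonab (TA' l hl) lA' y hy
    have hΔ' : ⁅v, w⁆ ∈ Δ := by rw [← commutatorElement_inv]; exact inv_mem (hΔ w hw v hv)
    have ht' : ⁅v, w⁆ * t = t * ⁅v, w⁆ := by
      have := h3 w hw v hv
      rw [← commutatorElement_inv]
      set c := ⁅w, v⁆
      calc c⁻¹ * t = c⁻¹ * (t * c) * c⁻¹ := by group
        _ = c⁻¹ * (c * t) * c⁻¹ := by rw [this]
        _ = t * c⁻¹ := by group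
    obtain ⟨b, hb, a, ha, e1⟩ := hc' _ hΔ' ht'
    have e2 : v * w * v⁻¹ = b * a * w := by rw [← e1, commutatorElement_def]; group
    have e3 : l * v * l⁻¹ = v := lB v hv
    have e4 : l * b * l⁻¹ = b := lB b (DB.le hb)
    have e5 : v * (l * w * l⁻¹) * v⁻¹ = b * (l * a * l⁻¹) * (l * w * l⁻¹) := by
      calc v * (l * w * l⁻¹) * v⁻¹ = (l * v * l⁻¹) * (l * w * l⁻¹) * (l * v * l⁻¹)⁻¹ := by rw [e3]
        _ = l * (v * w * v⁻¹) * l⁻¹ := by group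
        _ = l * (b * a * w) * l⁻¹ := by rw [e2]
        _ = (l * b * l⁻¹) * (l * a * l⁻¹) * (l * w * l⁻¹) := by group
        _ = _ := by rw [e4]
    have e6 : v * y * v⁻¹ = w⁻¹ * a⁻¹ * (l * a * l⁻¹) * (l * w * l⁻¹) := by
      calc v * y * v⁻¹ = (v * w * v⁻¹)⁻¹ * (v * (l * w * l⁻¹) * v⁻¹) := by rw [← e]; group
        _ = (b * a * w)⁻¹ * (b * (l * a * l⁻¹) * (l * w * l⁻¹)) := by rw [e2, e5]
        _ = _ := by group
    rw [commutatorElement_def, e6]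
    have haA := DA.le ha
    exact mul_mem (mul_mem (mul_mem (mul_mem (inv_mem hw) (inv_mem haA)) (TA' l hl a haA)) (TA' l hl w hw))
      (inv_mem hy)
  intro y hy v hv
  have h6 : ⁅y, v⁆ ∈ A' := by rw [← commutatorElement_inv]; exact inv_mem (h5 y hy v hv)
  exact commutatorElement_eq_one_iff_mul_comm.mp
    (dis _ (DA.fix _ h6 (h3 y hy v hv)) (DB.fix _ (h4 y hy v hv) (h3 y hy v hv)))

end Clean

section Transfer

variable {G : Type*} [Group G] {N M0 : Subgroup G}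

/-- the image of a subgroup in a quotient of a group onto which `N` maps -/
def im {Γ : Type*} [Group Γ] (q : ↥N →* Γ) (A : Subgroup G) : Subgroup Γ := (A.subgroupOf N).map q

theorem mem_im {Γ : Type*} [Group Γ] {q : ↥N →* Γ} {A : Subgroup G} {x : Γ} :
    x ∈ im q A ↔ ∃ a : ↥N, (a : G) ∈ A ∧ q a = x := Iff.rfl

theorem im_dbl {Γ : Type*} [Group Γ] {q : ↥N →* Γ} (hq : ∀ g : ↥N, q g = 1 ↔ (g : G) ∈ M0) {t : G} (tN : t ∈ N)
    {A A' : Subgroup G} (hA : A' ≤ N) (D : Dbl t A A') (dA : ∀ y ∈ A', y ∈ M0 → y = 1) :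
    Dbl (q ⟨t, tN⟩) (im q A) (im q A') where
  le := by
    rintro _ ⟨a, ha, rfl⟩
    exact ⟨a, D.le ha, rfl⟩
  sq := by
    rintro _ ⟨a, ha, rfl⟩
    have h1 := D.sq _ ha
    rw [← map_mul]
    have : a * a = 1 := Subtype.ext h1
    rw [this, map_one]
  br := by
    rintro _ ⟨a, ha, rfl⟩
    refine ⟨⁅(⟨t, tN⟩ : ↥N), a⁆, D.br _ ha, ?_⟩
    exact map_commutatorElement q _ _
  onto := by
    rintro _ ⟨a, ha, rfl⟩
    obtain ⟨y, hy, e⟩ := D.onto _ ha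
    refine ⟨q ⟨y, hA hy⟩, ⟨_, hy, rfl⟩, ?_⟩
    rw [← map_commutatorElement]
    congr 1
    exact Subtype.ext e
  fix := by
    rintro _ ⟨a, ha, rfl⟩ h
    have h1 : ⁅q ⟨t, tN⟩, q a⁆ = 1 := commutatorElement_eq_one_iff_mul_comm.mpr h.symm
    rw [← map_commutatorElement, hq] at h1
    have h2 : ⁅t, (a : G)⁆ ∈ M0 := h1
    have h3 := dA _ (D.le (D.br _ ha)) h2
    exact ⟨a, D.fix _ ha (comm_one_iff.mp h3), rfl⟩

/-- the pair lemma modulo a normal subgroup -/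
theorem pair [Finite G] {t : G} {T Δ A B A' B' : Subgroup G} (hNM : ∀ g ∈ N, ∀ m ∈ M0, g * m * g⁻¹ ∈ M0)
    (tN : t ∈ N) (TN : T ≤ N) (ΔN : Δ ≤ N) (DA : Dbl t A A') (DB : Dbl t B B') (hA' : A' ≤ Δ) (hB' : B' ≤ Δ)
    (hc : ∀ g ∈ Δ, ⁅t, g⁆ ∈ M0 → ∃ a ∈ A, ∃ b ∈ B, ∃ m ∈ M0, g = a * b * m)
    (tA : ∀ b ∈ A, b * t = t * b) (tB : ∀ b ∈ B, b * t = t * b) (hAB : ∀ a ∈ A, ∀ b ∈ B, ⁅a, b⁆ ∈ M0)
    (dA : ∀ y ∈ A', y ∈ M0 → y = 1) (dB : ∀ y ∈ B', y ∈ M0 → y = 1)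
    (dis : ∀ a ∈ A, ∀ b ∈ B, a⁻¹ * b ∈ M0 → a = 1)
    (TA : ∀ h ∈ T, ∀ b ∈ A, h * b * h⁻¹ ∈ A) (TB : ∀ h ∈ T, ∀ b ∈ B, h * b * h⁻¹ ∈ B)
    (TA' : ∀ h ∈ T, ∀ y ∈ A', h * y * h⁻¹ ∈ A') (TB' : ∀ h ∈ T, ∀ y ∈ B', h * y * h⁻¹ ∈ B')
    {k : G} (hk : k ∈ T) (kA : Cen k A') (kB : Fpf k B) (kB' : Fpf k B')
    {l : G} (hl : l ∈ T) (lB : Cen l B') (lA : Fpf l A) (lA' : Fpf l A')
    (trA : ∀ a ∈ A, ∀ b ∈ A, a ≠ 1 → b ≠ 1 → ∃ h ∈ T, h * a * h⁻¹ = b) (neA : ∃ b ∈ A, b ≠ 1)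
    (trB : ∀ a ∈ B, ∀ b ∈ B, a ≠ 1 → b ≠ 1 → ∃ h ∈ T, h * a * h⁻¹ = b) (neB : ∃ b ∈ B, b ≠ 1) :
    ∀ y ∈ A', ∀ v ∈ B', ⁅y, v⁆ ∈ M0 := by
  haveI hnorm : (M0.subgroupOf N).Normal := ⟨fun m hm g => hNM _ g.2 _ hm⟩
  let q : ↥N →* ↥N ⧸ M0.subgroupOf N := QuotientGroup.mk' _
  have hq : ∀ g : ↥N, q g = 1 ↔ (g : G) ∈ M0 := fun g => by
    show ((g : ↥N ⧸ M0.subgroupOf N) = 1) ↔ _
    rw [QuotientGroup.eq_one_iff]; exact Iff.rfl
  have hq2 : ∀ g h : ↥N, q g = q h ↔ (g : G)⁻¹ * h ∈ M0 := fun g h => by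
    rw [← inv_mul_eq_one, ← map_inv, ← map_mul, hq]; exact Iff.rfl
  have hAN : A' ≤ N := hA'.trans ΔN
  have hBN : B' ≤ N := hB'.trans ΔN
  have neM : ∀ {C C' : Subgroup G}, C ≤ C' → (∀ y ∈ C', y ∈ M0 → y = 1) → ∀ a : ↥N, (a : G) ∈ C → q a ≠ 1 →
      (a : G) ≠ 1 := by
    intro C C' _ _ a _ h1 h2
    apply h1
    rw [hq, h2]; exact M0.one_mem
  -- invariance, fixed points, transitivity in the quotient
  have hT : ∀ {C : Subgroup G}, (∀ h ∈ T, ∀ b ∈ C, h * b * h⁻¹ ∈ C) →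
      ∀ h ∈ im q T, ∀ b ∈ im q C, h * b * h⁻¹ ∈ im q C := by
    rintro C hC _ ⟨h, hh, rfl⟩ _ ⟨b, hb, rfl⟩
    have h1 : ((h * b * h⁻¹ : ↥N) : G) ∈ C := hC _ hh _ hb
    exact ⟨(h * b * h⁻¹ : ↥N), h1, by simp⟩
  have hF : ∀ {C : Subgroup G} {h : G} (hh : h ∈ T), (∀ b ∈ C, h * b * h⁻¹ ∈ C) → (∀ y ∈ C, y ∈ M0 → y = 1) →
      Fpf h C → Fpf (q ⟨h, TN hh⟩) (im q C) := by
    rintro C h hh hC hd hf _ ⟨b, hb, rfl⟩ e
    rw [← map_inv, ← map_mul, ← map_mul, hq2] at e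
    have e' : (h * b * h⁻¹)⁻¹ * b ∈ M0 := e
    have h1 := hd _ (mul_mem (inv_mem (hC _ hb)) hb) e'
    have h2 : h * b * h⁻¹ = b := by rw [inv_mul_eq_one] at h1; exact h1
    have h3 : (b : G) = 1 := hf _ hb h2
    rw [hq, h3]; exact M0.one_mem
  have hC : ∀ {C : Subgroup G} {h : G} (hh : h ∈ T), Cen h C → Cen (q ⟨h, TN hh⟩) (im q C) := by
    rintro C h hh hc _ ⟨b, hb, rfl⟩
    rw [← map_inv, ← map_mul, ← map_mul]
    congr 1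
    exact Subtype.ext (hc _ hb)
  have hTr : ∀ {C : Subgroup G}, C ≤ N → (∀ a ∈ C, ∀ b ∈ C, a ≠ 1 → b ≠ 1 → ∃ h ∈ T, h * a * h⁻¹ = b) →
      ∀ a ∈ im q C, ∀ b ∈ im q C, a ≠ 1 → b ≠ 1 → ∃ h ∈ im q T, h * a * h⁻¹ = b := by
    rintro C _ htr _ ⟨a, ha, rfl⟩ _ ⟨b, hb, rfl⟩ h1 h2
    obtain ⟨h, hh, e⟩ := htr _ ha _ hb (fun e => h1 (by
        have e' : (a : G) = 1 := e
        rw [hq, e']; exact M0.one_mem))
      (fun e => h2 (by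
        have e' : (b : G) = 1 := e
        rw [hq, e']; exact M0.one_mem))
    refine ⟨q ⟨h, TN hh⟩, ⟨_, hh, rfl⟩, ?_⟩
    rw [← map_inv, ← map_mul, ← map_mul]
    congr 1
    exact Subtype.ext e
  have hNe : ∀ {C : Subgroup G}, C ≤ N → (∀ y ∈ C, y ∈ M0 → y = 1) → (∃ b ∈ C, b ≠ 1) → ∃ b ∈ im q C, b ≠ 1 := by
    rintro C hCN hd ⟨b, hb, hb1⟩
    refine ⟨q ⟨b, hCN hb⟩, ⟨_, hb, rfl⟩, fun h => hb1 ?_⟩
    rw [hq] at h
    exact hd b hb h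
  have dA0 : ∀ y ∈ A, y ∈ M0 → y = 1 := fun y hy => dA y (DA.le hy)
  have dB0 : ∀ y ∈ B, y ∈ M0 → y = 1 := fun y hy => dB y (DB.le hy)
  have main := pairQ (t := q ⟨t, tN⟩) (T := im q T) (Δ := im q Δ) (im_dbl hq tN hAN DA dA) (im_dbl hq tN hBN DB dB)
    (by rintro _ ⟨a, ha, rfl⟩; exact ⟨a, hA' ha, rfl⟩) (by rintro _ ⟨a, ha, rfl⟩; exact ⟨a, hB' ha, rfl⟩)
    (by
      rintro _ ⟨g, hg, rfl⟩ h
      have h1 : ⁅q ⟨t, tN⟩, q g⁆ = 1 := commutatorElement_eq_one_iff_mul_comm.mpr h.symm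
      rw [← map_commutatorElement, hq] at h1
      obtain ⟨a, ha, b, hb, m, hm, e⟩ := hc _ hg h1
      have e : (g : G) = a * b * m := e
      refine ⟨q ⟨a, hAN (DA.le ha)⟩, ⟨_, ha, rfl⟩, q ⟨b, hBN (DB.le hb)⟩, ⟨_, hb, rfl⟩, ?_⟩
      rw [← map_mul, hq2]
      show (g : G)⁻¹ * (a * b) ∈ M0
      rw [e]
      have : (a * b * m)⁻¹ * (a * b) = m⁻¹ := by group
      rw [this]; exact inv_mem hm)
    (by
      rintro _ ⟨a, ha, rfl⟩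
      rw [← map_mul, ← map_mul]; congr 1; exact Subtype.ext (tA _ ha))
    (by
      rintro _ ⟨a, ha, rfl⟩
      rw [← map_mul, ← map_mul]; congr 1; exact Subtype.ext (tB _ ha))
    (by
      rintro _ ⟨a, ha, rfl⟩ _ ⟨b, hb, rfl⟩
      apply commutatorElement_eq_one_iff_mul_comm.mp
      rw [← map_commutatorElement, hq]; exact hAB _ ha _ hb)
    (by
      rintro _ ⟨a, ha, rfl⟩ ⟨b, hb, e⟩
      have h1 : (a : G)⁻¹ * b ∈ M0 := by rw [← hq2]; exact e.symm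
      have h2 : (a : G) = 1 := dis _ ha _ hb h1
      rw [hq, h2]; exact M0.one_mem)
    (hT TA) (hT TB) (hT TA') (hT TB')
    (k := q ⟨k, TN hk⟩) ⟨_, hk, rfl⟩ (hC hk kA) (hF hk (TB k hk) dB0 kB) (hF hk (TB' k hk) dB kB')
    (l := q ⟨l, TN hl⟩) ⟨_, hl, rfl⟩ (hC hl lB) (hF hl (TA l hl) dA0 lA) (hF hl (TA' l hl) dA lA')
    (hTr (DA.le.trans hAN) trA) (hNe (DA.le.trans hAN) dA0 neA)
    (hTr (DB.le.trans hBN) trB) (hNe (DB.le.trans hBN) dB0 neB)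
  intro y hy v hv
  have h1 := main (q ⟨y, hAN hy⟩) ⟨_, hy, rfl⟩ (q ⟨v, hBN hv⟩) ⟨_, hv, rfl⟩
  have h2 : ⁅q ⟨y, hAN hy⟩, q ⟨v, hBN hv⟩⁆ = 1 := commutatorElement_eq_one_iff_mul_comm.mpr h1
  rw [← map_commutatorElement, hq] at h2
  exact h2

end Transfer

end Cfsg.Agent.HexGrow.Pair
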