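import Cfsg.Agent.HexGrow.LongTwo

/-!
# Growth for `G2(q)`, `3D4(q)`, phase (C): the doubled radical `N1`, `N1 / V 4` is elementary abelian.
-/

set_option autoImplicit false

namespace Cfsg.Agent.HexGrow.QOne

open Cfsg.Agent.HexGrow.Defs Cfsg.Agent.HexGrow.Basic Cfsg.Agent.HexGrow.Tools Cfsg.Agent.HexGrow.LongTwo
open scoped commutatorElement

variable {G : Type*} [Group G] {t : G} {T : Subgroup G} {X : ZMod 12 → Subgroup G} {n : ZMod 12 → G}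
  {V : ZMod 12 → Subgroup G}

theorem comm_mul_right (g a b : G) : ⁅g, a * b⁆ = ⁅g, a⁆ * (a * ⁅g, b⁆ * a⁻¹) := by
  simp only [commutatorElement_def]; group

theorem comm_mul_left (g h a : G) : ⁅g * h, a⁆ = (g * ⁅h, a⁆ * g⁻¹) * ⁅g, a⁆ := by
  simp only [commutatorElement_def]; group

/-- `[g, ·] ∈ Z` passes to joins when `Z` is centralised -/
theorem comm_mem_sup {Z A B : Subgroup G} {g : G} (zA : ∀ z ∈ Z, ∀ a ∈ A, z * a = a * z)
    (zB : ∀ z ∈ Z, ∀ a ∈ B, z * a = a * z) (hA : ∀ a ∈ A, ⁅g, a⁆ ∈ Z) (hB : ∀ a ∈ B, ⁅g, a⁆ ∈ Z) :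
    ∀ a ∈ A ⊔ B, ⁅g, a⁆ ∈ Z := by
  let S : Subgroup G :=
    { carrier := {a | (∀ z ∈ Z, z * a = a * z) ∧ ⁅g, a⁆ ∈ Z}
      one_mem' := ⟨fun z _ => by simp, by rw [commutatorElement_one_right]; exact Z.one_mem⟩
      mul_mem' := by
        rintro a b ⟨ha, ha'⟩ ⟨hb, hb'⟩
        refine ⟨fun z hz => ?_, ?_⟩
        · rw [← mul_assoc, ha z hz, mul_assoc, hb z hz, mul_assoc]
        · rw [comm_mul_right, ← ha _ hb', mul_inv_cancel_right]
          exact Z.mul_mem ha' hb'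
      inv_mem' := by
        rintro a ⟨ha, ha'⟩
        refine ⟨fun z hz => ?_, ?_⟩
        · calc z * a⁻¹ = a⁻¹ * (a * z) * a⁻¹ := by group
            _ = a⁻¹ * (z * a) * a⁻¹ := by rw [ha z hz]
            _ = a⁻¹ * z := by group
        · have : ⁅g, a⁻¹⁆ = a⁻¹ * (⁅g, a⁆⁻¹ * a) := by simp only [commutatorElement_def]; group
          rw [this, ha _ (Z.inv_mem ha'), inv_mul_cancel_left]
          exact Z.inv_mem ha' }
  have : A ⊔ B ≤ S := sup_le (fun a ha => ⟨fun z hz => zA z hz a ha, hA a ha⟩)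
    (fun a ha => ⟨fun z hz => zB z hz a ha, hB a ha⟩)
  exact fun a ha => (this ha).2

theorem comm_mem_QQ {X : ZMod 12 → Subgroup G} {r : ZMod 12} {Z : Subgroup G} {g : G}
    (z1 : ∀ z ∈ Z, ∀ a ∈ QQ X r, z * a = a * z)
    (h1 : ∀ a ∈ X (r - 2), ⁅g, a⁆ ∈ Z) (h2 : ∀ a ∈ X (r - 1), ⁅g, a⁆ ∈ Z) (h3 : ∀ a ∈ X r, ⁅g, a⁆ ∈ Z)
    (h4 : ∀ a ∈ X (r + 1), ⁅g, a⁆ ∈ Z) (h5 : ∀ a ∈ X (r + 2), ⁅g, a⁆ ∈ Z) : ∀ a ∈ QQ X r, ⁅g, a⁆ ∈ Z := by
  have e1 : X (r - 2) ⊔ X (r - 1) ⊔ X r ⊔ X (r + 1) ≤ QQ X r := le_sup_left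
  have e2 : X (r - 2) ⊔ X (r - 1) ⊔ X r ≤ QQ X r := le_sup_left.trans e1
  have e3 : X (r - 2) ⊔ X (r - 1) ≤ QQ X r := le_sup_left.trans e2
  obtain ⟨l1, l2, l3, l4, l5⟩ := le_QQ X r
  refine comm_mem_sup (fun z hz a ha => z1 z hz a (e1 ha)) (fun z hz a ha => z1 z hz a (l5 ha)) ?_ h5
  refine comm_mem_sup (fun z hz a ha => z1 z hz a (e2 ha)) (fun z hz a ha => z1 z hz a (l4 ha)) ?_ h4
  refine comm_mem_sup (fun z hz a ha => z1 z hz a (e3 ha)) (fun z hz a ha => z1 z hz a (l3 ha)) ?_ h3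
  exact comm_mem_sup (fun z hz a ha => z1 z hz a (l1 ha)) (fun z hz a ha => z1 z hz a (l2 ha)) h1 h2

theorem X_ab (E : Env t T X n) (r : ZMod 12) : ∀ a ∈ X r, ∀ b ∈ X r, a * b = b * a := by
  intro a ha b hb
  have h1 := E.sq r _ ((X r).mul_mem ha hb)
  have h2 := E.sq r a ha
  have h3 := E.sq r b hb
  symm
  calc b * a = (a * a) * (b * a) * (b * b) := by rw [h2, h3]; group
    _ = a * (a * b * (a * b)) * b := by group
    _ = a * b := by rw [h1]; group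

/-- the doubled radical with centre `V r` -/
def N1 (t : G) (X V : ZMod 12 → Subgroup G) (r : ZMod 12) : Subgroup G where
  carrier := {g | (∀ z ∈ V r, g * z = z * g) ∧ (∀ q ∈ QQ X r, ⁅g, q⁆ ∈ V r) ∧ ⁅t, g⁆ ∈ QQ X r ⊔ V r}
  one_mem' := ⟨fun z _ => by simp, fun q _ => by rw [commutatorElement_one_left]; exact one_mem _,
    by rw [commutatorElement_one_right]; exact one_mem _⟩
  mul_mem' := by
    rintro g h ⟨g1, g2, g3⟩ ⟨h1, h2, h3⟩
    refine ⟨fun z hz => ?_, fun q hq => ?_, ?_⟩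
    · rw [mul_assoc, h1 z hz, ← mul_assoc, g1 z hz, mul_assoc]
    · rw [comm_mul_left, g1 _ (h2 q hq), mul_inv_cancel_right]
      exact mul_mem (h2 q hq) (g2 q hq)
    · rw [comm_mul_right]
      refine mul_mem g3 ?_
      refine conj_sup (fun a ha => ?_) (fun a ha => ?_) _ h3
      · exact conj_mem_of_comm (le_sup_right (a := QQ X r) (g2 a ha)) (le_sup_left (b := V r) ha)
      · exact conj_mem_of_commute (g1 a ha) (le_sup_right (a := QQ X r) ha)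
  inv_mem' := by
    rintro g ⟨g1, g2, g3⟩
    have i1 : ∀ z ∈ V r, g⁻¹ * z = z * g⁻¹ := fun z hz => by
      calc g⁻¹ * z = g⁻¹ * (z * g) * g⁻¹ := by group
        _ = g⁻¹ * (g * z) * g⁻¹ := by rw [g1 z hz]
        _ = z * g⁻¹ := by group
    have i2 : ∀ q ∈ QQ X r, ⁅g⁻¹, q⁆ ∈ V r := fun q hq => by
      have : ⁅g⁻¹, q⁆ = g⁻¹ * ⁅g, q⁆⁻¹ * g⁻¹⁻¹ := by simp only [commutatorElement_def]; group
      rw [this, i1 _ (inv_mem (g2 q hq)), mul_inv_cancel_right]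
      exact inv_mem (g2 q hq)
    refine ⟨i1, i2, ?_⟩
    have : ⁅t, g⁻¹⁆ = g⁻¹ * ⁅t, g⁆⁻¹ * g⁻¹⁻¹ := by simp only [commutatorElement_def]; group
    rw [this]
    refine conj_sup (fun a ha => ?_) (fun a ha => ?_) _ (inv_mem g3)
    · exact conj_mem_of_comm (le_sup_right (a := QQ X r) (i2 a ha)) (le_sup_left (b := V r) ha)
    · exact conj_mem_of_commute (i1 a ha) (le_sup_right (a := QQ X r) ha)

theorem mem_N1 {r : ZMod 12} {g : G} : g ∈ N1 t X V r ↔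
    (∀ z ∈ V r, g * z = z * g) ∧ (∀ q ∈ QQ X r, ⁅g, q⁆ ∈ V r) ∧ ⁅t, g⁆ ∈ QQ X r ⊔ V r := Iff.rfl

theorem N1_sh (t : G) (X V : ZMod 12 → Subgroup G) (c r : ZMod 12) : N1 t (sh c X) (sh c V) r = N1 t X V (r + c) := by
  ext g
  rw [mem_N1, mem_N1, QQ_sh]
  rfl

/-- invariance of `N1` -/
theorem N1_conj {r r' : ZMod 12} {w : G} (hwt : w * t = t * w) (h1 : ∀ z ∈ V r, w * z * w⁻¹ ∈ V r')
    (h2 : ∀ z ∈ V r', w⁻¹ * z * w ∈ V r) (h3 : ∀ z ∈ QQ X r, w * z * w⁻¹ ∈ QQ X r')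
    (h4 : ∀ z ∈ QQ X r', w⁻¹ * z * w ∈ QQ X r) : ∀ g ∈ N1 t X V r, w * g * w⁻¹ ∈ N1 t X V r' := by
  rintro g ⟨g1, g2, g3⟩
  refine ⟨fun z hz => ?_, fun q hq => ?_, ?_⟩
  · have := g1 _ (h2 z hz)
    calc w * g * w⁻¹ * z = w * (g * (w⁻¹ * z * w)) * w⁻¹ := by group
      _ = w * ((w⁻¹ * z * w) * g) * w⁻¹ := by rw [this]
      _ = z * (w * g * w⁻¹) := by group
  · have : ⁅w * g * w⁻¹, q⁆ = w * ⁅g, w⁻¹ * q * w⁆ * w⁻¹ := by simp only [commutatorElement_def]; group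
    rw [this]; exact h1 _ (g2 _ (h4 q hq))
  · have h5 : w⁻¹ * t = t * w⁻¹ := by
      calc w⁻¹ * t = w⁻¹ * (t * w) * w⁻¹ := by group
        _ = w⁻¹ * (w * t) * w⁻¹ := by rw [hwt]
        _ = t * w⁻¹ := by group
    have h6 : w⁻¹ * t⁻¹ = t⁻¹ * w⁻¹ := by
      calc w⁻¹ * t⁻¹ = (t * w)⁻¹ := by group
        _ = (w * t)⁻¹ := by rw [hwt]
        _ = t⁻¹ * w⁻¹ := by group
    have : ⁅t, w * g * w⁻¹⁆ = w * ⁅t, g⁆ * w⁻¹ := by
      simp only [commutatorElement_def]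
      calc t * (w * g * w⁻¹) * t⁻¹ * (w * g * w⁻¹)⁻¹ = (t * w) * g * (w⁻¹ * t⁻¹) * (w * g⁻¹ * w⁻¹) := by group
        _ = (w * t) * g * (t⁻¹ * w⁻¹) * (w * g⁻¹ * w⁻¹) := by rw [hwt, h6]
        _ = w * (t * g * t⁻¹ * g⁻¹) * w⁻¹ := by group
    rw [this]
    exact conj_sup (fun a ha => le_sup_left (b := V r') (h3 a ha)) (fun a ha => le_sup_right (a := QQ X r') (h1 a ha)) _ g3

section Base

theorem X4_QQ (E : Env t T X n) : ∀ z ∈ X 4, ∀ a ∈ QQ X 4, z * a = a * z := fun z hz =>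
  comm_QQ (r := 4) (fun a ha => (E.l2 2 (by decide) a ha z hz).symm) (fun a ha => (E.c1 3 a ha z hz).symm)
    (fun a ha => X_ab E 4 z hz a ha) (fun a ha => E.c1 4 z hz a ha) (fun a ha => E.l2 4 (by decide) z hz a ha)

theorem V4_QQ (L : Long2 t T X n V) : ∀ z ∈ V 4, ∀ a ∈ QQ X 4, z * a = a * z := fun z hz =>
  comm_QQ (r := 4) (L.near 4 2 (by decide) (by decide) z hz) (L.near 4 3 (by decide) (by decide) z hz)
    (L.near 4 4 (by decide) (by decide) z hz) (L.near 4 5 (by decide) (by decide) z hz)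
    (L.near 4 6 (by decide) (by decide) z hz)

/-- commutators of `Q1` lie in `X 4` -/
theorem QQ_comm (E : Env t T X n) : ∀ a ∈ QQ X 4, ∀ b ∈ QQ X 4, ⁅a, b⁆ ∈ X 4 := by
  have z1 := X4_QQ E
  have one : ∀ {a b : G}, a * b = b * a → ⁅a, b⁆ ∈ X 4 := fun h => by
    rw [commutatorElement_eq_one_iff_mul_comm.mpr h]; exact one_mem _
  have inv : ∀ {a b : G}, ⁅a, b⁆ ∈ X 4 → ⁅b, a⁆ ∈ X 4 := fun h => by
    rw [← commutatorElement_inv]; exact inv_mem h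
  have k2 : ∀ a ∈ X 2, ∀ b ∈ QQ X 4, ⁅a, b⁆ ∈ X 4 := fun a ha => comm_mem_QQ (r := 4) z1
    (fun b hb => one (X_ab E 2 a ha b hb)) (fun b hb => one (E.c1 2 a ha b hb))
    (fun b hb => one (E.l2 2 (by decide) a ha b hb)) (fun b hb => one (E.c3 2 a ha b hb))
    (fun b hb => E.l4 2 (by decide) a ha b hb)
  have k3 : ∀ a ∈ X 3, ∀ b ∈ QQ X 4, ⁅a, b⁆ ∈ X 4 := fun a ha => comm_mem_QQ (r := 4) z1
    (fun b hb => one (E.c1 2 b hb a ha).symm) (fun b hb => one (X_ab E 3 a ha b hb))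
    (fun b hb => one (E.c1 3 a ha b hb)) (fun b hb => E.s2 3 (by decide) a ha b hb)
    (fun b hb => one (E.c3 3 a ha b hb))
  have k4 : ∀ a ∈ X 4, ∀ b ∈ QQ X 4, ⁅a, b⁆ ∈ X 4 := fun a ha b hb => one (z1 a ha b hb)
  have k5 : ∀ a ∈ X 5, ∀ b ∈ QQ X 4, ⁅a, b⁆ ∈ X 4 := fun a ha => comm_mem_QQ (r := 4) z1
    (fun b hb => one (E.c3 2 b hb a ha).symm) (fun b hb => inv (E.s2 3 (by decide) b hb a ha))
    (fun b hb => one (E.c1 4 b hb a ha).symm) (fun b hb => one (X_ab E 5 a ha b hb))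
    (fun b hb => one (E.c1 5 a ha b hb))
  have k6 : ∀ a ∈ X 6, ∀ b ∈ QQ X 4, ⁅a, b⁆ ∈ X 4 := fun a ha => comm_mem_QQ (r := 4) z1
    (fun b hb => inv (E.l4 2 (by decide) b hb a ha)) (fun b hb => one (E.c3 3 b hb a ha).symm)
    (fun b hb => one (E.l2 4 (by decide) b hb a ha).symm) (fun b hb => one (E.c1 5 b hb a ha).symm)
    (fun b hb => one (X_ab E 6 a ha b hb))
  intro a ha
  exact comm_mem_QQ (r := 4) z1 (fun b hb => inv (k2 b hb a ha)) (fun b hb => inv (k3 b hb a ha))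
    (fun b hb => inv (k4 b hb a ha)) (fun b hb => inv (k5 b hb a ha)) (fun b hb => inv (k6 b hb a ha))

theorem QQ_sq (E : Env t T X n) : ∀ a ∈ QQ X 4, a * a ∈ X 4 := by
  have hc := QQ_comm E
  let S : Subgroup G :=
    { carrier := {a | a ∈ QQ X 4 ∧ a * a ∈ X 4}
      one_mem' := ⟨one_mem _, by simp⟩
      mul_mem' := by
        rintro a b ⟨ha, ha'⟩ ⟨hb, hb'⟩
        refine ⟨mul_mem ha hb, ?_⟩
        have : a * b * (a * b) = (a * a) * ⁅a⁻¹, b⁆ * (b * b) := by rw [commutatorElement_def]; group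
        rw [this]
        exact mul_mem (mul_mem ha' (hc _ (inv_mem ha) _ hb)) hb'
      inv_mem' := by
        rintro a ⟨ha, ha'⟩
        refine ⟨inv_mem ha, ?_⟩
        rw [← mul_inv_rev]; exact inv_mem ha' }
  obtain ⟨l1, l2, l3, l4, l5⟩ := le_QQ X 4
  have : QQ X 4 ≤ S := by
    refine sup_le (sup_le (sup_le (sup_le ?_ ?_) ?_) ?_) ?_
    · exact fun a ha => ⟨l1 ha, by rw [E.sq _ a ha]; exact one_mem _⟩
    · exact fun a ha => ⟨l2 ha, by rw [E.sq _ a ha]; exact one_mem _⟩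
    · exact fun a ha => ⟨l3 ha, by rw [E.sq _ a ha]; exact one_mem _⟩
    · exact fun a ha => ⟨l4 ha, by rw [E.sq _ a ha]; exact one_mem _⟩
    · exact fun a ha => ⟨l5 ha, by rw [E.sq _ a ha]; exact one_mem _⟩
  exact fun a ha => (this ha).2

/-- the kernel of `g ↦ [t, g]` mod `V 4` on `N1` -/
theorem N1_ker (E : Env t T X n) (L : Long2 t T X n V) {g : G} (hg : g ∈ N1 t X V 4) (h : ⁅t, g⁆ ∈ V 4) :
    g ∈ QQ X 4 ⊔ V 4 := by
  obtain ⟨g1, g2, g3⟩ := hg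
  -- `g t g⁻¹ = t z`
  set z := ⁅t, g⁆ with hz
  have e1 : g * t * g⁻¹ = t * z := by
    rw [hz, commutatorElement_def, tinv E]
    calc g * t * g⁻¹ = (t * t) * g * t * g⁻¹ := by rw [E.tt, one_mul]
      _ = _ := by group
  have e2 : (t * z) * (t * z) = 1 := by
    rw [← e1]
    calc g * t * g⁻¹ * (g * t * g⁻¹) = g * (t * t) * g⁻¹ := by group
      _ = 1 := by rw [E.tt]; group
  have hzz := L.sq 4 (by decide) z h
  have e3 : z * t = t * z := by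
    calc z * t = (t * t) * (z * t) * (z * z) := by rw [E.tt, hzz]; group
      _ = t * ((t * z) * (t * z)) * z := by group
      _ = t * z := by rw [e2]; group
  have hz4 := L.fix 4 (by decide) z h e3
  obtain ⟨y, hy, hyz⟩ := L.onto 4 (by decide) z hz4
  have e4 : y * t * y⁻¹ = t * z := by
    rw [← hyz, commutatorElement_def, tinv E]
    calc y * t * y⁻¹ = (t * t) * y * t * y⁻¹ := by rw [E.tt, one_mul]
      _ = _ := by group
  have hc : (y⁻¹ * g) * t = t * (y⁻¹ * g) := by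
    calc (y⁻¹ * g) * t = y⁻¹ * (g * t * g⁻¹) * g := by group
      _ = y⁻¹ * (y * t * y⁻¹) * g := by rw [e1, e4]
      _ = t * (y⁻¹ * g) := by group
  have hV : ∀ a ∈ V 4, (y⁻¹ * g) * a = a * (y⁻¹ * g) := by
    intro a ha
    have h1 := L.ab 4 (by decide) _ ((V 4).inv_mem hy) a ha
    calc (y⁻¹ * g) * a = y⁻¹ * (g * a) := by group
      _ = y⁻¹ * (a * g) := by rw [g1 a ha]
      _ = (y⁻¹ * a) * g := by group
      _ = (a * y⁻¹) * g := by rw [h1]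
      _ = _ := by group
  have h4 : ∀ a ∈ QQ X 4, ⁅y⁻¹ * g, a⁆ ∈ X 4 := by
    intro a ha
    have h5 : ⁅y⁻¹ * g, a⁆ ∈ V 4 := by
      rw [comm_mul_left]
      have h6 := V4_QQ L _ ((V 4).inv_mem hy) a ha
      have h7 : ⁅y⁻¹, a⁆ = 1 := commutatorElement_eq_one_iff_mul_comm.mpr h6
      rw [h7, mul_one]
      exact mul_mem (mul_mem (inv_mem hy) (g2 a ha)) (inv_mem (inv_mem hy))
    apply L.fix 4 (by decide) _ h5
    have h8 := t_sup E a (QQ_le X 4 ha)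
    -- `y⁻¹ g` and `a` commute with `t`
    set c := y⁻¹ * g with hcd
    have h9 : c⁻¹ * t = t * c⁻¹ := by
      calc c⁻¹ * t = c⁻¹ * (t * c) * c⁻¹ := by group
        _ = c⁻¹ * (c * t) * c⁻¹ := by rw [hc]
        _ = t * c⁻¹ := by group
    have h10 : a⁻¹ * t = t * a⁻¹ := by
      calc a⁻¹ * t = a⁻¹ * (t * a) * a⁻¹ := by group
        _ = a⁻¹ * (a * t) * a⁻¹ := by rw [h8]
        _ = t * a⁻¹ := by group
    rw [commutatorElement_def]
    calc c * a * c⁻¹ * a⁻¹ * t = c * a * c⁻¹ * (a⁻¹ * t) := by group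
      _ = c * a * c⁻¹ * (t * a⁻¹) := by rw [h10]
      _ = c * a * (c⁻¹ * t) * a⁻¹ := by group
      _ = c * a * (t * c⁻¹) * a⁻¹ := by rw [h9]
      _ = c * (a * t) * c⁻¹ * a⁻¹ := by group
      _ = c * (t * a) * c⁻¹ * a⁻¹ := by rw [h8]
      _ = (c * t) * a * c⁻¹ * a⁻¹ := by group
      _ = (t * c) * a * c⁻¹ * a⁻¹ := by rw [hc]
      _ = _ := by group
  rcases E.cQ1 4 (by decide) _ hc (fun a ha => hV a (L.le 4 (by decide) ha)) h4 with h5 | h5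
  · have : g = (y⁻¹ * g) * y := by
      have h6 := hV y hy
      rw [h6]; group
    rw [this]
    exact mul_mem (le_sup_left (b := V 4) h5) (le_sup_right (a := QQ X 4) hy)
  · -- then `t` centralises `V 4`
    exfalso
    obtain ⟨a, ha, ha1⟩ := E.ne 4
    obtain ⟨v, hv, hva⟩ := L.onto 4 (by decide) a ha
    apply ha1
    rw [← hva]
    have h6 := V4_QQ L v hv _ h5
    have h7 := hV v hv
    apply commutatorElement_eq_one_iff_mul_comm.mpr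
    set c := y⁻¹ * g with hcd
    calc t * v = t * (v * c) * c⁻¹ := by group
      _ = t * (c * v) * c⁻¹ := by rw [h7]
      _ = (t * c) * v * c⁻¹ := by group
      _ = (v * (t * c)) * c⁻¹ := by rw [h6]
      _ = v * t := by group

/-- squares of elements of `N1` lie in `V 4` -/
theorem N1_sq (E : Env t T X n) (L : Long2 t T X n V) {g : G} (hg : g ∈ N1 t X V 4) : g * g ∈ V 4 := by
  have hgg : g * g ∈ N1 t X V 4 := mul_mem hg hg
  obtain ⟨g1, g2, g3⟩ := hg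
  -- `g g` centralises `Q1`
  have h1 : ∀ q ∈ QQ X 4, (g * g) * q = q * (g * g) := by
    intro q hq
    have h2 := g2 q hq
    have h3 := L.sq 4 (by decide) _ h2
    have h4 := g1 _ h2
    have h5 : g * q = ⁅g, q⁆ * q * g := by rw [commutatorElement_def]; group
    calc (g * g) * q = g * (g * q) := by group
      _ = g * (⁅g, q⁆ * q * g) := by rw [← h5]
      _ = (g * ⁅g, q⁆) * (q * g) := by group
      _ = (⁅g, q⁆ * g) * (q * g) := by rw [h4]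
      _ = ⁅g, q⁆ * (g * q) * g := by group
      _ = ⁅g, q⁆ * (⁅g, q⁆ * q * g) * g := by rw [← h5]
      _ = (⁅g, q⁆ * ⁅g, q⁆) * (q * (g * g)) := by group
      _ = q * (g * g) := by rw [h3, one_mul]
  -- `[t, g g] ∈ V 4`
  have h2 : ⁅t, g * g⁆ ∈ V 4 := by
    obtain ⟨z, hz, q, hq, e⟩ := mem_sup_of_comm (A := V 4) (B := QQ X 4) (fun a ha b hb => V4_QQ L a ha b hb)
      (g := ⁅t, g⁆) (by rw [sup_comm]; exact g3)
    rw [comm_mul_right, ← e]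
    have h3 : g * (z * q) * g⁻¹ = z * ⁅g, q⁆ * q := by
      calc g * (z * q) * g⁻¹ = (g * z) * q * g⁻¹ := by group
        _ = (z * g) * q * g⁻¹ := by rw [g1 z hz]
        _ = z * ⁅g, q⁆ * q := by rw [commutatorElement_def]; group
    rw [h3]
    have h4 := V4_QQ L _ (mul_mem hz (g2 q hq)) q hq
    have h5 : z * q * (z * ⁅g, q⁆ * q) = z * (z * ⁅g, q⁆) * (q * q) := by
      calc z * q * (z * ⁅g, q⁆ * q) = z * (q * (z * ⁅g, q⁆)) * q := by group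
        _ = z * ((z * ⁅g, q⁆) * q) * q := by rw [h4]
        _ = _ := by group
    rw [h5]
    exact mul_mem (mul_mem hz (mul_mem hz (g2 q hq))) (L.le 4 (by decide) (QQ_sq E q hq))
  have h3 := N1_ker E L hgg h2
  obtain ⟨z, hz, q, hq, e⟩ := mem_sup_of_comm (A := V 4) (B := QQ X 4) (fun a ha b hb => V4_QQ L a ha b hb)
      (g := g * g) (by rw [sup_comm]; exact h3)
  -- `q` centralises `Q1`
  have h4 : ∀ a ∈ QQ X 4, q * a = a * q := by
    intro a ha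
    have h5 := h1 a ha
    rw [← e] at h5
    have h6 := V4_QQ L z hz a ha
    have : z * (q * a) = z * (a * q) := by
      calc z * (q * a) = z * q * a := by group
        _ = a * (z * q) := h5
        _ = (a * z) * q := by group
        _ = (z * a) * q := by rw [h6]
        _ = _ := by group
    exact mul_left_cancel this
  have h5 : q ∈ X 4 := by
    rcases E.cQ1' 4 (by decide) q (t_sup E q (QQ_le X 4 hq)) h4 with h | h
    · exact h
    · exfalso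
      apply E.tnot
      have : t = (t * q) * q⁻¹ := by group
      rw [this]
      exact mul_mem (X_le X 4 h) (inv_mem (QQ_le X 4 hq))
  rw [← e]
  exact mul_mem hz (L.le 4 (by decide) h5)

theorem N1_comm (E : Env t T X n) (L : Long2 t T X n V) {g h : G} (hg : g ∈ N1 t X V 4) (hh : h ∈ N1 t X V 4) :
    ⁅g, h⁆ ∈ V 4 := by
  have h1 := N1_sq E L hg
  have h2 := N1_sq E L hh
  have h3 := N1_sq E L (mul_mem hg hh)
  have h4 := hh.1 _ (inv_mem h1)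
  have : ⁅g, h⁆ = (g * h * (g * h)) * ((g * g)⁻¹ * (h * h)⁻¹) := by
    rw [commutatorElement_def]
    calc g * h * g⁻¹ * h⁻¹ = (g * h * (g * h)) * (h⁻¹ * ((g * g)⁻¹ * h) * (h * h)⁻¹) := by group
      _ = (g * h * (g * h)) * (h⁻¹ * (h * (g * g)⁻¹) * (h * h)⁻¹) := by rw [h4]
      _ = _ := by group
  rw [this]
  exact mul_mem h3 (mul_mem (inv_mem h1) (inv_mem h2))

theorem QQ_le_N1 (E : Env t T X n) (L : Long2 t T X n V) : QQ X 4 ≤ N1 t X V 4 := by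
  intro q hq
  refine ⟨fun z hz => (V4_QQ L z hz q hq).symm, fun a ha => L.le 4 (by decide) (QQ_comm E q hq a ha), ?_⟩
  rw [comm_one_iff.mpr (t_sup E q (QQ_le X 4 hq))]; exact one_mem _

theorem V4_le_N1 (L : Long2 t T X n V) : V 4 ≤ N1 t X V 4 := by
  intro z hz
  refine ⟨fun y hy => L.ab 4 (by decide) z hz y hy, fun q hq => ?_, ?_⟩
  · rw [commutatorElement_eq_one_iff_mul_comm.mpr (V4_QQ L z hz q hq)]; exact one_mem _
  · exact le_sup_right (a := QQ X 4) (L.le 4 (by decide) (L.br 4 (by decide) z hz))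

theorem V2_le_N1 (L : Long2 t T X n V) : V 2 ≤ N1 t X V 4 := by
  intro y hy
  have one : ∀ {a b : G}, a * b = b * a → ⁅a, b⁆ ∈ V 4 := fun h => by
    rw [commutatorElement_eq_one_iff_mul_comm.mpr h]; exact one_mem _
  refine ⟨fun z hz => L.l2 2 (by decide) y hy z hz, ?_, ?_⟩
  · exact comm_mem_QQ (r := 4) (V4_QQ L) (fun a ha => one (L.near 2 2 (by decide) (by decide) y hy a ha))
      (fun a ha => one (L.near 2 3 (by decide) (by decide) y hy a ha))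
      (fun a ha => one (L.near 2 4 (by decide) (by decide) y hy a ha))
      (fun a ha => one (L.near 2 5 (by decide) (by decide) y hy a ha))
      (fun a ha => L.l4 2 (by decide) y hy a ha)
  · exact le_sup_left (b := V 4) ((le_QQ X 4).1 (L.br 2 (by decide) y hy))

theorem V6_le_N1 (L : Long2 t T X n V) : V 6 ≤ N1 t X V 4 := by
  intro y hy
  have one : ∀ {a b : G}, a * b = b * a → ⁅a, b⁆ ∈ V 4 := fun h => by
    rw [commutatorElement_eq_one_iff_mul_comm.mpr h]; exact one_mem _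
  refine ⟨fun z hz => (L.l2 4 (by decide) z hz y hy).symm, ?_, ?_⟩
  · refine comm_mem_QQ (r := 4) (V4_QQ L) (fun a ha => ?_)
      (fun a ha => one (L.near 6 3 (by decide) (by decide) y hy a ha))
      (fun a ha => one (L.near 6 4 (by decide) (by decide) y hy a ha))
      (fun a ha => one (L.near 6 5 (by decide) (by decide) y hy a ha))
      (fun a ha => one (L.near 6 6 (by decide) (by decide) y hy a ha))
    have h := L.l4' 2 (by decide) a ha y hy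
    rw [← commutatorElement_inv]; exact inv_mem h
  · exact le_sup_left (b := V 4) ((le_QQ X 4).2.2.2.2 (L.br 6 (by decide) y hy))

end Base

section Inv

theorem inv_swap [Finite G] {A B : Subgroup G} {g : G} (h1 : ∀ a ∈ A, g * a * g⁻¹ ∈ B)
    (h2 : ∀ b ∈ B, g * b * g⁻¹ ∈ A) : ∀ b ∈ B, g⁻¹ * b * g ∈ A := by
  have h3 : ∀ b ∈ B, (g * g) * b * (g * g)⁻¹ ∈ B := by
    intro b hb
    have := h1 _ (h2 b hb)
    rwa [show g * (g * b * g⁻¹) * g⁻¹ = (g * g) * b * (g * g)⁻¹ by group] at this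
  have h4 := inv_conj_mem_of_forall h3
  intro b hb
  have := h2 _ (h4 b hb)
  rwa [show g * ((g * g)⁻¹ * b * (g * g)) * g⁻¹ = g⁻¹ * b * g by group] at this

theorem QQ_n (E : Env t T X n) (k r : ZMod 12) : ∀ a ∈ QQ X r, n k * a * (n k)⁻¹ ∈ QQ X (2 * k + 6 - r) := by
  obtain ⟨l1, l2, l3, l4, l5⟩ := le_QQ X (2 * k + 6 - r)
  refine conj_QQ (r := r) (fun a ha => ?_) (fun a ha => ?_) (fun a ha => ?_) (fun a ha => ?_) (fun a ha => ?_)
  · have := E.nX k _ a ha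
    rw [show 2 * k + 6 - (r - 2) = 2 * k + 6 - r + 2 by ring] at this
    exact l5 this
  · have := E.nX k _ a ha
    rw [show 2 * k + 6 - (r - 1) = 2 * k + 6 - r + 1 by ring] at this
    exact l4 this
  · exact l3 (E.nX k _ a ha)
  · have := E.nX k _ a ha
    rw [show 2 * k + 6 - (r + 1) = 2 * k + 6 - r - 1 by ring] at this
    exact l2 this
  · have := E.nX k _ a ha
    rw [show 2 * k + 6 - (r + 2) = 2 * k + 6 - r - 2 by ring] at this
    exact l1 this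

theorem QQ_n' [Finite G] (E : Env t T X n) (k r : ZMod 12) :
    ∀ a ∈ QQ X (2 * k + 6 - r), (n k)⁻¹ * a * n k ∈ QQ X r := by
  refine inv_swap (QQ_n E k r) ?_
  have := QQ_n E k (2 * k + 6 - r)
  rwa [show 2 * k + 6 - (2 * k + 6 - r) = r by ring] at this

theorem nX' [Finite G] (E : Env t T X n) (k r : ZMod 12) : ∀ a ∈ X (2 * k + 6 - r), (n k)⁻¹ * a * n k ∈ X r := by
  refine inv_swap (E.nX k r) ?_
  have := E.nX k (2 * k + 6 - r)
  rwa [show 2 * k + 6 - (2 * k + 6 - r) = r by ring] at this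

theorem ev_refl {k r : ZMod 12} (hr : Ev r) : Ev (2 * k + 6 - r) := by revert k r; decide

theorem nV' [Finite G] (L : Long t T X n V) (k r : ZMod 12) (hr : Ev r) :
    ∀ a ∈ V (2 * k + 6 - r), (n k)⁻¹ * a * n k ∈ V r := by
  refine inv_swap (L.nV k r hr) ?_
  have := L.nV k (2 * k + 6 - r) (ev_refl hr)
  rwa [show 2 * k + 6 - (2 * k + 6 - r) = r by ring] at this

theorem N1_n [Finite G] (E : Env t T X n) (L : Long t T X n V) (k r : ZMod 12) (hr : Ev r) :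
    ∀ g ∈ N1 t X V r, n k * g * (n k)⁻¹ ∈ N1 t X V (2 * k + 6 - r) :=
  N1_conj (E.tn k) (L.nV k r hr) (nV' L k r hr) (QQ_n E k r) (QQ_n' E k r)

theorem QQ_T (E : Env t T X n) {h : G} (hh : h ∈ T) (r : ZMod 12) : ∀ a ∈ QQ X r, h * a * h⁻¹ ∈ QQ X r := by
  obtain ⟨l1, l2, l3, l4, l5⟩ := le_QQ X r
  exact conj_QQ (fun a ha => l1 (E.TX h hh _ a ha)) (fun a ha => l2 (E.TX h hh _ a ha))
    (fun a ha => l3 (E.TX h hh _ a ha)) (fun a ha => l4 (E.TX h hh _ a ha)) (fun a ha => l5 (E.TX h hh _ a ha))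

theorem inv_of {A : Subgroup G} {h : G} (hA : ∀ a ∈ A, h⁻¹ * a * h⁻¹⁻¹ ∈ A) : ∀ a ∈ A, h⁻¹ * a * h ∈ A := by
  intro a ha
  have := hA a ha
  rwa [inv_inv] at this

theorem N1_T (E : Env t T X n) (L : Long t T X n V) {h : G} (hh : h ∈ T) (r : ZMod 12) (hr : Ev r) :
    ∀ g ∈ N1 t X V r, h * g * h⁻¹ ∈ N1 t X V r :=
  N1_conj (E.tT h hh) (L.TV h hh r hr) (inv_of (L.TV h⁻¹ (T.inv_mem hh) r hr)) (QQ_T E hh r)
    (inv_of (QQ_T E (T.inv_mem hh) r))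

theorem QQ_X1 (E : Env t T X n) {x : G} (hx : x ∈ X 1) : ∀ a ∈ QQ X 4, x * a * x⁻¹ ∈ QQ X 4 := by
  obtain ⟨l2, l3, l4, l5, l6⟩ := le_QQ X 4
  have l2 : X 2 ≤ QQ X 4 := l2
  have l3 : X 3 ≤ QQ X 4 := l3
  have l5 : X 5 ≤ QQ X 4 := l5
  have l6 : X 6 ≤ QQ X 4 := l6
  refine conj_QQ (r := 4) (fun a ha => ?_) (fun a ha => ?_) (fun a ha => ?_) (fun a ha => ?_) (fun a ha => ?_)
  · exact conj_mem_of_commute (E.c1 1 x hx a ha) (l2 ha)
  · exact conj_mem_of_comm (l2 (E.s2 1 (by decide) x hx a ha)) (l3 ha)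
  · exact conj_mem_of_commute (E.c3 1 x hx a ha) (l4 ha)
  · exact conj_mem_of_comm ((sup_le (sup_le l2 l3) l4) (E.s4 1 (by decide) x hx a ha)) (l5 ha)
  · exact conj_mem_of_comm ((sup_le (sup_le (sup_le l2 l3) l4) l5) (E.c5 1 x hx a ha)) (l6 ha)

theorem QQ_X7 (E : Env t T X n) {x : G} (hx : x ∈ X 7) : ∀ a ∈ QQ X 4, x * a * x⁻¹ ∈ QQ X 4 := by
  obtain ⟨l2, l3, l4, l5, l6⟩ := le_QQ X 4
  have l2 : X 2 ≤ QQ X 4 := l2
  have l3 : X 3 ≤ QQ X 4 := l3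
  have l5 : X 5 ≤ QQ X 4 := l5
  have l6 : X 6 ≤ QQ X 4 := l6
  refine conj_QQ (r := 4) (fun a ha => ?_) (fun a ha => ?_) (fun a ha => ?_) (fun a ha => ?_) (fun a ha => ?_)
  · exact conj_mem_of_comm' ((sup_le (sup_le (sup_le l3 l4) l5) l6) (E.c5 2 a ha x hx)) (l2 ha)
  · exact conj_mem_of_comm' ((sup_le (sup_le l4 l5) l6) (E.s4 3 (by decide) a ha x hx)) (l3 ha)
  · exact conj_mem_of_commute (E.c3 4 a ha x hx).symm (l4 ha)
  · exact conj_mem_of_comm' (l6 (E.s2 5 (by decide) a ha x hx)) (l5 ha)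
  · exact conj_mem_of_commute (E.c1 6 a ha x hx).symm (l6 ha)

theorem N1_X1 (E : Env t T X n) (L : Long t T X n V) {x : G} (hx : x ∈ X 1) :
    ∀ g ∈ N1 t X V 4, x * g * x⁻¹ ∈ N1 t X V 4 := by
  have h1 : ∀ x ∈ X 1, ∀ z ∈ V 4, x * z * x⁻¹ ∈ V 4 := fun x hx z hz =>
    conj_mem_of_commute (L.near 4 1 (by decide) (by decide) z hz x hx).symm hz
  exact N1_conj (E.tX 1 x hx) (h1 x hx) (inv_of (h1 x⁻¹ (inv_mem hx))) (QQ_X1 E hx) (inv_of (QQ_X1 E (inv_mem hx)))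

theorem N1_X7 (E : Env t T X n) (L : Long t T X n V) {x : G} (hx : x ∈ X 7) :
    ∀ g ∈ N1 t X V 4, x * g * x⁻¹ ∈ N1 t X V 4 := by
  have h1 : ∀ x ∈ X 7, ∀ z ∈ V 4, x * z * x⁻¹ ∈ V 4 := fun x hx z hz =>
    conj_mem_of_commute (L.near 4 7 (by decide) (by decide) z hz x hx).symm hz
  exact N1_conj (E.tX 7 x hx) (h1 x hx) (inv_of (h1 x⁻¹ (inv_mem hx))) (QQ_X7 E hx) (inv_of (QQ_X7 E (inv_mem hx)))

theorem V_t (E : Env t T X n) (L : Long t T X n V) {r : ZMod 12} (hr : Ev r) : ∀ z ∈ V r, t * z * t⁻¹ ∈ V r :=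
  fun z hz => conj_mem_of_comm (L.le r hr (L.br r hr z hz)) hz

theorem N1_t (E : Env t T X n) (L : Long t T X n V) {r : ZMod 12} (hr : Ev r) :
    ∀ g ∈ N1 t X V r, t * g * t⁻¹ ∈ N1 t X V r := by
  have h1 := V_t E L hr
  have h2 : ∀ a ∈ QQ X r, t * a * t⁻¹ ∈ QQ X r := fun a ha =>
    conj_mem_of_commute (t_sup E a (QQ_le X r ha)).symm ha
  refine N1_conj rfl h1 ?_ h2 ?_
  · intro z hz
    have := h1 z hz
    rw [tinv E] at this ⊢; exact this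
  · intro z hz
    have := h2 z hz
    rw [tinv E] at this ⊢; exact this

end Inv

section Onto

/-- the elements of `Q1` which are commutators with `t` modulo `V 4` -/
def Phi (E : Env t T X n) (L : Long2 t T X n V) : Subgroup G where
  carrier := {q | q ∈ QQ X 4 ∧ ∃ g ∈ N1 t X V 4, ∃ z ∈ V 4, ⁅t, g⁆ = q * z}
  one_mem' := ⟨one_mem _, 1, one_mem _, 1, one_mem _, by simp⟩
  mul_mem' := by
    rintro q q' ⟨hq, g, hg, z, hz, e⟩ ⟨hq', g', hg', z', hz', e'⟩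
    refine ⟨mul_mem hq hq', g * g', mul_mem hg hg', z * ⁅g, q'⁆ * z', mul_mem (mul_mem hz (hg.2.1 q' hq')) hz', ?_⟩
    rw [comm_mul_right, e, e']
    have h1 := hg.1 z' hz'
    have h2 := V4_QQ L _ (mul_mem hz (hg.2.1 q' hq')) q' hq'
    calc q * z * (g * (q' * z') * g⁻¹) = q * z * (⁅g, q'⁆ * q' * (g * z' * g⁻¹)) := by
          rw [commutatorElement_def]; group
      _ = q * z * (⁅g, q'⁆ * q' * z') := by rw [h1, mul_inv_cancel_right]
      _ = q * ((z * ⁅g, q'⁆) * q') * z' := by group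
      _ = q * (q' * (z * ⁅g, q'⁆)) * z' := by rw [h2]
      _ = _ := by group
  inv_mem' := by
    rintro q ⟨hq, g, hg, z, hz, e⟩
    have hgi := inv_mem hg
    refine ⟨inv_mem hq, g⁻¹, hgi, z⁻¹ * ⁅g⁻¹, q⁻¹⁆, mul_mem (inv_mem hz) (hgi.2.1 _ (inv_mem hq)), ?_⟩
    have h0 : ⁅t, g⁻¹⁆ = g⁻¹ * ⁅t, g⁆⁻¹ * g := by simp only [commutatorElement_def]; group
    have h1 := hgi.1 _ (inv_mem hz)
    have h2 := V4_QQ L _ (mul_mem (inv_mem hz) (hgi.2.1 _ (inv_mem hq))) _ (inv_mem hq)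
    rw [h0, e]
    calc g⁻¹ * (q * z)⁻¹ * g = (g⁻¹ * z⁻¹) * q⁻¹ * g := by group
      _ = (z⁻¹ * g⁻¹) * q⁻¹ * g := by rw [h1]
      _ = z⁻¹ * ⁅g⁻¹, q⁻¹⁆ * q⁻¹ := by rw [commutatorElement_def]; group
      _ = _ := h2

theorem QQ_le_Phi [Finite G] (E : Env t T X n) (L : Long2 t T X n V) : QQ X 4 ≤ Phi E L := by
  obtain ⟨l2, l3, l4, l5, l6⟩ := le_QQ X 4
  have l2 : X 2 ≤ QQ X 4 := l2
  have l3 : X 3 ≤ QQ X 4 := l3
  have l5 : X 5 ≤ QQ X 4 := l5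
  have l6 : X 6 ≤ QQ X 4 := l6
  have h2 : X 2 ≤ Phi E L := fun a ha => by
    obtain ⟨y, hy, e⟩ := L.onto 2 (by decide) a ha
    exact ⟨l2 ha, y, V2_le_N1 L hy, 1, one_mem _, by rw [e, mul_one]⟩
  have h6 : X 6 ≤ Phi E L := fun a ha => by
    obtain ⟨y, hy, e⟩ := L.onto 6 (by decide) a ha
    exact ⟨l6 ha, y, V6_le_N1 L hy, 1, one_mem _, by rw [e, mul_one]⟩
  have h4 : X 4 ≤ Phi E L := fun a ha => by
    obtain ⟨y, hy, e⟩ := L.onto 4 (by decide) a ha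
    exact ⟨l4 ha, y, V4_le_N1 L hy, 1, one_mem _, by rw [e, mul_one]⟩
  have h16 : ∀ x ∈ X 1, ∀ b ∈ X 6, ⁅x, b⁆ ∈ Phi E L := by
    intro x hx b hb
    obtain ⟨v, hv, e⟩ := L.onto 6 (by decide) b hb
    have hv1 := V6_le_N1 L hv
    have hg : ⁅x, v⁆ ∈ N1 t X V 4 := by
      rw [commutatorElement_def]
      exact mul_mem (N1_X1 E L.toLong hx v hv1) (inv_mem hv1)
    refine ⟨(sup_le (sup_le (sup_le l2 l3) l4) l5) (E.c5 1 x hx b hb), ⁅x, v⁆, hg, ⁅⁅x, v⁆, b⁻¹⁆,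
      hg.2.1 _ (inv_mem (l6 hb)), ?_⟩
    set g := ⁅x, v⁆ with hgd
    have hxt : t * x = x * t := (E.tX 1 x hx).symm
    have hxt' : x⁻¹ * t = t * x⁻¹ := by
      calc x⁻¹ * t = x⁻¹ * (t * x) * x⁻¹ := by group
        _ = x⁻¹ * (x * t) * x⁻¹ := by rw [hxt]
        _ = t * x⁻¹ := by group
    have htv : t * v * t = b * v := by rw [t_conj E, e]
    have htv' : t * v⁻¹ * t = v⁻¹ * b⁻¹ := by
      calc t * v⁻¹ * t = (t⁻¹ * v * t⁻¹)⁻¹ := by group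
        _ = (t * v * t)⁻¹ := by rw [tinv E]
        _ = _ := by rw [htv]; group
    have hbv : v⁻¹ * b⁻¹ = b⁻¹ * v⁻¹ :=
      L.ab 6 (by decide) _ (inv_mem hv) _ (inv_mem (L.le 6 (by decide) hb))
    have htg : t * g * t = x * b * v * x⁻¹ * (v⁻¹ * b⁻¹) := by
      rw [hgd, commutatorElement_def]
      calc t * (x * v * x⁻¹ * v⁻¹) * t = (t * x) * v * x⁻¹ * v⁻¹ * t := by group
        _ = (x * t) * v * (t * t) * x⁻¹ * (t * t) * v⁻¹ * t := by rw [hxt, E.tt]; group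
        _ = x * (t * v * t) * (t * x⁻¹) * t * (t * v⁻¹ * t) := by group
        _ = x * (b * v) * (x⁻¹ * t) * t * (v⁻¹ * b⁻¹) := by rw [htv, htv', hxt']
        _ = x * b * v * x⁻¹ * (t * t) * (v⁻¹ * b⁻¹) := by group
        _ = _ := by rw [E.tt]; group
    have h1 : ⁅t, g⁆ = (x * b * x⁻¹) * (g * b⁻¹ * g⁻¹) := by
      have : ⁅t, g⁆ = t * g * t * g⁻¹ := by rw [commutatorElement_def, tinv E]
      rw [this, htg]
      calc x * b * v * x⁻¹ * (v⁻¹ * b⁻¹) * g⁻¹ = (x * b * x⁻¹) * (x * v * x⁻¹ * v⁻¹) * b⁻¹ * g⁻¹ := by group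
        _ = (x * b * x⁻¹) * (g * b⁻¹ * g⁻¹) := by rw [← commutatorElement_def, ← hgd]; group
    have h2 := V4_QQ L _ (hg.2.1 _ (inv_mem (l6 hb))) _ (inv_mem (l6 hb))
    rw [h1]
    calc (x * b * x⁻¹) * (g * b⁻¹ * g⁻¹) = (x * b * x⁻¹) * (⁅g, b⁻¹⁆ * b⁻¹) := by
          rw [commutatorElement_def g]; group
      _ = (x * b * x⁻¹) * (b⁻¹ * ⁅g, b⁻¹⁆) := by rw [h2]
      _ = ⁅x, b⁆ * ⁅g, b⁻¹⁆ := by rw [commutatorElement_def x]; group
  have h3 : X 3 ≤ Phi E L := E.gen 3 (by decide) (Phi E L) h2 h4 h16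
  have hn : ∀ q ∈ Phi E L, n 1 * q * (n 1)⁻¹ ∈ Phi E L := by
    rintro q ⟨hq, g, hg, z, hz, e⟩
    refine ⟨QQ_n E 1 4 q hq, n 1 * g * (n 1)⁻¹, N1_n E L.toLong 1 4 (by decide) g hg, n 1 * z * (n 1)⁻¹,
      L.nV 1 4 (by decide) z hz, ?_⟩
    have h0 : t * n 1 = n 1 * t := (E.tn 1).symm
    have h0' : (n 1)⁻¹ * t⁻¹ = t⁻¹ * (n 1)⁻¹ := by rw [← mul_inv_rev, ← mul_inv_rev, h0]
    have : ⁅t, n 1 * g * (n 1)⁻¹⁆ = n 1 * ⁅t, g⁆ * (n 1)⁻¹ := by
      simp only [commutatorElement_def]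
      calc t * (n 1 * g * (n 1)⁻¹) * t⁻¹ * (n 1 * g * (n 1)⁻¹)⁻¹
          = (t * n 1) * g * ((n 1)⁻¹ * t⁻¹) * (n 1 * g⁻¹ * (n 1)⁻¹) := by group
        _ = (n 1 * t) * g * (t⁻¹ * (n 1)⁻¹) * (n 1 * g⁻¹ * (n 1)⁻¹) := by rw [h0, h0']
        _ = _ := by group
    rw [this, e]; group
  have h5 : X 5 ≤ Phi E L := by
    intro a ha
    have h := h3 (E.nX 1 5 a ha)
    have := inv_conj_mem_of_forall hn _ h
    rwa [show (n 1)⁻¹ * (n 1 * a * (n 1)⁻¹) * n 1 = a by group] at this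
  exact sup_le (sup_le (sup_le (sup_le h2 h3) h4) h5) h6

/-- `g ↦ [t, g]` is onto `Q1` modulo `V 4` -/
theorem N1_onto [Finite G] (E : Env t T X n) (L : Long2 t T X n V) {q : G} (hq : q ∈ QQ X 4) :
    ∃ g ∈ N1 t X V 4, ∃ z ∈ V 4, ⁅t, g⁆ = q * z := (QQ_le_Phi E L hq).2

end Onto

end Cfsg.Agent.HexGrow.QOne
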