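import Cfsg.Agent.HexGrow.QOne

/-!
# Growth for `G2(q)`, `3D4(q)`, phase (D): the doubled short root groups.
-/

set_option autoImplicit false

namespace Cfsg.Agent.HexGrow.Short

open Cfsg.Agent.HexGrow.Defs Cfsg.Agent.HexGrow.Basic Cfsg.Agent.HexGrow.Tools Cfsg.Agent.HexGrow.LongTwo
  Cfsg.Agent.HexGrow.QOne
open scoped commutatorElement

variable {G : Type*} [Group G] {t : G} {T : Subgroup G} {X : ZMod 12 → Subgroup G} {n : ZMod 12 → G}
  {V : ZMod 12 → Subgroup G}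

/-- `B` is a double of `A` (with respect to `t`) -/
structure Dbl (t : G) (A B : Subgroup G) : Prop where
  le : A ≤ B
  sq : ∀ y ∈ B, y * y = 1
  br : ∀ y ∈ B, ⁅t, y⁆ ∈ A
  onto : ∀ a ∈ A, ∃ y ∈ B, ⁅t, y⁆ = a
  fix : ∀ y ∈ B, y * t = t * y → y ∈ A

theorem dbl_ab {t : G} {A B : Subgroup G} (D : Dbl t A B) : ∀ a ∈ B, ∀ b ∈ B, a * b = b * a := by
  intro a ha b hb
  have h1 := D.sq _ (B.mul_mem ha hb)
  have h2 := D.sq a ha
  have h3 := D.sq b hb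
  symm
  calc b * a = (a * a) * (b * a) * (b * b) := by rw [h2, h3]; group
    _ = a * (a * b * (a * b)) * b := by group
    _ = a * b := by rw [h1]; group

theorem long_dbl (L : Long2 t T X n V) {r : ZMod 12} (hr : Ev r) : Dbl t (X r) (V r) where
  le := L.le r hr
  sq := L.sq r hr
  br := L.br r hr
  onto := L.onto r hr
  fix := L.fix r hr

theorem comm_conj {h t y : G} (ht : h * t = t * h) : ⁅t, h * y * h⁻¹⁆ = h * ⁅t, y⁆ * h⁻¹ := by
  have h0' : h⁻¹ * t⁻¹ = t⁻¹ * h⁻¹ := by rw [← mul_inv_rev, ← mul_inv_rev, ht]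
  simp only [commutatorElement_def]
  calc t * (h * y * h⁻¹) * t⁻¹ * (h * y * h⁻¹)⁻¹ = (t * h) * y * (h⁻¹ * t⁻¹) * (h * y⁻¹ * h⁻¹) := by group
    _ = (h * t) * y * (t⁻¹ * h⁻¹) * (h * y⁻¹ * h⁻¹) := by rw [ht, h0']
    _ = _ := by group

theorem fpf_of {t : G} {A B : Subgroup G} (D : Dbl t A B) {h : G} (ht : h * t = t * h) (hf : Fpf h A) : Fpf h B := by
  intro y hy e
  have h1 : h * ⁅t, y⁆ * h⁻¹ = ⁅t, y⁆ := by rw [← comm_conj ht, e]
  have h2 := hf _ (D.br y hy) h1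
  exact hf y (D.fix y hy (comm_one_iff.mp h2)) e

/-- two elements of a double with the same commutator with `t` differ by an element of `A` -/
theorem dbl_eq {t : G} {A B : Subgroup G} (D : Dbl t A B) {y y' : G} (hy : y ∈ B) (hy' : y' ∈ B)
    (h : ⁅t, y⁆ = ⁅t, y'⁆) : y⁻¹ * y' ∈ A := by
  apply D.fix _ (B.mul_mem (B.inv_mem hy) hy')
  have h1 : t * y * t⁻¹ * y⁻¹ = t * y' * t⁻¹ * y'⁻¹ := by simpa [commutatorElement_def] using h
  have h3 : y⁻¹ * y' = t * (y⁻¹ * y') * t⁻¹ := by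
    calc y⁻¹ * y' = y⁻¹ * (t * y' * t⁻¹ * y'⁻¹)⁻¹ * (t * y' * t⁻¹) := by group
      _ = y⁻¹ * (t * y * t⁻¹ * y⁻¹)⁻¹ * (t * y' * t⁻¹) := by rw [h1]
      _ = t * (y⁻¹ * y') * t⁻¹ := by group
  calc y⁻¹ * y' * t = (t * (y⁻¹ * y') * t⁻¹) * t := by rw [← h3]
    _ = t * (y⁻¹ * y') := by group

/-- an element of odd order centralising `A` centralises the double -/
theorem cen_of {t : G} {A B : Subgroup G} (D : Dbl t A B) {h : G} (ht : h * t = t * h) (ho : Odd (orderOf h))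
    (hB : ∀ y ∈ B, h * y * h⁻¹ ∈ B) (hc : Cen h A) : Cen h B := by
  intro y hy
  have h1 : ⁅t, h * y * h⁻¹⁆ = ⁅t, y⁆ := by rw [comm_conj ht, hc _ (D.br y hy)]
  have h2 := dbl_eq D hy (hB y hy) h1.symm
  set u := y⁻¹ * (h * y * h⁻¹) with hu
  have e : h * y * h⁻¹ = y * u := by rw [hu]; group
  have hk : ∀ k : ℕ, h ^ k * y * (h ^ k)⁻¹ = y * u ^ k := by
    intro k
    induction k with
    | zero => simp
    | succ k ih =>
      have h3 : h * u ^ k * h⁻¹ = u ^ k := hc _ (A.pow_mem h2 k)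
      calc h ^ (k + 1) * y * (h ^ (k + 1))⁻¹ = h * (h ^ k * y * (h ^ k)⁻¹) * h⁻¹ := by rw [pow_succ']; group
        _ = h * (y * u ^ k) * h⁻¹ := by rw [ih]
        _ = (h * y * h⁻¹) * (h * u ^ k * h⁻¹) := by group
        _ = y * u ^ (k + 1) := by rw [e, h3, mul_assoc, ← pow_succ']
  have h4 := hk (orderOf h)
  rw [pow_orderOf_eq_one] at h4
  have h5 : u ^ orderOf h = 1 := by
    have : y * u ^ orderOf h = y * 1 := by rw [← h4]; group
    exact mul_left_cancel this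
  have h6 : u * u = 1 := D.sq u (D.le h2)
  have h7 : u = 1 := by
    obtain ⟨m, hm⟩ := ho
    rw [hm, pow_succ, pow_mul, pow_two, h6, one_pow, one_mul] at h5
    exact h5
  rw [e, h7, mul_one]

/-- transport of a `NoHom` statement from `A` to a map on the double -/
theorem hom_kill {t : G} {A Y Z : Subgroup G} (D : Dbl t A Y) (S : G → Prop)
    (nh : ∀ g : G → G, (∀ a ∈ A, g a ∈ Z) → (∀ a ∈ A, ∀ b ∈ A, g (a * b) = g a * g b) →
      (∀ h, S h → ∀ a ∈ A, g (h * a * h⁻¹) = h * g a * h⁻¹) → ∀ a ∈ A, g a = 1)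
    (hS : ∀ h, S h → h * t = t * h ∧ ∀ y ∈ Y, h * y * h⁻¹ ∈ Y) (f : G → G) (f1 : ∀ y ∈ Y, f y ∈ Z)
    (f2 : ∀ y ∈ Y, ∀ y' ∈ Y, f (y * y') = f y * f y') (f3 : ∀ a ∈ A, f a = 1)
    (f4 : ∀ h, S h → ∀ y ∈ Y, f (h * y * h⁻¹) = h * f y * h⁻¹) : ∀ y ∈ Y, f y = 1 := by
  classical
  have hl : ∀ a : G, ∃ y ∈ Y, a ∈ A → ⁅t, y⁆ = a := by
    intro a
    by_cases ha : a ∈ A
    · obtain ⟨y, hy, e⟩ := D.onto a ha
      exact ⟨y, hy, fun _ => e⟩
    · exact ⟨1, Y.one_mem, fun h => absurd h ha⟩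
  choose l hl1 hl2 using hl
  have hf : ∀ y ∈ Y, ∀ y' ∈ Y, ⁅t, y⁆ = ⁅t, y'⁆ → f y = f y' := by
    intro y hy y' hy' h
    have h1 := dbl_eq D hy hy' h
    have : y' = y * (y⁻¹ * y') := by group
    rw [this, f2 y hy _ (D.le h1), f3 _ h1, mul_one]
  have hg := nh (fun a => f (l a)) (fun a _ => f1 _ (hl1 a)) (fun a ha b hb => ?_) (fun h hh a ha => ?_)
  · intro y hy
    have h1 := hg _ (D.br y hy)
    rw [← h1]
    exact hf y hy _ (hl1 _) (hl2 _ (D.br y hy)).symm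
  · show f (l (a * b)) = f (l a) * f (l b)
    rw [← f2 _ (hl1 a) _ (hl1 b)]
    apply hf _ (hl1 _) _ (Y.mul_mem (hl1 a) (hl1 b))
    rw [hl2 _ (A.mul_mem ha hb), comm_mul_right, hl2 a ha, hl2 b hb,
      dbl_ab D (l a) (hl1 a) b (D.le hb), mul_inv_cancel_right]
  · show f (l (h * a * h⁻¹)) = h * f (l a) * h⁻¹
    rw [← f4 h hh _ (hl1 a)]
    have h1 := (hS h hh).2 _ (hl1 a)
    have e1 : ⁅t, h * l a * h⁻¹⁆ = h * a * h⁻¹ := by rw [comm_conj (hS h hh).1, hl2 a ha]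
    have hA : h * a * h⁻¹ ∈ A := by rw [← e1]; exact D.br _ h1
    apply hf _ (hl1 _) _ h1
    rw [hl2 _ hA, e1]

theorem ev_succ {s : ZMod 12} (hs : ¬ Ev s) : Ev (s + 1) := by revert s; decide

theorem ev_pred {s : ZMod 12} (hs : ¬ Ev s) : Ev (s - 1) := by revert s; decide

/-- the doubled short root groups -/
def VS (t : G) (T : Subgroup G) (X V : ZMod 12 → Subgroup G) (s : ZMod 12) : Subgroup G :=
  N1 t X V (s + 1) ⊓ Subgroup.centralizer {h : G | h ∈ T ∧ Cen h (X s)}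

theorem mem_VS {s : ZMod 12} {g : G} : g ∈ VS t T X V s ↔
    g ∈ N1 t X V (s + 1) ∧ ∀ h ∈ T, Cen h (X s) → h * g = g * h := by
  unfold VS
  rw [Subgroup.mem_inf, Subgroup.mem_centralizer_iff]
  exact and_congr_right fun _ => ⟨fun h k hk hk' => h k ⟨hk, hk'⟩, fun h k hk => h k hk.1 hk.2⟩

theorem VS_sh (t : G) (T : Subgroup G) (X V : ZMod 12 → Subgroup G) (c s : ZMod 12) :
    VS t T (sh c X) (sh c V) s = VS t T X V (s + c) := by
  unfold VS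
  rw [N1_sh, show s + 1 + c = s + c + 1 by ring]
  rfl

section Base

variable [Finite G]

/-- fixed points in `Q1 V 4` -/
theorem fixQ (E : Env t T X n) (L : Long2 t T X n V) {h : G} (hT : h ∈ T)
    (h4 : Fpf h (X 4)) (hQ : ∀ q ∈ QQ X 4, h * q * h⁻¹ = q → q ∈ X 3) {u : G} (hu : u ∈ QQ X 4 ⊔ V 4)
    (hh : h * u * h⁻¹ = u) : u ∈ X 3 := by
  obtain ⟨z, hz, q, hq, e⟩ := mem_sup_of_comm (A := V 4) (B := QQ X 4) (fun a ha b hb => V4_QQ L a ha b hb)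
    (g := u) (by rw [sup_comm]; exact hu)
  have hzc := L.TV h hT 4 (by decide) z hz
  have hqc := QQ_T E hT 4 q hq
  have e1 : z⁻¹ * (h * z * h⁻¹) = q * (h * q * h⁻¹)⁻¹ := by
    have : (h * z * h⁻¹) * (h * q * h⁻¹) = z * q := by
      calc (h * z * h⁻¹) * (h * q * h⁻¹) = h * (z * q) * h⁻¹ := by group
        _ = z * q := by rw [e, hh]
    calc z⁻¹ * (h * z * h⁻¹) = z⁻¹ * ((h * z * h⁻¹) * (h * q * h⁻¹)) * (h * q * h⁻¹)⁻¹ := by group
      _ = _ := by rw [this]; group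
  have h1 : z⁻¹ * (h * z * h⁻¹) ∈ QQ X 4 := by rw [e1]; exact mul_mem hq (inv_mem hqc)
  have h2 : ⁅t, z⁻¹ * (h * z * h⁻¹)⁆ = 1 := comm_one_iff.mpr (t_sup E _ (QQ_le X 4 h1))
  have D := long_dbl L (r := 4) (by decide)
  have h3 : h * ⁅t, z⁆ * h⁻¹ = ⁅t, z⁆ := by
    have ht := E.tT h hT
    rw [← comm_conj ht]
    have h5 : h * z * h⁻¹ = z * (z⁻¹ * (h * z * h⁻¹)) := by group
    rw [h5, comm_mul_right, h2]; group
  have h5 := h4 _ (L.br 4 (by decide) z hz) h3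
  have h6 := L.fix 4 (by decide) z hz (comm_one_iff.mp h5)
  have h7 : u ∈ QQ X 4 := by rw [← e]; exact mul_mem ((le_QQ X 4).2.2.1 h6) hq
  exact hQ u h7 hh

theorem pow_mem_mul {N : Subgroup G} {g h : G} (hg : g ∈ N) (hN : ∀ a ∈ N, h * a * h⁻¹ ∈ N) (k : ℕ) :
    (g * h) ^ k * (h ^ k)⁻¹ ∈ N := by
  induction k with
  | zero => simp
  | succ k ih =>
    have : (g * h) ^ (k + 1) * (h ^ (k + 1))⁻¹ = g * (h * ((g * h) ^ k * (h ^ k)⁻¹) * h⁻¹) := by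
      rw [pow_succ' (g * h), pow_succ' h]; group
    rw [this]; exact mul_mem hg (hN _ ih)

/-- the lifting lemma -/
theorem exists_lift (E : Env t T X n) (L : Long2 t T X n V) {h : G} (hT : h ∈ T) (h3 : Cen h (X 3))
    (h4 : Fpf h (X 4)) {a : G} (ha : a ∈ X 3) : ∃ y ∈ N1 t X V 4, h * y * h⁻¹ = y ∧ ⁅t, y⁆ = a := by
  obtain ⟨g0, hg0, z0, hz0, e0⟩ := N1_onto E L ((le_QQ X 4).2.1 ha)
  have haQ : a ∈ QQ X 4 := (le_QQ X 4).2.1 ha
  have ht := E.tT h hT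
  have hN := N1_T E L.toLong hT 4 (by decide)
  have hodd := E.Todd h hT
  set m := orderOf h with hm
  have hhm : h ^ m = 1 := pow_orderOf_eq_one h
  set y := (g0 * h) ^ m with hy
  have hyN : y ∈ N1 t X V 4 := by
    have := pow_mem_mul hg0 hN m
    rwa [hhm, inv_one, mul_one] at this
  -- conjugation by `h`
  have hyh : h * y * h⁻¹ = y * (y⁻¹ * g0⁻¹ * y * g0) := by
    calc h * y * h⁻¹ = (h * (g0 * h) * h⁻¹) ^ m := by rw [hy, conj_pow]
      _ = (g0⁻¹ * (g0 * h) * g0⁻¹⁻¹) ^ m := by congr 1; group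
      _ = g0⁻¹ * y * g0⁻¹⁻¹ := by rw [hy, conj_pow]
      _ = _ := by group
  have hu : y⁻¹ * g0⁻¹ * y * g0 ∈ V 4 := by
    have := N1_comm E L (inv_mem hyN) (inv_mem hg0)
    rw [commutatorElement_def, inv_inv, inv_inv] at this
    exact this
  -- conjugation by `t`
  have hgV : ∀ z ∈ V 4, (g0 * h) * z * (g0 * h)⁻¹ ∈ V 4 := by
    intro z hz
    have h5 := L.TV h hT 4 (by decide) z hz
    have h6 := hg0.1 _ h5
    have : (g0 * h) * z * (g0 * h)⁻¹ = g0 * (h * z * h⁻¹) * g0⁻¹ := by group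
    rw [this, h6, mul_inv_cancel_right]; exact h5
  have hga : ∀ b ∈ X 3, ⁅g0 * h, b⁆ ∈ V 4 := by
    intro b hb
    rw [comm_mul_left]
    have h5 : ⁅h, b⁆ = 1 := by rw [commutatorElement_def, h3 b hb, mul_inv_cancel]
    rw [h5, mul_one, mul_inv_cancel, one_mul]
    exact hg0.2.1 b ((le_QQ X 4).2.1 hb)
  have key : ∀ k : ℕ, ∃ v ∈ V 4, (a * z0 * (g0 * h)) ^ k = v * a ^ k * (g0 * h) ^ k := by
    intro k
    induction k with
    | zero => exact ⟨1, one_mem _, by simp⟩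
    | succ k ih =>
      obtain ⟨v, hv, e⟩ := ih
      have h5 := hgV v hv
      have h6 := hga _ ((X 3).pow_mem ha k)
      have h7 : a * (z0 * (g0 * h * v * (g0 * h)⁻¹) * ⁅g0 * h, a ^ k⁆) =
          (z0 * (g0 * h * v * (g0 * h)⁻¹) * ⁅g0 * h, a ^ k⁆) * a :=
        (V4_QQ L _ (mul_mem (mul_mem hz0 h5) h6) a haQ).symm
      refine ⟨z0 * (g0 * h * v * (g0 * h)⁻¹) * ⁅g0 * h, a ^ k⁆, mul_mem (mul_mem hz0 h5) h6, ?_⟩
      rw [pow_succ', e, pow_succ' a, pow_succ' (g0 * h)]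
      generalize (g0 * h) ^ k = gk
      generalize g0 * h = g at h7 ⊢
      generalize a ^ k = ak at h7 ⊢
      calc a * z0 * g * (v * ak * gk) = a * (z0 * (g * v * g⁻¹) * ⁅g, ak⁆) * ak * (g * gk) := by
            rw [commutatorElement_def]; group
        _ = (z0 * (g * v * g⁻¹) * ⁅g, ak⁆) * (a * ak) * (g * gk) := by rw [h7]; group
  have ham : a ^ m = a := by
    obtain ⟨j, hj⟩ := hodd
    rw [hj, pow_succ, pow_mul, pow_two, E.sq 3 a ha, one_pow, one_mul]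
  have hty : ∃ v ∈ V 4, ⁅t, y⁆ = v * a := by
    obtain ⟨v, hv, e⟩ := key m
    refine ⟨v, hv, ?_⟩
    have h5 : t * (g0 * h) * t⁻¹ = a * z0 * (g0 * h) := by
      rw [← e0, commutatorElement_def]
      have : h * t⁻¹ = t⁻¹ * h := by rw [tinv E]; exact ht
      calc t * (g0 * h) * t⁻¹ = t * g0 * (h * t⁻¹) := by group
        _ = t * g0 * (t⁻¹ * h) := by rw [this]
        _ = _ := by group
    rw [commutatorElement_def, hy, ← conj_pow, h5, e, ham]; group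
  obtain ⟨v, hv, ev⟩ := hty
  -- adjust
  have hfV := fpf_of (long_dbl L (r := 4) (by decide)) ht h4
  obtain ⟨w, hw, ew⟩ := exists_of_fpf (A := V 4) (h := h) (L.ab 4 (by decide)) (L.TV h hT 4 (by decide)) hfV
    _ hu
  have hyw : h * (y * w⁻¹) * h⁻¹ = y * w⁻¹ := by
    have h5 : h * w * h⁻¹ = w * (y⁻¹ * g0⁻¹ * y * g0) := by rw [← ew]; group
    calc h * (y * w⁻¹) * h⁻¹ = (h * y * h⁻¹) * (h * w * h⁻¹)⁻¹ := by group
      _ = y * (y⁻¹ * g0⁻¹ * y * g0) * (w * (y⁻¹ * g0⁻¹ * y * g0))⁻¹ := by rw [hyh, h5]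
      _ = y * w⁻¹ := by group
  refine ⟨y * w⁻¹, mul_mem hyN (inv_mem (V4_le_N1 L hw)), hyw, ?_⟩
  have h5 : ⁅t, y * w⁻¹⁆ = (v * ⁅t, w⁻¹⁆) * a := by
    rw [comm_mul_right, ev]
    have h6 := L.le 4 (by decide) (L.br 4 (by decide) _ (inv_mem hw))
    have h7 := hyN.1 _ h6
    have h8 := V4_QQ L _ h6 a haQ
    rw [h7, mul_inv_cancel_right]
    calc v * a * ⁅t, w⁻¹⁆ = v * (⁅t, w⁻¹⁆ * a) := by rw [h8]; group
      _ = _ := by group
  have h6 : h * ⁅t, y * w⁻¹⁆ * h⁻¹ = ⁅t, y * w⁻¹⁆ := by rw [← comm_conj ht, hyw]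
  have h7 : v * ⁅t, w⁻¹⁆ ∈ V 4 := mul_mem hv (L.le 4 (by decide) (L.br 4 (by decide) _ (inv_mem hw)))
  have h8 : v * ⁅t, w⁻¹⁆ = 1 := by
    apply hfV _ h7
    rw [h5] at h6
    have h9 := h3 a ha
    have : h * (v * ⁅t, w⁻¹⁆ * a) * h⁻¹ = (h * (v * ⁅t, w⁻¹⁆) * h⁻¹) * (h * a * h⁻¹) := by group
    rw [this, h9] at h6
    exact mul_right_cancel h6
  rw [h5, h8, one_mul]

theorem VS_fix (E : Env t T X n) (L : Long2 t T X n V) {h : G} (hT : h ∈ T) (h3 : Cen h (X 3))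
    (h4 : Fpf h (X 4)) (hQ : ∀ q ∈ QQ X 4, h * q * h⁻¹ = q → q ∈ X 3) :
    Dbl t (X 3) (N1 t X V 4 ⊓ Subgroup.centralizer {h}) := by
  have hmem : ∀ g, g ∈ N1 t X V 4 ⊓ Subgroup.centralizer {h} ↔ g ∈ N1 t X V 4 ∧ h * g * h⁻¹ = g := by
    intro g
    rw [Subgroup.mem_inf, Subgroup.mem_centralizer_singleton_iff]
    refine and_congr_right fun _ => ⟨fun e => ?_, fun e => ?_⟩
    · rw [← e, mul_inv_cancel_right]
    · calc g * h = (h * g * h⁻¹) * h := by rw [e]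
        _ = h * g := by group
  have ht := E.tT h hT
  have hfV := fpf_of (long_dbl L (r := 4) (by decide)) ht h4
  refine ⟨?_, ?_, ?_, ?_, ?_⟩
  · intro a ha
    rw [hmem]
    exact ⟨QQ_le_N1 E L ((le_QQ X 4).2.1 ha), h3 a ha⟩
  · intro y hy
    rw [hmem] at hy
    apply hfV _ (N1_sq E L hy.1)
    calc h * (y * y) * h⁻¹ = (h * y * h⁻¹) * (h * y * h⁻¹) := by group
      _ = y * y := by rw [hy.2]
  · intro y hy
    rw [hmem] at hy
    apply fixQ E L hT h4 hQ hy.1.2.2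
    rw [← comm_conj ht, hy.2]
  · intro a ha
    obtain ⟨y, hy1, hy2, hy3⟩ := exists_lift E L hT h3 h4 ha
    exact ⟨y, (hmem y).mpr ⟨hy1, hy2⟩, hy3⟩
  · intro y hy hyt
    rw [hmem] at hy
    have h5 : ⁅t, y⁆ = 1 := comm_one_iff.mpr hyt
    exact fixQ E L hT h4 hQ (N1_ker E L hy.1 (by rw [h5]; exact one_mem _)) hy.2

/-- `VS 3` is the centraliser in `N1` of the single element `h` -/
theorem VS_eq (E : Env t T X n) (L : Long2 t T X n V) {h : G} (hT : h ∈ T) (h3 : Cen h (X 3))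
    (h4 : Fpf h (X 4)) (hQ : ∀ q ∈ QQ X 4, h * q * h⁻¹ = q → q ∈ X 3) :
    VS t T X V 3 = N1 t X V 4 ⊓ Subgroup.centralizer {h} := by
  have D := VS_fix E L hT h3 h4 hQ
  apply le_antisymm
  · intro g hg
    rw [mem_VS] at hg
    rw [Subgroup.mem_inf, Subgroup.mem_centralizer_singleton_iff]
    exact ⟨hg.1, (hg.2 h hT h3).symm⟩
  · intro g hg
    rw [mem_VS]
    refine ⟨(Subgroup.mem_inf.mp hg).1, fun k hk hk3 => ?_⟩
    have hB : ∀ y ∈ N1 t X V 4 ⊓ Subgroup.centralizer {h}, k * y * k⁻¹ ∈ N1 t X V 4 ⊓ Subgroup.centralizer {h} := by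
      intro y hy
      rw [Subgroup.mem_inf, Subgroup.mem_centralizer_singleton_iff] at hy ⊢
      refine ⟨N1_T E L.toLong hk 4 (by decide) y hy.1, ?_⟩
      have h5 := E.Tab h hT k hk
      have h6 : k⁻¹ * h = h * k⁻¹ := by
        calc k⁻¹ * h = k⁻¹ * (h * k) * k⁻¹ := by group
          _ = k⁻¹ * (k * h) * k⁻¹ := by rw [h5]
          _ = h * k⁻¹ := by group
      calc k * y * k⁻¹ * h = k * y * (k⁻¹ * h) := by group
        _ = k * (y * h) * k⁻¹ := by rw [h6]; group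
        _ = k * (h * y) * k⁻¹ := by rw [hy.2]
        _ = (k * h) * y * k⁻¹ := by group
        _ = (h * k) * y * k⁻¹ := by rw [h5]
        _ = _ := by group
    have := cen_of D (E.tT k hk) (E.Todd k hk) hB hk3 g hg
    calc k * g = (k * g * k⁻¹) * k := by group
      _ = g * k := by rw [this]

theorem VS_dbl (E : Env t T X n) (L : Long2 t T X n V) : Dbl t (X 3) (VS t T X V 3) := by
  obtain ⟨h, hT, h3, hf, h5, h4, h6⟩ := E.tod 3 (by decide)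
  rw [VS_eq E L hT h3 (hf 4 (by decide) (by decide)) h4]
  exact VS_fix E L hT h3 (hf 4 (by decide) (by decide)) h4

theorem VS_T (E : Env t T X n) (L : Long2 t T X n V) {k : G} (hk : k ∈ T) (s : ZMod 12) (hs : ¬ Ev s) :
    ∀ y ∈ VS t T X V s, k * y * k⁻¹ ∈ VS t T X V s := by
  intro y hy
  rw [mem_VS] at hy ⊢
  have hs1 : Ev (s + 1) := ev_succ hs
  refine ⟨N1_T E L.toLong hk _ hs1 y hy.1, fun h hT h3 => ?_⟩
  have h5 := E.Tab h hT k hk
  have h6 : k⁻¹ * h = h * k⁻¹ := by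
    calc k⁻¹ * h = k⁻¹ * (h * k) * k⁻¹ := by group
      _ = k⁻¹ * (k * h) * k⁻¹ := by rw [h5]
      _ = h * k⁻¹ := by group
  symm
  calc k * y * k⁻¹ * h = k * y * (k⁻¹ * h) := by group
    _ = k * (y * h) * k⁻¹ := by rw [h6]; group
    _ = k * (h * y) * k⁻¹ := by rw [hy.2 h hT h3]
    _ = (k * h) * y * k⁻¹ := by group
    _ = (h * k) * y * k⁻¹ := by rw [h5]
    _ = _ := by group

end Base

end Cfsg.Agent.HexGrow.Short
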