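import Cfsg.Agent.HexGrow.Short

/-!
# Growth for `G2(q)`, `3D4(q)`, phase (D), second part: the doubled short root groups commute with the doubled long root
groups at distance 1 and 3, and are canonical.
-/

set_option autoImplicit false

namespace Cfsg.Agent.HexGrow.Short2

open Cfsg.Agent.HexGrow.Defs Cfsg.Agent.HexGrow.Basic Cfsg.Agent.HexGrow.Tools Cfsg.Agent.HexGrow.LongTwo
  Cfsg.Agent.HexGrow.QOne Cfsg.Agent.HexGrow.Short
open scoped commutatorElement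

variable {G : Type*} [Group G] {t : G} {T : Subgroup G} {X : ZMod 12 → Subgroup G} {n : ZMod 12 → G}
  {V : ZMod 12 → Subgroup G} [Finite G]

/-- the basic vanishing lemma -/
theorem kill (E : Env t T X n) (L : Long2 t T X n V) {x : G} (hx : x ∈ N1 t X V 4)
    (hx3 : ∀ a ∈ X 3, a * x = x * a) (hxt : ∀ y ∈ VS t T X V 3, ⁅y, x⁆ * t = t * ⁅y, x⁆) (S : G → Prop)
    (nh : ∀ g : G → G, (∀ a ∈ X 3, g a ∈ X 4) → (∀ a ∈ X 3, ∀ b ∈ X 3, g (a * b) = g a * g b) →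
      (∀ h, S h → ∀ a ∈ X 3, g (h * a * h⁻¹) = h * g a * h⁻¹) → ∀ a ∈ X 3, g a = 1)
    (hS : ∀ h, S h → h ∈ T ∧ h * x * h⁻¹ = x) : ∀ y ∈ VS t T X V 3, y * x = x * y := by
  have D := VS_dbl E L
  have hN : ∀ y ∈ VS t T X V 3, y ∈ N1 t X V 4 := fun y hy => (mem_VS.mp hy).1
  have h1 := hom_kill D S nh (fun h hh => ⟨E.tT h (hS h hh).1, VS_T E L (hS h hh).1 3 (by decide)⟩)
    (fun y => ⁅y, x⁆) (fun y hy => L.fix 4 (by decide) _ (N1_comm E L (hN y hy) hx) (hxt y hy))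
    (fun y hy y' hy' => ?_) (fun a ha => ?_) (fun h hh y hy => ?_)
  · intro y hy
    exact commutatorElement_eq_one_iff_mul_comm.mp (h1 y hy)
  · show ⁅y * y', x⁆ = ⁅y, x⁆ * ⁅y', x⁆
    have h2 := N1_comm E L (hN y' hy') hx
    rw [comm_mul_left, (hN y hy).1 _ h2, mul_inv_cancel_right]
    exact L.ab 4 (by decide) _ h2 _ (N1_comm E L (hN y hy) hx)
  · exact commutatorElement_eq_one_iff_mul_comm.mpr (hx3 a ha)
  · show ⁅h * y * h⁻¹, x⁆ = h * ⁅y, x⁆ * h⁻¹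
    have h2 := (hS h hh).2
    calc ⁅h * y * h⁻¹, x⁆ = ⁅h * y * h⁻¹, h * x * h⁻¹⁆ := by rw [h2]
      _ = _ := by simp only [commutatorElement_def]; group

/-- the commutator with an element of `C(t)` commuting with `X 3` commutes with `t` -/
theorem comm_t (E : Env t T X n) (L : Long2 t T X n V) {x : G} (hx : x ∈ QQ X 4)
    (hx3 : ∀ a ∈ X 3, a * x = x * a) : ∀ y ∈ VS t T X V 3, ⁅y, x⁆ * t = t * ⁅y, x⁆ := by
  intro y hy
  have D := VS_dbl E L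
  have ha := D.br y hy
  have hV := (mem_VS.mp hy).1.2.1 x hx
  have hxt : x * t = t * x := t_sup E x (QQ_le X 4 hx)
  have e1 : t * y * t⁻¹ = ⁅t, y⁆ * y := by rw [commutatorElement_def]; group
  have e2 : t * ⁅y, x⁆ * t⁻¹ = ⁅t * y * t⁻¹, t * x * t⁻¹⁆ := by simp only [commutatorElement_def]; group
  have e3 : t * x * t⁻¹ = x := by rw [← hxt, mul_inv_cancel_right]
  rw [e1, e3, comm_mul_left] at e2
  have e4 : ⁅⁅t, y⁆, x⁆ = 1 := commutatorElement_eq_one_iff_mul_comm.mpr (hx3 _ ha)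
  have e5 := V4_QQ L _ hV _ ((le_QQ X 4).2.1 ha)
  rw [e4, mul_one, ← e5, mul_inv_cancel_right] at e2
  calc ⁅y, x⁆ * t = (t * ⁅y, x⁆ * t⁻¹) * t := by rw [e2]
    _ = _ := by group

/-- `VS 3` commutes with `X 2` -/
theorem VS3_X2 (E : Env t T X n) (L : Long2 t T X n V) : ∀ y ∈ VS t T X V 3, ∀ x ∈ X 2, y * x = x * y := by
  intro y hy x hx
  have hxQ : x ∈ QQ X 4 := (le_QQ X 4).1 hx
  have h3 : ∀ a ∈ X 3, a * x = x * a := fun a ha => (E.c1 2 x hx a ha).symm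
  refine kill E L (QQ_le_N1 E L hxQ) h3 (comm_t E L hxQ h3) (fun h => h ∈ T ∧ Cen h (X 2)) ?_ ?_ y hy
  · intro g g1 g2 g3
    exact E.nh1 3 (by decide) g g1 g2 (fun h hh hc => g3 h ⟨hh, hc⟩)
  · exact fun h hh => ⟨hh.1, hh.2 x hx⟩

/-- `VS 3` commutes with `X 6` -/
theorem VS3_X6 (E : Env t T X n) (L : Long2 t T X n V) : ∀ y ∈ VS t T X V 3, ∀ x ∈ X 6, y * x = x * y := by
  intro y hy x hx
  have hxQ : x ∈ QQ X 4 := (le_QQ X 4).2.2.2.2 hx
  have h3 : ∀ a ∈ X 3, a * x = x * a := fun a ha => E.c3 3 a ha x hx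
  refine kill E L (QQ_le_N1 E L hxQ) h3 (comm_t E L hxQ h3) (fun h => h ∈ T ∧ Cen h (X 6)) ?_ ?_ y hy
  · intro g g1 g2 g3
    exact E.nh2 3 (by decide) g g1 g2 (fun h hh hc => g3 h ⟨hh, hc⟩)
  · exact fun h hh => ⟨hh.1, hh.2 x hx⟩

/-- `VS 3` commutes with `V 6` -/
theorem VS3_V6 (E : Env t T X n) (L : Long2 t T X n V) : ∀ y ∈ VS t T X V 3, ∀ x ∈ V 6, y * x = x * y := by
  intro y hy x hx
  have h3 : ∀ a ∈ X 3, a * x = x * a := fun a ha => (L.near 6 3 (by decide) (by decide) x hx a ha).symm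
  have D := VS_dbl E L
  refine kill E L (V6_le_N1 L hx) h3 ?_ (fun h => h ∈ T ∧ Cen h (X 6)) ?_ ?_ y hy
  · intro y hy
    have ha := D.br y hy
    have hb := L.br 6 (by decide) x hx
    have hN := (mem_VS.mp hy).1
    have hV := N1_comm E L hN (V6_le_N1 L hx)
    have e1 : t * y * t⁻¹ = ⁅t, y⁆ * y := by rw [commutatorElement_def]; group
    have e1' : t * x * t⁻¹ = ⁅t, x⁆ * x := by rw [commutatorElement_def]; group
    have e2 : t * ⁅y, x⁆ * t⁻¹ = ⁅t * y * t⁻¹, t * x * t⁻¹⁆ := by simp only [commutatorElement_def]; group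
    rw [e1, e1'] at e2
    have c1 : y * ⁅t, x⁆ = ⁅t, x⁆ * y := VS3_X6 E L y hy _ hb
    have c2 : ⁅t, y⁆ * x = x * ⁅t, y⁆ := h3 _ ha
    have c3 : ⁅t, y⁆ * ⁅t, x⁆ = ⁅t, x⁆ * ⁅t, y⁆ := E.c3 3 _ ha _ hb
    have c4 := V4_QQ L _ hV _ ((le_QQ X 4).2.1 ha)
    have c5 := V4_QQ L _ hV _ ((le_QQ X 4).2.2.2.2 hb)
    have e3 : ⁅⁅t, y⁆ * y, ⁅t, x⁆ * x⁆ = ⁅y, x⁆ := by
      set a := ⁅t, y⁆ with had
      set b := ⁅t, x⁆ with hbd
      have c2' : a⁻¹ * x⁻¹ = x⁻¹ * a⁻¹ := by rw [← mul_inv_rev, ← mul_inv_rev, c2]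
      calc ⁅a * y, b * x⁆ = a * (y * b) * x * y⁻¹ * (a⁻¹ * x⁻¹) * b⁻¹ := by rw [commutatorElement_def]; group
        _ = a * (b * y) * x * y⁻¹ * (x⁻¹ * a⁻¹) * b⁻¹ := by rw [c1, c2']
        _ = a * b * ⁅y, x⁆ * a⁻¹ * b⁻¹ := by rw [commutatorElement_def]; group
        _ = a * (⁅y, x⁆ * b) * a⁻¹ * b⁻¹ := by rw [c5]; group
        _ = (a * ⁅y, x⁆) * b * a⁻¹ * b⁻¹ := by group
        _ = (⁅y, x⁆ * a) * b * a⁻¹ * b⁻¹ := by rw [c4]
        _ = ⁅y, x⁆ * (a * b) * (b * a)⁻¹ := by group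
        _ = ⁅y, x⁆ := by rw [c3]; group
    rw [e3] at e2
    calc ⁅y, x⁆ * t = (t * ⁅y, x⁆ * t⁻¹) * t := by rw [e2]
      _ = _ := by group
  · intro g g1 g2 g3
    exact E.nh2 3 (by decide) g g1 g2 (fun h hh hc => g3 h ⟨hh, hc⟩)
  · intro h hh
    exact ⟨hh.1, cen_of (long_dbl L (r := 6) (by decide)) (E.tT h hh.1) (E.Todd h hh.1)
      (L.TV h hh.1 6 (by decide)) hh.2 x hx⟩

/-- the other description of the doubled short root groups -/
def VS' (t : G) (T : Subgroup G) (X V : ZMod 12 → Subgroup G) (s : ZMod 12) : Subgroup G :=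
  N1 t X V (s - 1) ⊓ Subgroup.centralizer {h : G | h ∈ T ∧ Cen h (X s)}

omit [Finite G] in
theorem mem_VS' {s : ZMod 12} {g : G} : g ∈ VS' t T X V s ↔
    g ∈ N1 t X V (s - 1) ∧ ∀ h ∈ T, Cen h (X s) → h * g = g * h := by
  unfold VS'
  rw [Subgroup.mem_inf, Subgroup.mem_centralizer_iff]
  exact and_congr_right fun _ => ⟨fun h k hk hk' => h k ⟨hk, hk'⟩, fun h k hk => h k hk.1 hk.2⟩

omit [Finite G] in
theorem VS'_sh (t : G) (T : Subgroup G) (X V : ZMod 12 → Subgroup G) (c s : ZMod 12) :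
    VS' t T (sh c X) (sh c V) s = VS' t T X V (s + c) := by
  unfold VS'
  rw [N1_sh, show s - 1 + c = s + c - 1 by ring]
  rfl

theorem cen_n (E : Env t T X n) (k s : ZMod 12) {y : G} (hy : ∀ h ∈ T, Cen h (X s) → h * y = y * h) :
    ∀ h ∈ T, Cen h (X (2 * k + 6 - s)) → h * (n k * y * (n k)⁻¹) = (n k * y * (n k)⁻¹) * h := by
  intro h hT hc
  have h1 := inv_conj_mem_of_forall (E.nT k) h hT
  have h2 : Cen ((n k)⁻¹ * h * n k) (X s) := by
    intro a ha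
    have h3 := hc _ (E.nX k s a ha)
    calc (n k)⁻¹ * h * n k * a * ((n k)⁻¹ * h * n k)⁻¹ = (n k)⁻¹ * (h * (n k * a * (n k)⁻¹) * h⁻¹) * n k := by group
      _ = a := by rw [h3]; group
  have h3 := hy _ h1 h2
  calc h * (n k * y * (n k)⁻¹) = n k * (((n k)⁻¹ * h * n k) * y) * (n k)⁻¹ := by group
    _ = n k * (y * ((n k)⁻¹ * h * n k)) * (n k)⁻¹ := by rw [h3]
    _ = _ := by group

theorem VS_n (E : Env t T X n) (L : Long2 t T X n V) (k s : ZMod 12) (hs : ¬ Ev s) :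
    ∀ y ∈ VS t T X V s, n k * y * (n k)⁻¹ ∈ VS' t T X V (2 * k + 6 - s) := by
  intro y hy
  rw [mem_VS] at hy
  rw [mem_VS']
  refine ⟨?_, cen_n E k s hy.2⟩
  have := N1_n E L.toLong k (s + 1) (ev_succ hs) y hy.1
  rwa [show 2 * k + 6 - (s + 1) = 2 * k + 6 - s - 1 by ring] at this

theorem VS'_n (E : Env t T X n) (L : Long2 t T X n V) (k s : ZMod 12) (hs : ¬ Ev s) :
    ∀ y ∈ VS' t T X V s, n k * y * (n k)⁻¹ ∈ VS t T X V (2 * k + 6 - s) := by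
  intro y hy
  rw [mem_VS'] at hy
  rw [mem_VS]
  refine ⟨?_, cen_n E k s hy.2⟩
  have := N1_n E L.toLong k (s - 1) (ev_pred hs) y hy.1
  rwa [show 2 * k + 6 - (s - 1) = 2 * k + 6 - s + 1 by ring] at this

theorem dbl_T (E : Env t T X n) (L : Long2 t T X n V) : ∀ y ∈ VS t T X V 3, t * y * t⁻¹ ∈ VS t T X V 3 := by
  intro y hy
  have D := VS_dbl E L
  have : t * y * t⁻¹ = ⁅t, y⁆ * y := by rw [commutatorElement_def]; group
  rw [this]; exact mul_mem (D.le (D.br y hy)) hy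

theorem VS'_le (E : Env t T X n) (L : Long2 t T X n V) : VS' t T X V 3 ≤ VS t T X V 3 := by
  have D := VS_dbl E L
  obtain ⟨h3, hT3, hc3, hf3, hq3, hq4, hq5⟩ := E.tod 3 (by decide)
  -- first: up to `t`
  have hbr : ∀ y ∈ VS' t T X V 3, ⁅t, y⁆ ∈ X 3 := by
    intro y hy
    have h1 := D.br _ (VS'_n E L 0 3 (by decide) y hy)
    have h2 : ⁅t, n 0 * y * (n 0)⁻¹⁆ = n 0 * ⁅t, y⁆ * (n 0)⁻¹ := comm_conj (E.tn 0)
    rw [h2] at h1
    have h3 := nX' E 0 3 _ h1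
    rwa [show (n 0)⁻¹ * (n 0 * ⁅t, y⁆ * (n 0)⁻¹) * n 0 = ⁅t, y⁆ by group] at h3
  have hfix : ∀ y ∈ VS' t T X V 3, y * t = t * y → y ∈ X 3 := by
    intro y hy hyt
    have h1 := VS'_n E L 0 3 (by decide) y hy
    have h2 : ⁅t, n 0 * y * (n 0)⁻¹⁆ = n 0 * ⁅t, y⁆ * (n 0)⁻¹ := comm_conj (E.tn 0)
    rw [comm_one_iff.mpr hyt, mul_one, mul_inv_cancel] at h2
    have h3 := D.fix _ h1 (comm_one_iff.mp h2)
    have h4 := nX' E 0 3 _ h3
    rwa [show (n 0)⁻¹ * (n 0 * y * (n 0)⁻¹) * n 0 = y by group] at h4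
  have key : ∀ y ∈ VS' t T X V 3, y ∈ VS t T X V 3 ∨ y * t ∈ VS t T X V 3 := by
    intro y' hy'
    obtain ⟨y, hy, e⟩ := D.onto _ (hbr y' hy')
    have hc : (y⁻¹ * y') * t = t * (y⁻¹ * y') := by
      have h1 : t * y * t⁻¹ * y⁻¹ = t * y' * t⁻¹ * y'⁻¹ := by simpa [commutatorElement_def] using e
      have h3 : y⁻¹ * y' = t * (y⁻¹ * y') * t⁻¹ := by
        calc y⁻¹ * y' = y⁻¹ * (t * y' * t⁻¹ * y'⁻¹)⁻¹ * (t * y' * t⁻¹) := by group
          _ = y⁻¹ * (t * y * t⁻¹ * y⁻¹)⁻¹ * (t * y' * t⁻¹) := by rw [h1]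
          _ = t * (y⁻¹ * y') * t⁻¹ := by group
      calc y⁻¹ * y' * t = (t * (y⁻¹ * y') * t⁻¹) * t := by rw [← h3]
        _ = t * (y⁻¹ * y') := by group
    have comb : ∀ a, y * a = a * y → y' * a = a * y' → (y⁻¹ * y') * a = a * (y⁻¹ * y') := by
      intro a h1 h2
      have h1' : y⁻¹ * a = a * y⁻¹ := by
        calc y⁻¹ * a = y⁻¹ * (a * y) * y⁻¹ := by group
          _ = y⁻¹ * (y * a) * y⁻¹ := by rw [h1]
          _ = a * y⁻¹ := by group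
      calc (y⁻¹ * y') * a = y⁻¹ * (y' * a) := by group
        _ = y⁻¹ * (a * y') := by rw [h2]
        _ = (y⁻¹ * a) * y' := by group
        _ = (a * y⁻¹) * y' := by rw [h1']
        _ = _ := by group
    have h2 : ∀ a ∈ X (3 - 1), (y⁻¹ * y') * a = a * (y⁻¹ * y') := by
      intro a ha
      have ha : a ∈ X 2 := ha
      refine comb a (VS3_X2 E L y hy a ha) ?_
      exact (mem_VS'.mp hy').1.1 a (L.le 2 (by decide) ha)
    have h4 : ∀ a ∈ X (3 + 1), (y⁻¹ * y') * a = a * (y⁻¹ * y') := by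
      intro a ha
      have ha : a ∈ X 4 := ha
      refine comb a ((mem_VS.mp hy).1.1 a (L.le 4 (by decide) ha)) ?_
      have h5 := VS3_X2 E L _ (VS'_n E L 0 3 (by decide) y' hy') _ (E.nX 0 4 a ha)
      calc y' * a = (n 0)⁻¹ * ((n 0 * y' * (n 0)⁻¹) * (n 0 * a * (n 0)⁻¹)) * n 0 := by group
        _ = (n 0)⁻¹ * ((n 0 * a * (n 0)⁻¹) * (n 0 * y' * (n 0)⁻¹)) * n 0 := by rw [h5]
        _ = a * y' := by group
    have h33 : ∀ a ∈ X 3, ⁅y⁻¹ * y', a⁆ ∈ X (3 - 1) ⊔ X (3 + 1) := by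
      intro a ha
      have h5 := dbl_ab D _ (VS'_n E L 0 3 (by decide) y' hy') _ (D.le (E.nX 0 3 a ha))
      have h6 : y' * a = a * y' := by
        calc y' * a = (n 0)⁻¹ * ((n 0 * y' * (n 0)⁻¹) * (n 0 * a * (n 0)⁻¹)) * n 0 := by group
          _ = (n 0)⁻¹ * ((n 0 * a * (n 0)⁻¹) * (n 0 * y' * (n 0)⁻¹)) * n 0 := by rw [h5]
          _ = a * y' := by group
      rw [commutatorElement_eq_one_iff_mul_comm.mpr (comb a (dbl_ab D y hy a (D.le ha)) h6)]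
      exact one_mem _
    have hcen : h3 * (y⁻¹ * y') * h3⁻¹ = y⁻¹ * y' := by
      have h5 := (mem_VS.mp hy).2 h3 hT3 hc3
      have h6 := (mem_VS'.mp hy').2 h3 hT3 hc3
      have := comb h3 h5.symm h6.symm
      rw [← this, mul_inv_cancel_right]
    rcases E.cW 3 (by decide) _ hc h2 h4 h33 with h5 | h5
    · left
      have h6 := hq3 _ h5 hcen
      have : y' = y * (y⁻¹ * y') := by group
      rw [this]; exact mul_mem hy (D.le h6)
    · right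
      have ht3 := E.tT h3 hT3
      have h6 : h3 * (t * (y⁻¹ * y')) * h3⁻¹ = t * (y⁻¹ * y') := by
        calc h3 * (t * (y⁻¹ * y')) * h3⁻¹ = (h3 * t) * (y⁻¹ * y') * h3⁻¹ := by group
          _ = (t * h3) * (y⁻¹ * y') * h3⁻¹ := by rw [ht3]
          _ = t * (h3 * (y⁻¹ * y') * h3⁻¹) := by group
          _ = _ := by rw [hcen]
      have h7 := hq3 _ h5 h6
      have : y' * t = y * (t * (y⁻¹ * y')) := by rw [← hc]; group
      rw [this]; exact mul_mem hy (D.le h7)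
  -- second: remove `t`
  obtain ⟨h, hT, hf⟩ := E.tfp 3
  have ht := E.tT h hT
  have hTY : ∀ y ∈ VS' t T X V 3, h * y * h⁻¹ ∈ VS' t T X V 3 := by
    intro y hy
    rw [mem_VS'] at hy ⊢
    refine ⟨N1_T E L.toLong hT 2 (by decide) y hy.1, fun k hk hkc => ?_⟩
    have h5 := E.Tab k hk h hT
    have h6 := hy.2 k hk hkc
    have h7 : k * h⁻¹ = h⁻¹ * k := by
      calc k * h⁻¹ = h⁻¹ * (h * k) * h⁻¹ := by group
        _ = h⁻¹ * (k * h) * h⁻¹ := by rw [h5]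
        _ = h⁻¹ * k := by group
    calc k * (h * y * h⁻¹) = (k * h) * y * h⁻¹ := by group
      _ = (h * k) * y * h⁻¹ := by rw [h5]
      _ = h * (k * y) * h⁻¹ := by group
      _ = h * (y * k) * h⁻¹ := by rw [h6]
      _ = h * y * (k * h⁻¹) := by group
      _ = h * y * (h⁻¹ * k) := by rw [h7]
      _ = _ := by group
  have hfY : Fpf h (VS' t T X V 3) := by
    intro y hy e
    have h1 : h * ⁅t, y⁆ * h⁻¹ = ⁅t, y⁆ := by rw [← comm_conj ht, e]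
    have h2 := hf _ (hbr y hy) h1
    exact hf y (hfix y hy (comm_one_iff.mp h2)) e
  intro y' hy'
  obtain ⟨w, hw, e⟩ := exists_of_fpf_nonab (A := VS' t T X V 3) (h := h) hTY hfY y' hy'
  rw [← e]
  rcases key w hw with h1 | h1
  · exact mul_mem (inv_mem h1) (VS_T E L hT 3 (by decide) w h1)
  · -- `w = v t`
    set v := w * t with hv
    have hwv : w = v * t := by
      rw [hv]
      calc w = w * 1 := by group
        _ = w * (t * t) := by rw [E.tt]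
        _ = _ := by group
    have h2 : w⁻¹ * (h * w * h⁻¹) = t * (v⁻¹ * (h * v * h⁻¹)) * t⁻¹ := by
      rw [hwv]
      have h3 : t * h⁻¹ = h⁻¹ * t := by
        calc t * h⁻¹ = h⁻¹ * (h * t) * h⁻¹ := by group
          _ = h⁻¹ * (t * h) * h⁻¹ := by rw [ht]
          _ = _ := by group
      calc (v * t)⁻¹ * (h * (v * t) * h⁻¹) = t⁻¹ * v⁻¹ * h * v * (t * h⁻¹) := by group
        _ = t⁻¹ * v⁻¹ * h * v * (h⁻¹ * t) := by rw [h3]
        _ = t * (v⁻¹ * (h * v * h⁻¹)) * t⁻¹ := by rw [tinv E]; group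
    rw [h2]
    exact dbl_T E L _ (mul_mem (inv_mem h1) (VS_T E L hT 3 (by decide) v h1))

theorem VS_eq_VS'_base (E : Env t T X n) (L : Long2 t T X n V) : VS t T X V 3 = VS' t T X V 3 := by
  apply le_antisymm _ (VS'_le E L)
  -- `n 0` normalises `VS 3`
  have h1 : ∀ y ∈ VS t T X V 3, n 0 * y * (n 0)⁻¹ ∈ VS t T X V 3 := fun y hy =>
    VS'_le E L (VS_n E L 0 3 (by decide) y hy)
  have h2 := inv_conj_mem_of_forall h1
  intro y hy
  have h3 := VS_n E L 0 3 (by decide) _ (h2 y hy)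
  rwa [show n 0 * ((n 0)⁻¹ * y * n 0) * (n 0)⁻¹ = y by group] at h3

theorem ev_sub3 {s : ZMod 12} (hs : ¬ Ev s) : Ev (s - 3) := by revert s; decide

theorem VS_eq_VS' (E : Env t T X n) (L : Long2 t T X n V) (s : ZMod 12) (hs : ¬ Ev s) :
    VS t T X V s = VS' t T X V s := by
  have := VS_eq_VS'_base (env_sh E (ev_sub3 hs)) (long2_sh L (ev_sub3 hs))
  rwa [VS_sh, VS'_sh, show (3 : ZMod 12) + (s - 3) = s by ring] at this

end Cfsg.Agent.HexGrow.Short2
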