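import Cfsg.Agent.HexGrow.Basic

/-!
# Growth for `G2(q)`, `3D4(q)`: elementary group theory
-/

set_option autoImplicit false

namespace Cfsg.Agent.HexGrow.Tools

open Cfsg.Agent.HexGrow.Defs Cfsg.Agent.HexGrow.Basic
open scoped commutatorElement

variable {G : Type*} [Group G]

theorem mem_sup_of_norm {A B : Subgroup G} (h : ∀ b ∈ B, ∀ a ∈ A, b * a * b⁻¹ ∈ A) {g : G} (hg : g ∈ A ⊔ B) :
    ∃ a ∈ A, ∃ b ∈ B, a * b = g := by
  let S : Subgroup G :=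
    { carrier := {g | ∃ a ∈ A, ∃ b ∈ B, a * b = g}
      one_mem' := ⟨1, A.one_mem, 1, B.one_mem, by simp⟩
      mul_mem' := by
        rintro _ _ ⟨a, ha, b, hb, rfl⟩ ⟨a', ha', b', hb', rfl⟩
        exact ⟨a * (b * a' * b⁻¹), A.mul_mem ha (h b hb a' ha'), b * b', B.mul_mem hb hb', by group⟩
      inv_mem' := by
        rintro _ ⟨a, ha, b, hb, rfl⟩
        refine ⟨b⁻¹ * a⁻¹ * b⁻¹⁻¹, h _ (B.inv_mem hb) _ (A.inv_mem ha), b⁻¹, B.inv_mem hb, by group⟩ }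
  have : A ⊔ B ≤ S := sup_le (fun a ha => ⟨a, ha, 1, B.one_mem, by simp⟩) (fun b hb => ⟨1, A.one_mem, b, hb, by simp⟩)
  exact this hg

theorem mem_sup_of_comm {A B : Subgroup G} (h : ∀ a ∈ A, ∀ b ∈ B, a * b = b * a) {g : G} (hg : g ∈ A ⊔ B) :
    ∃ a ∈ A, ∃ b ∈ B, a * b = g :=
  mem_sup_of_norm (fun b hb a ha => by rw [← h a ha b hb, mul_inv_cancel_right]; exact ha) hg

/-- elements commuting with the generators commute with the join -/
theorem comm_sup {A B : Subgroup G} {g : G} (hA : ∀ a ∈ A, g * a = a * g) (hB : ∀ a ∈ B, g * a = a * g) :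
    ∀ a ∈ A ⊔ B, g * a = a * g := by
  have : A ⊔ B ≤ Subgroup.centralizer {g} := by
    refine sup_le (fun a ha => ?_) (fun a ha => ?_)
    · rw [Subgroup.mem_centralizer_singleton_iff]; exact (hA a ha).symm
    · rw [Subgroup.mem_centralizer_singleton_iff]; exact (hB a ha).symm
  intro a ha
  have := this ha
  rw [Subgroup.mem_centralizer_singleton_iff] at this
  exact this.symm

/-- conjugation maps a join into `S` if it does so on the pieces -/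
theorem conj_sup {A B S : Subgroup G} {g : G} (hA : ∀ a ∈ A, g * a * g⁻¹ ∈ S) (hB : ∀ a ∈ B, g * a * g⁻¹ ∈ S) :
    ∀ a ∈ A ⊔ B, g * a * g⁻¹ ∈ S := by
  have : A ⊔ B ≤ S.comap (MulAut.conj g).toMonoidHom := by
    refine sup_le (fun a ha => ?_) (fun a ha => ?_)
    · simpa using hA a ha
    · simpa using hB a ha
  intro a ha
  simpa using this ha

theorem comm_QQ {X : ZMod 12 → Subgroup G} {r : ZMod 12} {g : G} (h1 : ∀ a ∈ X (r - 2), g * a = a * g)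
    (h2 : ∀ a ∈ X (r - 1), g * a = a * g) (h3 : ∀ a ∈ X r, g * a = a * g) (h4 : ∀ a ∈ X (r + 1), g * a = a * g)
    (h5 : ∀ a ∈ X (r + 2), g * a = a * g) : ∀ a ∈ QQ X r, g * a = a * g :=
  comm_sup (comm_sup (comm_sup (comm_sup h1 h2) h3) h4) h5

theorem conj_QQ {X : ZMod 12 → Subgroup G} {r : ZMod 12} {S : Subgroup G} {g : G}
    (h1 : ∀ a ∈ X (r - 2), g * a * g⁻¹ ∈ S) (h2 : ∀ a ∈ X (r - 1), g * a * g⁻¹ ∈ S)
    (h3 : ∀ a ∈ X r, g * a * g⁻¹ ∈ S) (h4 : ∀ a ∈ X (r + 1), g * a * g⁻¹ ∈ S)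
    (h5 : ∀ a ∈ X (r + 2), g * a * g⁻¹ ∈ S) : ∀ a ∈ QQ X r, g * a * g⁻¹ ∈ S :=
  conj_sup (conj_sup (conj_sup (conj_sup h1 h2) h3) h4) h5

theorem le_QQ (X : ZMod 12 → Subgroup G) (r : ZMod 12) :
    X (r - 2) ≤ QQ X r ∧ X (r - 1) ≤ QQ X r ∧ X r ≤ QQ X r ∧ X (r + 1) ≤ QQ X r ∧ X (r + 2) ≤ QQ X r := by
  unfold QQ
  refine ⟨?_, ?_, ?_, ?_, ?_⟩
  · exact le_sup_of_le_left (le_sup_of_le_left (le_sup_of_le_left le_sup_left))
  · exact le_sup_of_le_left (le_sup_of_le_left (le_sup_of_le_left le_sup_right))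
  · exact le_sup_of_le_left (le_sup_of_le_left le_sup_right)
  · exact le_sup_of_le_left le_sup_right
  · exact le_sup_right

/-- if `[g, A] ≤ S` and `A ≤ S` then `g` conjugates `A` into `S` -/
theorem conj_mem_of_comm {S : Subgroup G} {g a : G} (h : ⁅g, a⁆ ∈ S) (ha : a ∈ S) : g * a * g⁻¹ ∈ S := by
  have : g * a * g⁻¹ = ⁅g, a⁆ * a := by rw [commutatorElement_def]; group
  rw [this]; exact S.mul_mem h ha

theorem conj_mem_of_comm' {S : Subgroup G} {g a : G} (h : ⁅a, g⁆ ∈ S) (ha : a ∈ S) : g * a * g⁻¹ ∈ S := by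
  apply conj_mem_of_comm _ ha
  rw [← commutatorElement_inv]; exact S.inv_mem h

theorem conj_mem_of_commute {S : Subgroup G} {g a : G} (h : g * a = a * g) (ha : a ∈ S) : g * a * g⁻¹ ∈ S := by
  rw [h, mul_inv_cancel_right]; exact ha

theorem inv_conj_mem_of_forall [Finite G] {A : Subgroup G} {g : G} (h : ∀ a ∈ A, g * a * g⁻¹ ∈ A) :
    ∀ a ∈ A, g⁻¹ * a * g ∈ A := by
  intro a ha
  have hk : ∀ k : ℕ, g ^ k * a * (g ^ k)⁻¹ ∈ A := by
    intro k
    induction k with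
    | zero => simpa using ha
    | succ k ih =>
      have := h _ ih
      rwa [show g * (g ^ k * a * (g ^ k)⁻¹) * g⁻¹ = g ^ (k + 1) * a * (g ^ (k + 1))⁻¹ by
        rw [pow_succ']; group] at this
  have hpos := orderOf_pos g
  have e : g ^ (orderOf g - 1) = g⁻¹ := by
    rw [eq_inv_iff_mul_eq_one, ← pow_succ, Nat.sub_add_cancel hpos, pow_orderOf_eq_one]
  have := hk (orderOf g - 1)
  rwa [e, inv_inv] at this

/-- a fixed point free element moves every element of a finite abelian group `A` in the form `y ↦ y⁻¹ y^h` -/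
theorem exists_of_fpf_nonab [Finite G] {A : Subgroup G} {h : G}
    (hn : ∀ a ∈ A, h * a * h⁻¹ ∈ A) (hf : Fpf h A) : ∀ a ∈ A, ∃ y ∈ A, y⁻¹ * (h * y * h⁻¹) = a := by
  let f : A → A := fun y => ⟨(y : G)⁻¹ * (h * y * h⁻¹), A.mul_mem (A.inv_mem y.2) (hn _ y.2)⟩
  have hinj : Function.Injective f := by
    rintro ⟨y, hy⟩ ⟨z, hz⟩ e
    have e' : y⁻¹ * (h * y * h⁻¹) = z⁻¹ * (h * z * h⁻¹) := congrArg Subtype.val e
    have : h * (y * z⁻¹) * h⁻¹ = y * z⁻¹ := by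
      have c1 : h * y * h⁻¹ = y * z⁻¹ * (h * z * h⁻¹) := by
        have := congrArg (fun u => y * u) e'
        simpa [mul_assoc] using this
      calc h * (y * z⁻¹) * h⁻¹ = (h * y * h⁻¹) * (h * z * h⁻¹)⁻¹ := by group
        _ = y * z⁻¹ := by rw [c1]; group
    have h1 := hf _ (A.mul_mem hy (A.inv_mem hz)) this
    apply Subtype.ext
    exact mul_inv_eq_one.mp h1
  have hsurj : Function.Surjective f := Finite.surjective_of_injective hinj
  intro a ha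
  obtain ⟨⟨y, hy⟩, e⟩ := hsurj ⟨a, ha⟩
  exact ⟨y, hy, congrArg Subtype.val e⟩

theorem exists_of_fpf [Finite G] {A : Subgroup G} {h : G} (_hab : ∀ a ∈ A, ∀ b ∈ A, a * b = b * a)
    (hn : ∀ a ∈ A, h * a * h⁻¹ ∈ A) (hf : Fpf h A) : ∀ a ∈ A, ∃ y ∈ A, y⁻¹ * (h * y * h⁻¹) = a :=
  exists_of_fpf_nonab hn hf

end Cfsg.Agent.HexGrow.Tools
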