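import Cfsg.Agent.HexGrow.Short2

/-!
# Growth for `G2(q)`, `3D4(q)`: towers of doubles
-/

set_option autoImplicit false

namespace Cfsg.Agent.HexGrow.Tower

open Cfsg.Agent.HexGrow.Defs Cfsg.Agent.HexGrow.Basic Cfsg.Agent.HexGrow.Tools Cfsg.Agent.HexGrow.LongTwo
  Cfsg.Agent.HexGrow.QOne Cfsg.Agent.HexGrow.Short Cfsg.Agent.HexGrow.Short2
open scoped commutatorElement

variable {G : Type*} [Group G]

/-- `M` is `t`-invariant with `C_M(t) ≤ A` and all involutions of `t M` conjugate to `t` under `M`. -/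
structure Tow (t : G) (A M : Subgroup G) : Prop where
  le : A ≤ M
  inv : ∀ m ∈ M, t * m * t⁻¹ ∈ M
  cent : ∀ m ∈ M, m * t = t * m → m ∈ A
  com : ∀ a ∈ A, a * t = t * a
  good : ∀ m ∈ M, (t * m) * (t * m) = 1 → ∃ g ∈ M, g * t * g⁻¹ = t * m

theorem tow_dbl {t : G} {A V : Subgroup G} (D : Dbl t A V) (hA : ∀ a ∈ A, a * t = t * a) (htt : t * t = 1) :
    Tow t A V where
  le := D.le
  inv m hm := conj_mem_of_comm (D.le (D.br m hm)) hm
  cent := D.fix
  com := hA
  good m hm h := by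
    have hti : t⁻¹ = t := inv_eq_of_mul_eq_one_left htt
    have hmm := D.sq m hm
    have h1 : m * t = t * m := by
      calc m * t = (t * t) * (m * t) * (m * m) := by rw [htt, hmm]; group
        _ = t * ((t * m) * (t * m)) * m := by group
        _ = t * m := by rw [h]; group
    obtain ⟨w, hw, e⟩ := D.onto m (D.fix m hm h1)
    refine ⟨w, hw, ?_⟩
    rw [← e, commutatorElement_def, hti]
    calc w * t * w⁻¹ = (t * t) * w * t * w⁻¹ := by rw [htt, one_mul]
      _ = _ := by group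

theorem tow_step {t : G} {A0 M0 A V : Subgroup G} (H : Tow t A0 M0) (D : Dbl t A V) (hA : ∀ a ∈ A, a * t = t * a)
    (htt : t * t = 1) (hn : ∀ v ∈ V, ∀ m ∈ M0, v * m * v⁻¹ ∈ M0) (dis : ∀ a ∈ A, a ∈ A0 → a = 1) :
    Tow t (A0 ⊔ A) (M0 ⊔ V) := by
  have hti : t⁻¹ = t := inv_eq_of_mul_eq_one_left htt
  have hn' : ∀ v ∈ V, ∀ m ∈ M0, v⁻¹ * m * v ∈ M0 := fun v hv m hm => by
    have := hn v⁻¹ (inv_mem hv) m hm
    rwa [inv_inv] at this
  refine ⟨sup_le (H.le.trans le_sup_left) (D.le.trans le_sup_right), ?_, ?_, ?_, ?_⟩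
  · exact conj_sup (fun a ha => le_sup_left (b := V) (H.inv a ha))
      (fun a ha => le_sup_right (a := M0) (conj_mem_of_comm (D.le (D.br a ha)) ha))
  · intro g hg hgt
    obtain ⟨m, hm, v, hv, rfl⟩ := mem_sup_of_norm hn hg
    have h1 : t * (m * v) * t⁻¹ = m * v := by rw [← hgt, mul_inv_cancel_right]
    have h2 : t * v * t⁻¹ = ⁅t, v⁆ * v := by rw [commutatorElement_def]; group
    have h3 : (t * m * t⁻¹) * (⁅t, v⁆ * v) = m * v := by
      rw [← h2, ← h1]; group
    have h4 : (t * m * t⁻¹) * ⁅t, v⁆ = m := by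
      have : ((t * m * t⁻¹) * ⁅t, v⁆) * v = m * v := by rw [← h3]; group
      exact mul_right_cancel this
    have h5 : ⁅t, v⁆ ∈ M0 := by
      have : ⁅t, v⁆ = (t * m * t⁻¹)⁻¹ * m := by rw [eq_inv_mul_iff_mul_eq]; exact h4
      rw [this]; exact mul_mem (inv_mem (H.inv m hm)) hm
    have h6 := D.br v hv
    have h7 := dis _ h6 (H.cent _ h5 (hA _ h6))
    have hvt : v * t = t * v := comm_one_iff.mp h7
    have hmt : m * t = t * m := by
      rw [h7, mul_one] at h4
      calc m * t = (t * m * t⁻¹) * t := by rw [h4]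
        _ = t * m := by group
    exact mul_mem (le_sup_left (b := A) (H.cent m hm hmt)) (le_sup_right (a := A0) (D.fix v hv hvt))
  · intro a ha
    have : A0 ⊔ A ≤ Subgroup.centralizer {t} := by
      refine sup_le (fun a ha => ?_) (fun a ha => ?_)
      · rw [Subgroup.mem_centralizer_singleton_iff]; exact H.com a ha
      · rw [Subgroup.mem_centralizer_singleton_iff]; exact hA a ha
    have := this ha
    rwa [Subgroup.mem_centralizer_singleton_iff] at this
  · intro g hg hgg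
    obtain ⟨m, hm, v, hv, rfl⟩ := mem_sup_of_norm hn hg
    have hvv := D.sq v hv
    have h2 : t * v * t⁻¹ = ⁅t, v⁆ * v := by rw [commutatorElement_def]; group
    have h3 : (t * m * t⁻¹) * ⁅t, v⁆ * (v * m * v⁻¹) = 1 := by
      calc (t * m * t⁻¹) * ⁅t, v⁆ * (v * m * v⁻¹)
          = (t * m * t⁻¹) * (⁅t, v⁆ * v) * m * v * (v * v)⁻¹ := by group
        _ = (t * m * t⁻¹) * (t * v * t⁻¹) * m * v := by rw [h2, hvv]; group
        _ = t * m * v * t⁻¹ * m * v := by group
        _ = (t * (m * v)) * (t * (m * v)) := by rw [hti]; group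
        _ = 1 := hgg
    have h5 : ⁅t, v⁆ ∈ M0 := by
      have : ⁅t, v⁆ = (t * m * t⁻¹)⁻¹ * ((t * m * t⁻¹) * ⁅t, v⁆ * (v * m * v⁻¹)) * (v * m * v⁻¹)⁻¹ := by group
      rw [this, h3, mul_one]
      exact mul_mem (inv_mem (H.inv m hm)) (inv_mem (hn v hv m hm))
    have h6 := D.br v hv
    have h7 := dis _ h6 (H.cent _ h5 (hA _ h6))
    have hvA := D.fix v hv (comm_one_iff.mp h7)
    obtain ⟨w, hw, e⟩ := D.onto v hvA
    have h8 : w * t * w⁻¹ = t * v := by
      rw [← e, commutatorElement_def, hti]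
      calc w * t * w⁻¹ = (t * t) * w * t * w⁻¹ := by rw [htt, one_mul]
        _ = _ := by group
    have hm' : w⁻¹ * (v⁻¹ * m * v) * w ∈ M0 := hn' w hw _ (hn' v hv m hm)
    have h9 : t * (w⁻¹ * (v⁻¹ * m * v) * w) = w⁻¹ * (t * (m * v)) * w := by
      have : t = w⁻¹ * (t * v) * w := by rw [← h8]; group
      calc t * (w⁻¹ * (v⁻¹ * m * v) * w) = (w⁻¹ * (t * v) * w) * (w⁻¹ * (v⁻¹ * m * v) * w) := by rw [← this]
        _ = _ := by group
    obtain ⟨g, hg, e2⟩ := H.good _ hm' (by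
      rw [h9]
      calc w⁻¹ * (t * (m * v)) * w * (w⁻¹ * (t * (m * v)) * w) = w⁻¹ * ((t * (m * v)) * (t * (m * v))) * w := by group
        _ = 1 := by rw [hgg]; group)
    refine ⟨w * g, mul_mem (le_sup_right (a := M0) hw) (le_sup_left (b := V) hg), ?_⟩
    calc w * g * t * (w * g)⁻¹ = w * (g * t * g⁻¹) * w⁻¹ := by group
      _ = t * (m * v) := by rw [e2, h9]; group

/-- a double meets a tower trivially -/
theorem tow_dis {t : G} {A0 M0 A V : Subgroup G} (H : Tow t A0 M0) (D : Dbl t A V) (hA : ∀ a ∈ A, a * t = t * a)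
    (dis : ∀ a ∈ A, a ∈ A0 → a = 1) : ∀ v ∈ V, v ∈ M0 → v = 1 := by
  intro v hv hm
  have h5 : ⁅t, v⁆ ∈ M0 := by rw [commutatorElement_def]; exact mul_mem (H.inv v hm) (inv_mem hm)
  have h6 := D.br v hv
  have h7 := dis _ h6 (H.cent _ h5 (hA _ h6))
  have hvt : v * t = t * v := comm_one_iff.mp h7
  exact dis v (D.fix v hv hvt) (H.cent v hm hvt)

end Cfsg.Agent.HexGrow.Tower
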