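import Mathlib

/-!
# S1778, types `G2(q)` and `3D4(q)`: step (2), an additive lemma in characteristic two

Additive maps `φ, ψ` of a field of characteristic two with more than two elements, such that
`φ (s t) = s ψ t` for all `s = a² b + a b²`, are the same scalar; if the field has four elements one needs that
`ψ` has odd order.
-/

set_option autoImplicit false

namespace Cfsg.Agent.HexGrow.TwoAlg

variable {F : Type*} [Field F]

theorem scal (h2 : ∀ a : F, a + a = 0) {ω : F} (h0 : ω ≠ 0) (h1 : ω ≠ 1) {φ ψ : F → F}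
    (hψ : ∀ a b, ψ (a + b) = ψ a + ψ b) (hinj : ∀ a, ψ a = 0 → a = 0)
    (hrel : ∀ a b t, φ ((a ^ 2 * b + a * b ^ 2) * t) = (a ^ 2 * b + a * b ^ 2) * ψ t)
    (hodd : (∀ t, ψ (ψ t) = t) → ∀ t, ψ t = t) : ∃ l, l ≠ 0 ∧ (∀ t, φ t = l * t) ∧ ∀ t, ψ t = l * t := by
  have htwo : (2 : F) = 0 := by rw [← one_add_one_eq_two]; exact h2 1
  have ψ0 : ψ 0 = 0 := by
    have := hψ 0 0
    rw [add_zero] at this
    exact left_eq_add.1 this
  have eqadd : ∀ {a b : F}, a + b = 0 → a = b := by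
    intro a b hab
    have h3 := h2 b
    exact add_right_cancel (hab.trans h3.symm)
  -- the subfield `B` of scalars of `ψ`
  let B : F → Prop := fun c => ∀ u, ψ (c * u) = c * ψ u
  have B1 : B 1 := fun u => by rw [one_mul, one_mul]
  have Badd : ∀ {a b}, B a → B b → B (a + b) := fun {a b} ha hb u => by
    rw [add_mul, hψ, ha, hb, add_mul]
  have Bmul : ∀ {a b}, B a → B b → B (a * b) := fun {a b} ha hb u => by
    rw [mul_assoc, ha, hb, mul_assoc]
  have Binv : ∀ {a}, B a → B a⁻¹ := fun {a} ha u => by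
    by_cases h : a = 0
    · rw [h, inv_zero, zero_mul, ψ0, zero_mul]
    · have h3 := ha (a⁻¹ * u)
      rw [mul_inv_cancel_left₀ h] at h3
      rw [h3, inv_mul_cancel_left₀ h]
  set s₀ := ω ^ 2 + ω with hs₀
  have hs : s₀ ≠ 0 := by
    intro h
    have h3 : ω * (ω + 1) = 0 := by rw [← h, hs₀]; ring
    rcases mul_eq_zero.1 h3 with h4 | h4
    · exact h0 h4
    · exact h1 (eqadd h4)
  have rel1 : ∀ a t, φ ((a ^ 2 + a) * t) = (a ^ 2 + a) * ψ t := by
    intro a t
    have := hrel a 1 t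
    rw [one_pow, mul_one, mul_one] at this
    exact this
  -- cubes
  have cube : ∀ l, B (l ^ 3) := by
    intro l u
    have h3 := hrel (l * ω) l u
    have h4 := rel1 ω (l ^ 3 * u)
    have e1 : ((l * ω) ^ 2 * l + l * ω * l ^ 2) * u = (ω ^ 2 + ω) * (l ^ 3 * u) := by ring
    rw [e1, h4] at h3
    have e2 : ((l * ω) ^ 2 * l + l * ω * l ^ 2) * ψ u = (ω ^ 2 + ω) * (l ^ 3 * ψ u) := by ring
    rw [e2] at h3
    exact mul_left_cancel₀ hs h3
  -- ratios
  have ratio : ∀ a, B ((a ^ 2 + a) / s₀) := by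
    intro a u
    have h3 := rel1 a u
    have h4 := rel1 ω ((a ^ 2 + a) / s₀ * u)
    rw [← hs₀] at h4
    have e1 : s₀ * ((a ^ 2 + a) / s₀ * u) = (a ^ 2 + a) * u := by field_simp
    rw [e1, h3] at h4
    have e2 : s₀ * ((a ^ 2 + a) / s₀ * ψ u) = (a ^ 2 + a) * ψ u := by field_simp
    exact (mul_left_cancel₀ hs (e2.trans h4)).symm
  have Bs₀ : B s₀ := by
    have h3 := ratio (ω ^ 2)
    have e1 : ((ω ^ 2) ^ 2 + ω ^ 2) / s₀ = s₀ := by
      rw [div_eq_iff hs, hs₀]
      have : (ω ^ 2 + ω) * (ω ^ 2 + ω) = (ω ^ 2) ^ 2 + ω ^ 2 + 2 * (ω ^ 2 * ω) := by ring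
      rw [this, htwo, zero_mul, add_zero]
    rwa [e1] at h3
  have Bs : ∀ a, B (a ^ 2 + a) := by
    intro a
    have h3 := Bmul (ratio a) Bs₀
    rwa [div_mul_cancel₀ _ hs] at h3
  have Bmain : ∀ a, a ^ 2 + a ≠ 1 → B a := by
    intro a ha
    set c := a ^ 2 + a with hc
    have Bc : B c := Bs a
    have e1 : a ^ 3 + c = (1 + c) * a := by
      have : a ^ 3 + (a ^ 2 + a) = (1 + (a ^ 2 + a)) * a + (a ^ 2 + a) * 0 := by ring
      rw [hc, this, mul_zero, add_zero]
    have h3 : B ((1 + c) * a) := by rw [← e1]; exact Badd (cube a) Bc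
    have h4 : (1 + c) ≠ 0 := fun h => ha (eqadd h).symm
    have h5 := Bmul (Binv (Badd B1 Bc)) h3
    rwa [inv_mul_cancel_left₀ h4] at h5
  have φψ : ∀ t, ψ (s₀⁻¹ * t) = s₀⁻¹ * ψ t → φ t = ψ t := by
    intro t ht
    have h3 := rel1 ω (s₀⁻¹ * t)
    rw [← hs₀, ht, mul_inv_cancel_left₀ hs, mul_inv_cancel_left₀ hs] at h3
    exact h3
  have hφψ : ∀ t, φ t = ψ t := fun t => φψ t (Binv Bs₀ t)
  have hl : ψ 1 ≠ 0 := fun h => one_ne_zero (hinj 1 h)
  refine ⟨ψ 1, hl, ?_⟩
  suffices hB : ∀ t, ψ t = ψ 1 * t from ⟨fun t => (hφψ t).trans (hB t), hB⟩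
  have fac : ∀ a : F, a ≠ 0 → a ≠ 1 → a ^ 2 + a ≠ 0 := by
    intro a ha0 ha1 h
    have h3 : a * (a + 1) = 0 := by rw [← h]; ring
    rcases mul_eq_zero.1 h3 with h4 | h4
    · exact ha0 h4
    · exact ha1 (eqadd h4)
  by_cases hρ : ∃ ρ : F, ρ ≠ 0 ∧ ρ ≠ 1 ∧ ρ ^ 2 + ρ ≠ 1
  · -- everything is in `B`
    obtain ⟨ρ, hρ0, hρ1, hρ⟩ := hρ
    have all : ∀ a, B a := by
      intro a
      by_cases ha : a ^ 2 + a = 1
      · have h3 : B (a + ρ) := by
          refine Bmain _ fun h4 => fac ρ hρ0 hρ1 ?_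
          have e1 : (a + ρ) ^ 2 + (a + ρ) = (a ^ 2 + a) + (ρ ^ 2 + ρ) + 2 * (a * ρ) := by ring
          rw [e1, htwo, zero_mul, add_zero, ha] at h4
          exact left_eq_add.1 h4.symm
        have h5 := Badd h3 (Bmain ρ hρ)
        rwa [add_assoc, h2, add_zero] at h5
      · exact Bmain a ha
    intro t
    have := all t 1
    rwa [mul_one, mul_comm] at this
  · -- four elements
    have hF : ∀ ρ : F, ρ = 0 ∨ ρ = 1 ∨ ρ ^ 2 + ρ = 1 := by
      intro ρ
      by_contra h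
      rw [not_or, not_or] at h
      exact hρ ⟨ρ, h.1, h.2.1, h.2.2⟩
    have hω : ω ^ 2 + ω = 1 := by
      rcases hF ω with h | h | h
      · exact absurd h h0
      · exact absurd h h1
      · exact h
    have hF4 : ∀ ρ : F, ρ = 0 ∨ ρ = 1 ∨ ρ = ω ∨ ρ = ω + 1 := by
      intro ρ
      rcases hF ρ with h | h | h
      · exact Or.inl h
      · exact Or.inr (Or.inl h)
      · have h3 : (ρ + ω) * (ρ + ω + 1) = 0 := by
          have : (ρ + ω) * (ρ + ω + 1) = (ρ ^ 2 + ρ) + (ω ^ 2 + ω) + 2 * (ρ * ω) := by ring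
          rw [this, h, hω, htwo, zero_mul, add_zero, h2]
        rcases mul_eq_zero.1 h3 with h4 | h4
        · exact Or.inr (Or.inr (Or.inl (eqadd h4)))
        · exact Or.inr (Or.inr (Or.inr (eqadd (by rw [← add_assoc]; exact h4))))
    have hω1 : ω + 1 ≠ 0 := fun h => h1 (eqadd h)
    have ψω : ψ (ω + 1) = ψ ω + ψ 1 := hψ _ _
    -- the quotient
    have hτ : ψ ω / ψ 1 = ω ∨ ψ ω / ψ 1 = ω + 1 := by
      rcases hF4 (ψ ω / ψ 1) with h | h | h | h
      · rw [div_eq_zero_iff] at h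
        rcases h with h | h
        · exact absurd (hinj _ h) h0
        · exact absurd h hl
      · rw [div_eq_one_iff_eq hl] at h
        have : ψ (ω + 1) = 0 := by rw [ψω, h, h2]
        exact absurd (hinj _ this) hω1
      · exact Or.inl h
      · exact Or.inr h
    rcases hτ with h | h
    · have h3 : ψ ω = ψ 1 * ω := by rw [mul_comm]; exact (div_eq_iff hl).1 h
      intro t
      rcases hF4 t with rfl | rfl | rfl | rfl
      · rw [ψ0, mul_zero]
      · rw [mul_one]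
      · exact h3
      · rw [ψω, h3]; ring
    · exfalso
      have h3 : ψ ω = ψ 1 * (ω + 1) := by rw [mul_comm]; exact (div_eq_iff hl).1 h
      have hω2 : ω ^ 2 = ω + 1 := by
        have : ω ^ 2 = ω ^ 2 + (ω + ω) := by rw [h2, add_zero]
        rw [this, ← add_assoc, hω, add_comm]
      have h4 : ∀ t, ψ t = ψ 1 * t ^ 2 := by
        intro t
        rcases hF4 t with rfl | rfl | rfl | rfl
        · rw [ψ0]; ring
        · rw [one_pow, mul_one]
        · rw [hω2]; exact h3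
        · have e1 : (ω + 1) ^ 2 = ω := by
            have : (ω + 1) ^ 2 = ω ^ 2 + 1 + 2 * ω := by ring
            rw [this, htwo, zero_mul, add_zero, hω2, add_assoc, h2, add_zero]
          rw [e1, ψω, h3]
          have : ψ 1 * (ω + 1) + ψ 1 = ψ 1 * ω + (ψ 1 + ψ 1) := by ring
          rw [this, h2, add_zero]
      have h5 : ∀ a : F, a ≠ 0 → a ^ 3 = 1 := by
        intro a ha
        rcases hF a with rfl | rfl | h6
        · exact absurd rfl ha
        · exact one_pow 3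
        · have e1 : a ^ 3 = a * (a ^ 2 + a) + a ^ 2 + 2 * 0 - 2 * a ^ 2 := by ring
          rw [e1, h6, htwo, zero_mul, zero_mul, add_zero, sub_zero, mul_one, add_comm, h6]
      have h6 : ∀ t, ψ (ψ t) = t := by
        intro t
        rw [h4 (ψ t), h4 t]
        have e1 : ψ 1 * (ψ 1 * t ^ 2) ^ 2 = (ψ 1) ^ 3 * t ^ 4 := by ring
        rw [e1, h5 _ hl, one_mul]
        by_cases ht : t = 0
        · rw [ht]; ring
        · rw [pow_succ, h5 t ht, one_mul]
      have h7 := hodd h6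
      rw [h7 ω, h7 1, one_mul] at h3
      exact one_ne_zero (left_eq_add.1 h3)

end Cfsg.Agent.HexGrow.TwoAlg
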