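import Cfsg.Agent.HexGrow.Defs

/-!
# S1778, types `G2(q)` and `3D4(q)`: step (2), basic facts on `Q1 = QQ X r` and `P' = PP X r`, `r` even
-/

set_option autoImplicit false
set_option linter.unusedSectionVars false

namespace Cfsg.Agent.HexGrow.TwoBase

open scoped commutatorElement
open Defs

/-! ### Indices -/

theorem ev_add_two : ∀ r : ZMod 12, Ev r → Ev (r + 2) := by decide
theorem ev_sub_two : ∀ r : ZMod 12, Ev r → Ev (r - 2) := by decide
theorem od_add_one : ∀ r : ZMod 12, Ev r → ¬ Ev (r + 1) := by decide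
theorem od_sub_one : ∀ r : ZMod 12, Ev r → ¬ Ev (r - 1) := by decide
theorem od_add_three : ∀ r : ZMod 12, Ev r → ¬ Ev (r + 3) := by decide
theorem od_sub_three : ∀ r : ZMod 12, Ev r → ¬ Ev (r - 3) := by decide

section Comm

variable {G : Type*} [Group G]

theorem cml (a b c : G) : ⁅a * b, c⁆ = a * ⁅b, c⁆ * a⁻¹ * ⁅a, c⁆ := by
  simp only [commutatorElement_def]; group

theorem cmr (a b c : G) : ⁅a, b * c⁆ = ⁅a, b⁆ * (b * ⁅a, c⁆ * b⁻¹) := by
  simp only [commutatorElement_def]; group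

theorem conj_eq (a b : G) : a * b * a⁻¹ = ⁅a, b⁆ * b := by
  simp only [commutatorElement_def]; group

theorem comm_conj (g a b : G) : g * ⁅a, b⁆ * g⁻¹ = ⁅g * a * g⁻¹, g * b * g⁻¹⁆ := by
  simp only [commutatorElement_def]; group

theorem comm_one_iff {a b : G} : ⁅a, b⁆ = 1 ↔ a * b = b * a := commutatorElement_eq_one_iff_mul_comm

theorem conj_fix {a b : G} (h : a * b = b * a) : a * b * a⁻¹ = b := by
  rw [h, mul_inv_cancel_right]

theorem comm_inv_mem {Z : Subgroup G} {a b : G} (h : ⁅a, b⁆ ∈ Z) : ⁅b, a⁆ ∈ Z := by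
  rw [← commutatorElement_inv]; exact inv_mem h

/-- `b` commutes with `Z` and `⁅a, b⁆ ∈ Z` -/
def KK (Z : Subgroup G) (a : G) : Subgroup G where
  carrier := {b | (∀ z ∈ Z, b * z = z * b) ∧ ⁅a, b⁆ ∈ Z}
  mul_mem' := by
    rintro b c ⟨hb, hb'⟩ ⟨hc, hc'⟩
    refine ⟨fun z hz => by rw [mul_assoc, hc z hz, ← mul_assoc, hb z hz, mul_assoc], ?_⟩
    rw [cmr, conj_fix (hb _ hc')]
    exact mul_mem hb' hc'
  one_mem' := ⟨fun z _ => by rw [one_mul, mul_one], by rw [commutatorElement_one_right]; exact one_mem Z⟩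
  inv_mem' := by
    rintro b ⟨hb, hb'⟩
    refine ⟨fun z hz => ?_, ?_⟩
    · have := hb z hz
      calc b⁻¹ * z = b⁻¹ * (z * b) * b⁻¹ := by group
        _ = z * b⁻¹ := by rw [← this]; group
    · have e : ⁅a, b⁻¹⁆ = b⁻¹ * ⁅a, b⁆⁻¹ * b := by simp only [commutatorElement_def]; group
      have h1 := hb _ (inv_mem hb')
      rw [e, mul_assoc, ← h1, inv_mul_cancel_left]
      exact inv_mem hb'

theorem mem_KK {Z : Subgroup G} {a b : G} : b ∈ KK Z a ↔ (∀ z ∈ Z, b * z = z * b) ∧ ⁅a, b⁆ ∈ Z := Iff.rfl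

/-- the normaliser -/
def NN (Q : Subgroup G) : Subgroup G where
  carrier := {x | (∀ q ∈ Q, x * q * x⁻¹ ∈ Q) ∧ ∀ q ∈ Q, x⁻¹ * q * x ∈ Q}
  mul_mem' := by
    rintro x y ⟨hx, hx'⟩ ⟨hy, hy'⟩
    constructor
    · intro q hq
      have := hx _ (hy q hq)
      rwa [show x * (y * q * y⁻¹) * x⁻¹ = x * y * q * (x * y)⁻¹ by group] at this
    · intro q hq
      have := hy' _ (hx' q hq)
      rwa [show y⁻¹ * (x⁻¹ * q * x) * y = (x * y)⁻¹ * q * (x * y) by group] at this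
  one_mem' := ⟨fun q hq => by simpa using hq, fun q hq => by simpa using hq⟩
  inv_mem' := by
    rintro x ⟨hx, hx'⟩
    exact ⟨fun q hq => by rw [inv_inv]; exact hx' q hq, fun q hq => by rw [inv_inv]; exact hx q hq⟩

theorem mem_NN {Q : Subgroup G} {x : G} : x ∈ NN Q ↔ (∀ q ∈ Q, x * q * x⁻¹ ∈ Q) ∧ ∀ q ∈ Q, x⁻¹ * q * x ∈ Q := Iff.rfl

/-- a subgroup `A` all of whose elements map `Q` into itself is in `NN Q` -/
theorem le_NN {Q A : Subgroup G} (h : ∀ a ∈ A, ∀ q ∈ Q, a * q * a⁻¹ ∈ Q) : A ≤ NN Q := by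
  intro a ha
  refine ⟨h a ha, fun q hq => ?_⟩
  have := h a⁻¹ (inv_mem ha) q hq
  rwa [inv_inv] at this

/-- an element of finite order mapping `Q` into itself is in `NN Q` -/
theorem mem_NN_of_finite [Finite G] {Q : Subgroup G} {x : G} (h : ∀ q ∈ Q, x * q * x⁻¹ ∈ Q) : x ∈ NN Q := by
  refine ⟨h, fun q hq => ?_⟩
  have hk : ∀ k : ℕ, ∀ q ∈ Q, x ^ k * q * (x ^ k)⁻¹ ∈ Q := by
    intro k
    induction k with
    | zero => intro q hq; simpa using hq
    | succ k ih =>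
      intro q hq
      have := h _ (ih q hq)
      rwa [show x * (x ^ k * q * (x ^ k)⁻¹) * x⁻¹ = x ^ (k + 1) * q * (x ^ (k + 1))⁻¹ by rw [pow_succ']; group] at this
  have h1 : x ^ (orderOf x - 1) = x⁻¹ := by
    have h2 : x ^ (orderOf x - 1) * x = 1 := by
      rw [← pow_succ, Nat.sub_add_cancel (orderOf_pos x), pow_orderOf_eq_one]
    exact eq_inv_of_mul_eq_one_left h2
  have := hk (orderOf x - 1) q hq
  rwa [h1, inv_inv] at this

end Comm

variable {G : Type*} [Group G] {t : G} {T : Subgroup G} {X : ZMod 12 → Subgroup G} {n : ZMod 12 → G}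

/-- `P'(r)` -/
def PP (X : ZMod 12 → Subgroup G) (r : ZMod 12) : Subgroup G := X (r - 3) ⊔ QQ X r ⊔ X (r + 3)

theorem le_QQ1 (r : ZMod 12) : X (r - 2) ≤ QQ X r :=
  le_sup_of_le_left (le_sup_of_le_left (le_sup_of_le_left le_sup_left))

theorem le_QQ2 (r : ZMod 12) : X (r - 1) ≤ QQ X r :=
  le_sup_of_le_left (le_sup_of_le_left (le_sup_of_le_left le_sup_right))

theorem le_QQ3 (r : ZMod 12) : X r ≤ QQ X r := le_sup_of_le_left (le_sup_of_le_left le_sup_right)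

theorem le_QQ4 (r : ZMod 12) : X (r + 1) ≤ QQ X r := le_sup_of_le_left le_sup_right

theorem le_QQ5 (r : ZMod 12) : X (r + 2) ≤ QQ X r := le_sup_right

theorem QQ_le {r : ZMod 12} {A : Subgroup G} (h1 : X (r - 2) ≤ A) (h2 : X (r - 1) ≤ A) (h3 : X r ≤ A)
    (h4 : X (r + 1) ≤ A) (h5 : X (r + 2) ≤ A) : QQ X r ≤ A :=
  sup_le (sup_le (sup_le (sup_le h1 h2) h3) h4) h5

theorem le_PPl (r : ZMod 12) : X (r - 3) ≤ PP X r := le_sup_of_le_left le_sup_left
theorem le_PPm (r : ZMod 12) : QQ X r ≤ PP X r := le_sup_of_le_left le_sup_right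
theorem le_PPr (r : ZMod 12) : X (r + 3) ≤ PP X r := le_sup_right

theorem PP_le {r : ZMod 12} {A : Subgroup G} (h1 : X (r - 3) ≤ A) (h2 : QQ X r ≤ A) (h3 : X (r + 3) ≤ A) :
    PP X r ≤ A := sup_le (sup_le h1 h2) h3

theorem near_le_PP {r s : ZMod 12} (h : Near r s) : X s ≤ PP X r := by
  rcases h with h | h | h | h | h | h | h
  · have : s = r := by linear_combination h
    rw [this]; exact (le_QQ3 r).trans (le_PPm r)
  · have : s = r + 1 := by linear_combination h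
    rw [this]; exact (le_QQ4 r).trans (le_PPm r)
  · have : s = r + 2 := by linear_combination h
    rw [this]; exact (le_QQ5 r).trans (le_PPm r)
  · have : s = r + 3 := by linear_combination h
    rw [this]; exact le_PPr r
  · have : s = r - 1 := by
      have e : (11 : ZMod 12) = -1 := by decide
      rw [e] at h; linear_combination h
    rw [this]; exact (le_QQ2 r).trans (le_PPm r)
  · have : s = r - 2 := by
      have e : (10 : ZMod 12) = -2 := by decide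
      rw [e] at h; linear_combination h
    rw [this]; exact (le_QQ1 r).trans (le_PPm r)
  · have : s = r - 3 := by
      have e : (9 : ZMod 12) = -3 := by decide
      rw [e] at h; linear_combination h
    rw [this]; exact le_PPl r

namespace EnvL

variable (e : Env t T X n)
include e

theorem ab {r : ZMod 12} {a b : G} (ha : a ∈ X r) (hb : b ∈ X r) : a * b = b * a := by
  have h1 := e.sq r (a * b) (mul_mem ha hb)
  have h2 := e.sq r a ha
  have h3 := e.sq r b hb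
  calc a * b = a * (a * b * (a * b)) * b := by rw [h1, mul_one]
    _ = (a * a) * b * a * (b * b) := by group
    _ = b * a := by rw [h2, h3, one_mul, mul_one]

theorem inv_eq {r : ZMod 12} {a : G} (ha : a ∈ X r) : a⁻¹ = a := inv_eq_of_mul_eq_one_left (e.sq r a ha)

variable {r : ZMod 12} (hr : Ev r)
include hr

theorem r12 {a b : G} (ha : a ∈ X (r - 2)) (hb : b ∈ X (r - 1)) : a * b = b * a :=
  e.c1 (r - 2) a ha b (by rwa [show r - 2 + 1 = r - 1 by ring])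

theorem r1z {a b : G} (ha : a ∈ X (r - 2)) (hb : b ∈ X r) : a * b = b * a :=
  e.l2 (r - 2) (ev_sub_two r hr) a ha b (by rwa [show r - 2 + 2 = r by ring])

theorem r14 {a b : G} (ha : a ∈ X (r - 2)) (hb : b ∈ X (r + 1)) : a * b = b * a :=
  e.c3 (r - 2) a ha b (by rwa [show r - 2 + 3 = r + 1 by ring])

theorem r15 {a b : G} (ha : a ∈ X (r - 2)) (hb : b ∈ X (r + 2)) : ⁅a, b⁆ ∈ X r := by
  have := e.l4 (r - 2) (ev_sub_two r hr) a ha b (by rwa [show r - 2 + 4 = r + 2 by ring])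
  rwa [show r - 2 + 2 = r by ring] at this

theorem r2z {a b : G} (ha : a ∈ X (r - 1)) (hb : b ∈ X r) : a * b = b * a :=
  e.c1 (r - 1) a ha b (by rwa [show r - 1 + 1 = r by ring])

theorem r24 {a b : G} (ha : a ∈ X (r - 1)) (hb : b ∈ X (r + 1)) : ⁅a, b⁆ ∈ X r := by
  have := e.s2 (r - 1) (od_sub_one r hr) a ha b (by rwa [show r - 1 + 2 = r + 1 by ring])
  rwa [show r - 1 + 1 = r by ring] at this

theorem r25 {a b : G} (ha : a ∈ X (r - 1)) (hb : b ∈ X (r + 2)) : a * b = b * a :=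
  e.c3 (r - 1) a ha b (by rwa [show r - 1 + 3 = r + 2 by ring])

theorem rz4 {a b : G} (ha : a ∈ X r) (hb : b ∈ X (r + 1)) : a * b = b * a := e.c1 r a ha b hb

theorem rz5 {a b : G} (ha : a ∈ X r) (hb : b ∈ X (r + 2)) : a * b = b * a := e.l2 r hr a ha b hb

theorem r45 {a b : G} (ha : a ∈ X (r + 1)) (hb : b ∈ X (r + 2)) : a * b = b * a :=
  e.c1 (r + 1) a ha b (by rwa [show r + 1 + 1 = r + 2 by ring])

theorem rlz {a b : G} (ha : a ∈ X (r - 3)) (hb : b ∈ X r) : a * b = b * a :=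
  e.c3 (r - 3) a ha b (by rwa [show r - 3 + 3 = r by ring])

theorem rzr {a b : G} (ha : a ∈ X r) (hb : b ∈ X (r + 3)) : a * b = b * a := e.c3 r a ha b hb

/-- `X (r-3)` against `QQ` -/
theorem rl1 {a b : G} (ha : a ∈ X (r - 3)) (hb : b ∈ X (r - 2)) : a * b = b * a :=
  e.c1 (r - 3) a ha b (by rwa [show r - 3 + 1 = r - 2 by ring])

theorem rl2 {a b : G} (ha : a ∈ X (r - 3)) (hb : b ∈ X (r - 1)) : ⁅a, b⁆ ∈ X (r - 2) := by
  have := e.s2 (r - 3) (od_sub_three r hr) a ha b (by rwa [show r - 3 + 2 = r - 1 by ring])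
  rwa [show r - 3 + 1 = r - 2 by ring] at this

theorem rl4 {a b : G} (ha : a ∈ X (r - 3)) (hb : b ∈ X (r + 1)) : ⁅a, b⁆ ∈ QQ X r := by
  have := e.s4 (r - 3) (od_sub_three r hr) a ha b (by rwa [show r - 3 + 4 = r + 1 by ring])
  rw [show r - 3 + 1 = r - 2 by ring, show r - 3 + 2 = r - 1 by ring, show r - 3 + 3 = r by ring] at this
  exact (sup_le (sup_le (le_QQ1 r) (le_QQ2 r)) (le_QQ3 r)) this

theorem rl5 {a b : G} (ha : a ∈ X (r - 3)) (hb : b ∈ X (r + 2)) : ⁅a, b⁆ ∈ QQ X r := by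
  have := e.c5 (r - 3) a ha b (by rwa [show r - 3 + 5 = r + 2 by ring])
  rw [show r - 3 + 1 = r - 2 by ring, show r - 3 + 2 = r - 1 by ring, show r - 3 + 3 = r by ring,
    show r - 3 + 4 = r + 1 by ring] at this
  exact (sup_le (sup_le (sup_le (le_QQ1 r) (le_QQ2 r)) (le_QQ3 r)) (le_QQ4 r)) this

theorem rr5 {a b : G} (ha : a ∈ X (r + 2)) (hb : b ∈ X (r + 3)) : a * b = b * a :=
  e.c1 (r + 2) a ha b (by rwa [show r + 2 + 1 = r + 3 by ring])

theorem rr4 {a b : G} (ha : a ∈ X (r + 1)) (hb : b ∈ X (r + 3)) : ⁅a, b⁆ ∈ X (r + 2) := by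
  have := e.s2 (r + 1) (od_add_one r hr) a ha b (by rwa [show r + 1 + 2 = r + 3 by ring])
  rwa [show r + 1 + 1 = r + 2 by ring] at this

theorem rr2 {a b : G} (ha : a ∈ X (r - 1)) (hb : b ∈ X (r + 3)) : ⁅a, b⁆ ∈ QQ X r := by
  have := e.s4 (r - 1) (od_sub_one r hr) a ha b (by rwa [show r - 1 + 4 = r + 3 by ring])
  rw [show r - 1 + 1 = r by ring, show r - 1 + 2 = r + 1 by ring, show r - 1 + 3 = r + 2 by ring] at this
  exact (sup_le (sup_le (le_QQ3 r) (le_QQ4 r)) (le_QQ5 r)) this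

theorem rr1 {a b : G} (ha : a ∈ X (r - 2)) (hb : b ∈ X (r + 3)) : ⁅a, b⁆ ∈ QQ X r := by
  have := e.c5 (r - 2) a ha b (by rwa [show r - 2 + 5 = r + 3 by ring])
  rw [show r - 2 + 1 = r - 1 by ring, show r - 2 + 2 = r by ring, show r - 2 + 3 = r + 1 by ring,
    show r - 2 + 4 = r + 2 by ring] at this
  exact (sup_le (sup_le (sup_le (le_QQ2 r) (le_QQ3 r)) (le_QQ4 r)) (le_QQ5 r)) this

/-- `X r` is central in `PP X r`. -/
theorem central {z a : G} (hz : z ∈ X r) (ha : a ∈ PP X r) : a * z = z * a := by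
  have h : PP X r ≤ Subgroup.centralizer {z} := by
    have key : ∀ A : Subgroup G, (∀ a ∈ A, a * z = z * a) → A ≤ Subgroup.centralizer {z} := by
      intro A hA a ha
      rw [Subgroup.mem_centralizer_singleton_iff]
      exact hA a ha
    refine PP_le (key _ fun a ha => rlz e hr ha hz) ?_ (key _ fun a ha => (rzr e hr hz ha).symm)
    refine QQ_le (key _ fun a ha => r1z e hr ha hz) (key _ fun a ha => r2z e hr ha hz)
      (key _ fun a ha => ab e ha hz) (key _ fun a ha => (rz4 e hr hz ha).symm) (key _ fun a ha => (rz5 e hr hz ha).symm)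
  have := h ha
  rwa [Subgroup.mem_centralizer_singleton_iff] at this

theorem centralQ {z a : G} (hz : z ∈ X r) (ha : a ∈ QQ X r) : a * z = z * a := central e hr hz (le_PPm r ha)

/-- `[Q1, Q1] ≤ Z` -/
theorem comm_QQ {a b : G} (ha : a ∈ QQ X r) (hb : b ∈ QQ X r) : ⁅a, b⁆ ∈ X r := by
  -- first for `a` in a root group
  have one : ∀ {x y : G}, x * y = y * x → ⁅x, y⁆ ∈ X r := fun h => by
    rw [comm_one_iff.2 h]; exact one_mem _
  have key : ∀ (A : Subgroup G), A ≤ QQ X r → (∀ a ∈ A, ∀ b ∈ X (r - 2), ⁅a, b⁆ ∈ X r) →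
      (∀ a ∈ A, ∀ b ∈ X (r - 1), ⁅a, b⁆ ∈ X r) → (∀ a ∈ A, ∀ b ∈ X r, ⁅a, b⁆ ∈ X r) →
      (∀ a ∈ A, ∀ b ∈ X (r + 1), ⁅a, b⁆ ∈ X r) → (∀ a ∈ A, ∀ b ∈ X (r + 2), ⁅a, b⁆ ∈ X r) → A ≤ KK (X r) b := by
    intro A hA h1 h2 h3 h4 h5 a ha
    refine ⟨fun z hz => centralQ e hr hz (hA ha), ?_⟩
    have : QQ X r ≤ KK (X r) a := by
      refine QQ_le ?_ ?_ ?_ ?_ ?_
      · exact fun c hc => ⟨fun z hz => centralQ e hr hz (le_QQ1 r hc), h1 a ha c hc⟩
      · exact fun c hc => ⟨fun z hz => centralQ e hr hz (le_QQ2 r hc), h2 a ha c hc⟩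
      · exact fun c hc => ⟨fun z hz => centralQ e hr hz (le_QQ3 r hc), h3 a ha c hc⟩
      · exact fun c hc => ⟨fun z hz => centralQ e hr hz (le_QQ4 r hc), h4 a ha c hc⟩
      · exact fun c hc => ⟨fun z hz => centralQ e hr hz (le_QQ5 r hc), h5 a ha c hc⟩
    exact comm_inv_mem (this hb).2
  have h : QQ X r ≤ KK (X r) b := by
    refine QQ_le ?_ ?_ ?_ ?_ ?_
    · refine key _ (le_QQ1 r) ?_ ?_ ?_ ?_ ?_
      · exact fun a ha b hb => one (ab e ha hb)
      · exact fun a ha b hb => one (r12 e hr ha hb)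
      · exact fun a ha b hb => one (r1z e hr ha hb)
      · exact fun a ha b hb => one (r14 e hr ha hb)
      · exact fun a ha b hb => r15 e hr ha hb
    · refine key _ (le_QQ2 r) ?_ ?_ ?_ ?_ ?_
      · exact fun a ha b hb => one (r12 e hr hb ha).symm
      · exact fun a ha b hb => one (ab e ha hb)
      · exact fun a ha b hb => one (r2z e hr ha hb)
      · exact fun a ha b hb => r24 e hr ha hb
      · exact fun a ha b hb => one (r25 e hr ha hb)
    · refine key _ (le_QQ3 r) ?_ ?_ ?_ ?_ ?_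
      · exact fun a ha b hb => one (r1z e hr hb ha).symm
      · exact fun a ha b hb => one (r2z e hr hb ha).symm
      · exact fun a ha b hb => one (ab e ha hb)
      · exact fun a ha b hb => one (rz4 e hr ha hb)
      · exact fun a ha b hb => one (rz5 e hr ha hb)
    · refine key _ (le_QQ4 r) ?_ ?_ ?_ ?_ ?_
      · exact fun a ha b hb => one (r14 e hr hb ha).symm
      · exact fun a ha b hb => comm_inv_mem (r24 e hr hb ha)
      · exact fun a ha b hb => one (rz4 e hr hb ha).symm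
      · exact fun a ha b hb => one (ab e ha hb)
      · exact fun a ha b hb => one (r45 e hr ha hb)
    · refine key _ (le_QQ5 r) ?_ ?_ ?_ ?_ ?_
      · exact fun a ha b hb => comm_inv_mem (r15 e hr hb ha)
      · exact fun a ha b hb => one (r25 e hr hb ha).symm
      · exact fun a ha b hb => one (rz5 e hr hb ha).symm
      · exact fun a ha b hb => one (r45 e hr hb ha).symm
      · exact fun a ha b hb => one (ab e ha hb)
  exact comm_inv_mem (h ha).2

/-- `QQ X r` is normal in `PP X r`. -/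
theorem PP_le_NN : PP X r ≤ NN (QQ X r) := by
  have key : ∀ a : G, (∀ b ∈ X (r - 2), ⁅a, b⁆ ∈ QQ X r) → (∀ b ∈ X (r - 1), ⁅a, b⁆ ∈ QQ X r) →
      (∀ b ∈ X r, ⁅a, b⁆ ∈ QQ X r) → (∀ b ∈ X (r + 1), ⁅a, b⁆ ∈ QQ X r) →
      (∀ b ∈ X (r + 2), ⁅a, b⁆ ∈ QQ X r) → ∀ q ∈ QQ X r, a * q * a⁻¹ ∈ QQ X r := by
    intro a h1 h2 h3 h4 h5 q hq
    have : QQ X r ≤ (QQ X r).comap (MulAut.conj a).toMonoidHom := by
      have g : ∀ s, X s ≤ QQ X r → (∀ b ∈ X s, ⁅a, b⁆ ∈ QQ X r) →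
          X s ≤ (QQ X r).comap (MulAut.conj a).toMonoidHom := by
        intro s hs h b hb
        rw [Subgroup.mem_comap]
        show a * b * a⁻¹ ∈ QQ X r
        rw [conj_eq]
        exact mul_mem (h b hb) (hs hb)
      exact QQ_le (g _ (le_QQ1 r) h1) (g _ (le_QQ2 r) h2) (g _ (le_QQ3 r) h3) (g _ (le_QQ4 r) h4)
        (g _ (le_QQ5 r) h5)
    exact this hq
  have one : ∀ {x y : G}, x * y = y * x → ⁅x, y⁆ ∈ QQ X r := fun h => by
    rw [comm_one_iff.2 h]; exact one_mem _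
  refine PP_le ?_ ?_ ?_
  · refine le_NN fun a ha => key a ?_ ?_ ?_ ?_ ?_
    · exact fun b hb => one (rl1 e hr ha hb)
    · exact fun b hb => le_QQ1 r (rl2 e hr ha hb)
    · exact fun b hb => one (rlz e hr ha hb)
    · exact fun b hb => rl4 e hr ha hb
    · exact fun b hb => rl5 e hr ha hb
  · refine le_NN fun a ha q hq => mul_mem (mul_mem ha hq) (inv_mem ha)
  · refine le_NN fun a ha => key a ?_ ?_ ?_ ?_ ?_
    · exact fun b hb => comm_inv_mem (rr1 e hr hb ha)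
    · exact fun b hb => comm_inv_mem (rr2 e hr hb ha)
    · exact fun b hb => one (rzr e hr hb ha).symm
    · exact fun b hb => le_QQ5 r (comm_inv_mem (rr4 e hr hb ha))
    · exact fun b hb => one (rr5 e hr hb ha).symm

/-- normal form in `QQ X r` (existence) -/
theorem QQ_form {q : G} (hq : q ∈ QQ X r) : ∃ a₁ ∈ X (r - 2), ∃ a₂ ∈ X (r - 1), ∃ z ∈ X r, ∃ a₄ ∈ X (r + 1),
    ∃ a₅ ∈ X (r + 2), q = a₁ * a₂ * z * a₄ * a₅ := by
  -- the set of these products is a subgroup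
  let S : Set G := {q | ∃ a₁ ∈ X (r - 2), ∃ a₂ ∈ X (r - 1), ∃ z ∈ X r, ∃ a₄ ∈ X (r + 1),
    ∃ a₅ ∈ X (r + 2), q = a₁ * a₂ * z * a₄ * a₅}
  have hS : ∀ x ∈ S, x ∈ QQ X r := by
    rintro _ ⟨a₁, h1, a₂, h2, z, hz, a₄, h4, a₅, h5, rfl⟩
    exact mul_mem (mul_mem (mul_mem (mul_mem (le_QQ1 r h1) (le_QQ2 r h2)) (le_QQ3 r hz)) (le_QQ4 r h4)) (le_QQ5 r h5)
  -- multiplication by `Z`
  have mz : ∀ x ∈ S, ∀ w ∈ X r, x * w ∈ S := by
    rintro _ ⟨a₁, h1, a₂, h2, z, hz, a₄, h4, a₅, h5, rfl⟩ w hw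
    refine ⟨a₁, h1, a₂, h2, z * w, mul_mem hz hw, a₄, h4, a₅, h5, ?_⟩
    rw [mul_assoc (a₁ * a₂ * z * a₄) a₅ w, ← rz5 e hr hw h5, ← mul_assoc, mul_assoc (a₁ * a₂ * z) a₄ w,
      ← rz4 e hr hw h4]
    group
  -- right multiplication by the root groups
  have m5 : ∀ x ∈ S, ∀ b ∈ X (r + 2), x * b ∈ S := by
    rintro _ ⟨a₁, h1, a₂, h2, z, hz, a₄, h4, a₅, h5, rfl⟩ b hb
    exact ⟨a₁, h1, a₂, h2, z, hz, a₄, h4, a₅ * b, mul_mem h5 hb, by rw [mul_assoc (a₁ * a₂ * z * a₄)]⟩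
  have m4 : ∀ x ∈ S, ∀ b ∈ X (r + 1), x * b ∈ S := by
    rintro _ ⟨a₁, h1, a₂, h2, z, hz, a₄, h4, a₅, h5, rfl⟩ b hb
    refine ⟨a₁, h1, a₂, h2, z, hz, a₄ * b, mul_mem h4 hb, a₅, h5, ?_⟩
    rw [mul_assoc _ a₅ b, ← r45 e hr hb h5]
    group
  have m2 : ∀ x ∈ S, ∀ b ∈ X (r - 1), x * b ∈ S := by
    rintro x hx b hb
    obtain ⟨a₁, h1, a₂, h2, z, hz, a₄, h4, a₅, h5, rfl⟩ := hx
    have hc := r24 e hr hb h4
    have e1 : a₄ * b = b * a₄ * ⁅b, a₄⁆⁻¹ := by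
      have h0 : b * a₄ = ⁅b, a₄⁆ * (a₄ * b) := by simp only [commutatorElement_def]; group
      have h6 := centralQ e hr hc (mul_mem (le_QQ4 r h4) (le_QQ2 r hb))
      rw [h0, ← h6]
      group
    have e2 : a₁ * a₂ * z * a₄ * a₅ * b = a₁ * (a₂ * b) * z * a₄ * a₅ * ⁅b, a₄⁆⁻¹ := by
      have h7 := centralQ e hr (inv_mem hc) (le_QQ5 r h5)
      calc a₁ * a₂ * z * a₄ * a₅ * b = a₁ * a₂ * z * a₄ * (a₅ * b) := by group
        _ = a₁ * a₂ * z * (a₄ * b) * a₅ := by rw [← r25 e hr hb h5]; group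
        _ = a₁ * a₂ * (z * b) * a₄ * (⁅b, a₄⁆⁻¹ * a₅) := by rw [e1]; group
        _ = a₁ * (a₂ * b) * z * a₄ * (a₅ * ⁅b, a₄⁆⁻¹) := by rw [← r2z e hr hb hz, h7]; group
        _ = _ := by group
    rw [e2]
    exact mz _ ⟨a₁, h1, a₂ * b, mul_mem h2 hb, z, hz, a₄, h4, a₅, h5, rfl⟩ _ (inv_mem hc)
  have m1 : ∀ x ∈ S, ∀ b ∈ X (r - 2), x * b ∈ S := by
    rintro x hx b hb
    obtain ⟨a₁, h1, a₂, h2, z, hz, a₄, h4, a₅, h5, rfl⟩ := hx
    have hc := r15 e hr hb h5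
    have e1 : a₅ * b = b * a₅ * ⁅b, a₅⁆⁻¹ := by
      have h0 : b * a₅ = ⁅b, a₅⁆ * (a₅ * b) := by simp only [commutatorElement_def]; group
      have h6 := centralQ e hr hc (mul_mem (le_QQ5 r h5) (le_QQ1 r hb))
      rw [h0, ← h6]
      group
    have e2 : a₁ * a₂ * z * a₄ * a₅ * b = (a₁ * b) * a₂ * z * a₄ * a₅ * ⁅b, a₅⁆⁻¹ := by
      calc a₁ * a₂ * z * a₄ * a₅ * b = a₁ * a₂ * z * a₄ * (a₅ * b) := by group
        _ = a₁ * a₂ * z * (a₄ * b) * a₅ * ⁅b, a₅⁆⁻¹ := by rw [e1]; group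
        _ = a₁ * a₂ * (z * b) * a₄ * a₅ * ⁅b, a₅⁆⁻¹ := by rw [← r14 e hr hb h4]; group
        _ = a₁ * (a₂ * b) * z * a₄ * a₅ * ⁅b, a₅⁆⁻¹ := by rw [← r1z e hr hb hz]; group
        _ = _ := by rw [← r12 e hr hb h2]; group
    rw [e2]
    exact mz _ ⟨a₁ * b, mul_mem h1 hb, a₂, h2, z, hz, a₄, h4, a₅, h5, rfl⟩ _ (inv_mem hc)
  have hmul : ∀ x ∈ S, ∀ y ∈ S, x * y ∈ S := by
    rintro x hx _ ⟨a₁, h1, a₂, h2, z, hz, a₄, h4, a₅, h5, rfl⟩
    have := m5 _ (m4 _ (mz _ (m2 _ (m1 x hx a₁ h1) a₂ h2) z hz) a₄ h4) a₅ h5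
    rwa [show x * a₁ * a₂ * z * a₄ * a₅ = x * (a₁ * a₂ * z * a₄ * a₅) by group] at this
  have hone : (1 : G) ∈ S := ⟨1, one_mem _, 1, one_mem _, 1, one_mem _, 1, one_mem _, 1, one_mem _, by group⟩
  have hinv : ∀ x ∈ S, x⁻¹ ∈ S := by
    rintro _ ⟨a₁, h1, a₂, h2, z, hz, a₄, h4, a₅, h5, rfl⟩
    have e1 : (a₁ * a₂ * z * a₄ * a₅)⁻¹ = 1 * a₅⁻¹ * a₄⁻¹ * z⁻¹ * a₂⁻¹ * a₁⁻¹ := by group
    rw [e1]
    exact m1 _ (m2 _ (mz _ (m4 _ (m5 1 hone _ (inv_mem h5)) _ (inv_mem h4)) _ (inv_mem hz)) _ (inv_mem h2)) _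
      (inv_mem h1)
  let A : Subgroup G := { carrier := S, mul_mem' := fun {x y} hx hy => hmul x hx y hy, one_mem' := hone,
                          inv_mem' := fun {x} hx => hinv x hx }
  have : QQ X r ≤ A := by
    refine QQ_le ?_ ?_ ?_ ?_ ?_
    · intro b hb; have := m1 1 hone b hb; rwa [one_mul] at this
    · intro b hb; have := m2 1 hone b hb; rwa [one_mul] at this
    · intro b hb; have := mz 1 hone b hb; rwa [one_mul] at this
    · intro b hb; have := m4 1 hone b hb; rwa [one_mul] at this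
    · intro b hb; have := m5 1 hone b hb; rwa [one_mul] at this
  exact this hq

/-- every element of `Z` is a commutator of `X (r-2)` and `X (r+2)` -/
theorem Z_comm {z : G} (hz : z ∈ X r) : ∃ a ∈ X (r - 2), ∃ b ∈ X (r + 2), ⁅a, b⁆ = z := by
  obtain ⟨a, ha, ha1⟩ := e.ne (r - 2)
  obtain ⟨b, hb, hb1⟩ := e.ne (r + 2)
  have hc := r15 e hr ha hb
  have hc1 : ⁅a, b⁆ ≠ 1 := by
    intro h0
    exact e.l4n (r - 2) (ev_sub_two r hr) a ha b (by rwa [show r - 2 + 4 = r + 2 by ring]) ha1 hb1 (comm_one_iff.1 h0)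
  by_cases hz1 : z = 1
  · exact ⟨1, one_mem _, b, hb, by rw [hz1, commutatorElement_one_left]⟩
  · obtain ⟨h, hh, e1⟩ := e.ttr r _ hc z hz hc1 hz1
    refine ⟨h * a * h⁻¹, e.TX h hh _ a ha, h * b * h⁻¹, e.TX h hh _ b hb, ?_⟩
    rw [← comm_conj, e1]

omit hr in
theorem t_QQ {q : G} (hq : q ∈ QQ X r) : q * t = t * q := by
  have h : QQ X r ≤ Subgroup.centralizer {t} := by
    have key : ∀ s, X s ≤ Subgroup.centralizer {t} := by
      intro s a ha
      rw [Subgroup.mem_centralizer_singleton_iff]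
      exact e.tX s a ha
    exact QQ_le (key _) (key _) (key _) (key _) (key _)
  have := h hq
  rwa [Subgroup.mem_centralizer_singleton_iff] at this

omit hr in
theorem t_PP {q : G} (hq : q ∈ PP X r) : q * t = t * q := by
  have h : PP X r ≤ Subgroup.centralizer {t} := by
    have key : ∀ s, X s ≤ Subgroup.centralizer {t} := by
      intro s a ha
      rw [Subgroup.mem_centralizer_singleton_iff]
      exact e.tX s a ha
    exact PP_le (key _) (fun q hq => by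
      rw [Subgroup.mem_centralizer_singleton_iff]; exact t_QQ e hq) (key _)
  have := h hq
  rwa [Subgroup.mem_centralizer_singleton_iff] at this

omit hr in
/-- the torus normalises everything -/
theorem T_QQ {h q : G} (hh : h ∈ T) (hq : q ∈ QQ X r) : h * q * h⁻¹ ∈ QQ X r := by
  have : QQ X r ≤ (QQ X r).comap (MulAut.conj h).toMonoidHom := by
    have g : ∀ s, X s ≤ QQ X r → X s ≤ (QQ X r).comap (MulAut.conj h).toMonoidHom := by
      intro s hs b hb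
      exact hs (e.TX h hh s b hb)
    exact QQ_le (g _ (le_QQ1 r)) (g _ (le_QQ2 r)) (g _ (le_QQ3 r)) (g _ (le_QQ4 r)) (g _ (le_QQ5 r))
  exact this hq

omit hr in
theorem T_PP {h q : G} (hh : h ∈ T) (hq : q ∈ PP X r) : h * q * h⁻¹ ∈ PP X r := by
  have : PP X r ≤ (PP X r).comap (MulAut.conj h).toMonoidHom := by
    have g : ∀ s, X s ≤ PP X r → X s ≤ (PP X r).comap (MulAut.conj h).toMonoidHom := by
      intro s hs b hb
      exact hs (e.TX h hh s b hb)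
    refine PP_le (g _ (le_PPl r)) ?_ (g _ (le_PPr r))
    intro q hq
    exact le_PPm r (T_QQ e hh hq)
  exact this hq

omit hr in
theorem tnot' {s : ZMod 12} {z : G} (hz : z ∈ X s) : t * z ∉ QQ X r := by
  intro h
  apply e.tnot
  have h1 : QQ X r ≤ ⨆ r, X r := QQ_le (le_iSup X _) (le_iSup X _) (le_iSup X _) (le_iSup X _) (le_iSup X _)
  have h2 := mul_mem (h1 h) (inv_mem (le_iSup X s hz))
  rwa [mul_inv_cancel_right] at h2

omit hr in
theorem t_notin : t ∉ X r := fun h => e.tnot (le_iSup X r h)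

end EnvL

end Cfsg.Agent.HexGrow.TwoBase
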