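import Cfsg.Agent.HexGrow.TwoLong
import Cfsg.Agent.HexGrow.TwoAlg
import Cfsg.Agent.StdRank2.HexCent
import Cfsg.Agent.StdRank2.HexRank

/-!
# S1778, types `G2(q)` and `3D4(q)`: step (2), the automorphisms of `P'` in coordinates

`par` : the facts `TwoMove.Par` for a hexagonal root system in characteristic two with coordinates (`HexTwo σ x`), if the
fixed field of `σ` has more than two elements.
-/

set_option autoImplicit false
set_option linter.unusedSectionVars false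

namespace Cfsg.Agent.HexGrow.TwoCoord

open Cfsg.Agent.SplitTwo Cfsg.Agent.StdRank2.Hex
open Cfsg.Agent.StdRank2.Hex.HexTwo
open scoped commutatorElement
open Defs TwoBase

variable {E : Type*} [Field E] {σ : E ≃+* E} {Γ : Type*} [Group Γ] {x : ZMod 12 → E → Γ}

/-- the product with coordinates `u` and `z` -/
def pp (x : ZMod 12 → E → Γ) (u : E × E × E × E) (z : E) : Γ :=
  x 2 u.1 * x 3 u.2.1 * x 4 z * x 5 u.2.2.1 * x 6 u.2.2.2

/-- `u` are the coordinates of `g` in `Q1 / Z` -/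
def Rep (σ : E ≃+* E) (x : ZMod 12 → E → Γ) (g : Γ) (u : E × E × E × E) : Prop :=
  σ u.1 = u.1 ∧ σ u.2.2.2 = u.2.2.2 ∧ ∃ z, σ z = z ∧ g = pp x u z

section

variable (h : HexTwo σ x)
include h

theorem ok_x3 (b : E) : Ok σ (3 : ZMod 12) b := ok_odd (by decide) b

theorem c23 {a : E} (ha : σ a = a) (b : E) : x 2 a * x 3 b = x 3 b * x 2 a :=
  (h.comm_long (k := 2) (l := 3) (by decide) (by decide) (ok_of_fix _ ha) (ok3 b)).eq
theorem c24 {a b : E} (ha : σ a = a) (hb : σ b = b) : x 2 a * x 4 b = x 4 b * x 2 a :=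
  (h.comm_long (k := 2) (l := 4) (by decide) (by decide) (ok_of_fix _ ha) (ok_of_fix _ hb)).eq
theorem c25 {a : E} (ha : σ a = a) (b : E) : x 2 a * x 5 b = x 5 b * x 2 a :=
  (h.comm_long (k := 2) (l := 5) (by decide) (by decide) (ok_of_fix _ ha) (ok5 b)).eq
theorem c43 {a : E} (ha : σ a = a) (b : E) : x 4 a * x 3 b = x 3 b * x 4 a :=
  (h.comm_long (k := 4) (l := 3) (by decide) (by decide) (ok_of_fix _ ha) (ok3 b)).eq
theorem c45 {a : E} (ha : σ a = a) (b : E) : x 4 a * x 5 b = x 5 b * x 4 a :=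
  (h.comm_long (k := 4) (l := 5) (by decide) (by decide) (ok_of_fix _ ha) (ok5 b)).eq
theorem c46 {a b : E} (ha : σ a = a) (hb : σ b = b) : x 4 a * x 6 b = x 6 b * x 4 a :=
  (h.comm_long (k := 4) (l := 6) (by decide) (by decide) (ok_of_fix _ ha) (ok_of_fix _ hb)).eq
theorem c63 {a : E} (ha : σ a = a) (b : E) : x 6 a * x 3 b = x 3 b * x 6 a :=
  (h.comm_long (k := 6) (l := 3) (by decide) (by decide) (ok_of_fix _ ha) (ok3 b)).eq
theorem c65 {a : E} (ha : σ a = a) (b : E) : x 6 a * x 5 b = x 5 b * x 6 a :=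
  (h.comm_long (k := 6) (l := 5) (by decide) (by decide) (ok_of_fix _ ha) (ok5 b)).eq

theorem c53 (b c : E) : x 5 c * x 3 b = x 3 b * x 5 c * x 4 (trc σ b c) := by
  have h1 := h.commS2 (k := 3) (by decide) b c
  rw [show (3 : ZMod 12) + 2 = 5 from rfl, show (3 : ZMod 12) + 1 = 4 from rfl, commutatorElement_def] at h1
  have hf := trc_fix h.cube b c
  have h2 : x 3 b * x 5 c = x 4 (trc σ b c) * (x 5 c * x 3 b) := by rw [← h1]; group
  have h3 := h.x_sq (k := 4) (ok_of_fix _ hf)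
  calc x 5 c * x 3 b = x 4 (trc σ b c) * (x 4 (trc σ b c) * (x 5 c * x 3 b)) := by rw [← mul_assoc, h3, one_mul]
    _ = x 4 (trc σ b c) * (x 3 b * x 5 c) := by rw [h2]
    _ = (x 4 (trc σ b c) * x 3 b) * x 5 c := by group
    _ = x 3 b * (x 4 (trc σ b c) * x 5 c) := by rw [c43 h hf]; group
    _ = _ := by rw [c45 h hf]; group

theorem c62 {b c : E} (hb : σ b = b) (hc : σ c = c) : x 6 c * x 2 b = x 2 b * x 6 c * x 4 (b * c) := by
  have h1 := h.commL4 (k := 2) (by decide) hb hc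
  rw [show (2 : ZMod 12) + 4 = 6 from rfl, show (2 : ZMod 12) + 2 = 4 from rfl, commutatorElement_def] at h1
  have hf : σ (b * c) = b * c := by rw [map_mul, hb, hc]
  have h2 : x 2 b * x 6 c = x 4 (b * c) * (x 6 c * x 2 b) := by rw [← h1]; group
  have h3 := h.x_sq (k := 4) (ok_of_fix _ hf)
  calc x 6 c * x 2 b = x 4 (b * c) * (x 4 (b * c) * (x 6 c * x 2 b)) := by rw [← mul_assoc, h3, one_mul]
    _ = x 4 (b * c) * (x 2 b * x 6 c) := by rw [h2]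
    _ = (x 4 (b * c) * x 2 b) * x 6 c := by group
    _ = x 2 b * (x 4 (b * c) * x 6 c) := by rw [← c24 h hb hf]; group
    _ = _ := by rw [c46 h hf hc]; group

theorem add4 {a b : E} (ha : σ a = a) (hb : σ b = b) : x 4 (a + b) = x 4 a * x 4 b :=
  h.add 4 a b (ok_of_fix _ ha) (ok_of_fix _ hb)

theorem Rep.m4 {g : Γ} {u : E × E × E × E} (hu : Rep σ x g u) {z : E} (hz : σ z = z) : Rep σ x (g * x 4 z) u := by
  obtain ⟨h1, h2, w, hw, rfl⟩ := hu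
  refine ⟨h1, h2, w + z, by rw [map_add, hw, hz], ?_⟩
  unfold pp
  rw [add4 h hw hz, mul_assoc _ (x 6 _) (x 4 z), ← c46 h hz h2, ← mul_assoc, mul_assoc _ (x 5 _) (x 4 z), ← c45 h hz]
  group

theorem Rep.m6 {g : Γ} {a b c d : E} (hu : Rep σ x g (a, b, c, d)) {v : E} (hv : σ v = v) :
    Rep σ x (g * x 6 v) (a, b, c, d + v) := by
  obtain ⟨h1, h2, w, hw, rfl⟩ := hu
  refine ⟨h1, by rw [map_add, h2, hv], w, hw, ?_⟩
  unfold pp
  simp only at h1 h2 ⊢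
  rw [h.add 6 d v (ok_of_fix _ h2) (ok_of_fix _ hv)]
  group

theorem Rep.m5 {g : Γ} {a b c d : E} (hu : Rep σ x g (a, b, c, d)) (v : E) :
    Rep σ x (g * x 5 v) (a, b, c + v, d) := by
  obtain ⟨h1, h2, w, hw, rfl⟩ := hu
  refine ⟨h1, h2, w, hw, ?_⟩
  unfold pp
  simp only at h1 h2 ⊢
  rw [h.add 5 c v (ok5 c) (ok5 v), mul_assoc _ (x 6 d) (x 5 v), c65 h h2]
  group

theorem Rep.m3 {g : Γ} {a b c d : E} (hu : Rep σ x g (a, b, c, d)) (v : E) :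
    Rep σ x (g * x 3 v) (a, b + v, c, d) := by
  obtain ⟨h1, h2, w, hw, rfl⟩ := hu
  have hf := trc_fix h.cube v c
  have key : pp x (a, b, c, d) w * x 3 v = pp x (a, b + v, c, d) w * x 4 (trc σ v c) := by
    unfold pp
    simp only at h1 h2 ⊢
    rw [h.add 3 b v (ok3 b) (ok3 v)]
    calc x 2 a * x 3 b * x 4 w * x 5 c * x 6 d * x 3 v = x 2 a * x 3 b * x 4 w * x 5 c * (x 6 d * x 3 v) := by group
      _ = x 2 a * x 3 b * x 4 w * (x 5 c * x 3 v) * x 6 d := by rw [c63 h h2]; group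
      _ = x 2 a * x 3 b * (x 4 w * x 3 v) * x 5 c * (x 4 (trc σ v c) * x 6 d) := by rw [c53 h]; group
      _ = _ := by rw [c43 h hw, c46 h hf h2]; group
  have h3 : Rep σ x (pp x (a, b + v, c, d) w) (a, b + v, c, d) := ⟨h1, h2, w, hw, rfl⟩
  rw [key]
  exact Rep.m4 h h3 hf

theorem Rep.m2 {g : Γ} {a b c d : E} (hu : Rep σ x g (a, b, c, d)) {v : E} (hv : σ v = v) :
    Rep σ x (g * x 2 v) (a + v, b, c, d) := by
  obtain ⟨h1, h2, w, hw, rfl⟩ := hu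
  simp only at h1 h2
  have hf : σ (v * d) = v * d := by rw [map_mul, hv, h2]
  have hav : σ (a + v) = a + v := by rw [map_add, h1, hv]
  have key : pp x (a, b, c, d) w * x 2 v = pp x (a + v, b, c, d) w * x 4 (v * d) := by
    unfold pp
    simp only
    rw [h.add 2 a v (ok_of_fix _ h1) (ok_of_fix _ hv)]
    calc x 2 a * x 3 b * x 4 w * x 5 c * x 6 d * x 2 v = x 2 a * x 3 b * x 4 w * x 5 c * (x 6 d * x 2 v) := by group
      _ = x 2 a * x 3 b * x 4 w * (x 5 c * x 2 v) * x 6 d * x 4 (v * d) := by rw [c62 h hv h2]; group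
      _ = x 2 a * x 3 b * (x 4 w * x 2 v) * x 5 c * x 6 d * x 4 (v * d) := by rw [← c25 h hv]; group
      _ = x 2 a * (x 3 b * x 2 v) * x 4 w * x 5 c * x 6 d * x 4 (v * d) := by rw [← c24 h hv hw]; group
      _ = _ := by rw [← c23 h hv]; group
  have h3 : Rep σ x (pp x (a + v, b, c, d) w) (a + v, b, c, d) := ⟨hav, h2, w, hw, rfl⟩
  rw [key]
  exact Rep.m4 h h3 hf

theorem Rep.mul {g g' : Γ} {u u' : E × E × E × E} (hu : Rep σ x g u) (hu' : Rep σ x g' u') :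
    Rep σ x (g * g') (u + u') := by
  obtain ⟨a, b, c, d⟩ := u
  obtain ⟨a', b', c', d'⟩ := u'
  obtain ⟨h1, h2, w, hw, rfl⟩ := hu'
  simp only at h1 h2
  have := Rep.m6 h (Rep.m5 h (Rep.m4 h (Rep.m3 h (Rep.m2 h hu h1) b') hw) c') h2
  have e1 : g * x 2 a' * x 3 b' * x 4 w * x 5 c' * x 6 d' = g * pp x (a', b', c', d') w := by
    unfold pp; group
  rwa [e1] at this

theorem Rep.one : Rep σ x (1 : Γ) 0 := by
  refine ⟨map_zero σ, map_zero σ, 0, map_zero σ, ?_⟩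
  unfold pp
  simp [h.x_zero]

theorem rep_x2 {v : E} (hv : σ v = v) : Rep σ x (x 2 v) (v, 0, 0, 0) := by
  have := Rep.m2 h (a := 0) (b := 0) (c := 0) (d := 0) (Rep.one h) hv
  rwa [one_mul, zero_add] at this

theorem rep_x3 (v : E) : Rep σ x (x 3 v) (0, v, 0, 0) := by
  have := Rep.m3 h (a := 0) (b := 0) (c := 0) (d := 0) (Rep.one h) v
  rwa [one_mul, zero_add] at this

theorem rep_x4 {v : E} (hv : σ v = v) : Rep σ x (x 4 v) 0 := by
  have := Rep.m4 h (Rep.one h) hv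
  rwa [one_mul] at this

theorem rep_x5 (v : E) : Rep σ x (x 5 v) (0, 0, v, 0) := by
  have := Rep.m5 h (a := 0) (b := 0) (c := 0) (d := 0) (Rep.one h) v
  rwa [one_mul, zero_add] at this

theorem rep_x6 {v : E} (hv : σ v = v) : Rep σ x (x 6 v) (0, 0, 0, v) := by
  have := Rep.m6 h (a := 0) (b := 0) (c := 0) (d := 0) (Rep.one h) hv
  rwa [one_mul, zero_add] at this

/-- uniqueness -/
theorem Rep.unique {g : Γ} {u u' : E × E × E × E} (hu : Rep σ x g u) (hu' : Rep σ x g u') : u = u' := by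
  obtain ⟨a, b, c, d⟩ := u
  obtain ⟨a', b', c', d'⟩ := u'
  obtain ⟨h1, h2, w, hw, rfl⟩ := hu
  obtain ⟨h1', h2', w', hw', e⟩ := hu'
  simp only at h1 h2 h1' h2'
  have m3 : ∀ b, x 3 b ∈ gen σ x (arc (2 + 1) 4) := fun b => x_mem_gen (by rw [mem_arc]; decide) (ok3 b)
  have m4 : ∀ w, σ w = w → x 4 w ∈ gen σ x (arc (2 + 1 + 1) 3) := fun w hw =>
    x_mem_gen (by rw [mem_arc]; decide) (ok_of_fix _ hw)
  have m5 : ∀ w, x 5 w ∈ gen σ x (arc (2 + 1 + 1 + 1) 2) := fun w =>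
    x_mem_gen (by rw [mem_arc]; decide) (ok5 w)
  have m6 : ∀ w, σ w = w → x 6 w ∈ gen σ x (arc (2 + 1 + 1 + 1 + 1) 1) := fun w hw =>
    x_mem_gen (by rw [mem_arc]; decide) (ok_of_fix _ hw)
  have up : ∀ (k : ZMod 12) (n : ℕ), n < 12 → gen σ x (arc (k + 1) n) ≤ gen σ x (arc k (n + 1)) := fun k n hn =>
    gen_mono (arc_succ_sub hn)
  have t6 : ∀ d, σ d = d → x 6 d ∈ gen σ x (arc (2 + 1 + 1 + 1) 2) := fun d hd => up _ 1 (by norm_num) (m6 d hd)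
  have t5 : ∀ c d, σ d = d → x 5 c * x 6 d ∈ gen σ x (arc (2 + 1 + 1 + 1) 2) := fun c d hd =>
    mul_mem (m5 c) (t6 d hd)
  have t4 : ∀ w c d, σ w = w → σ d = d → x 4 w * (x 5 c * x 6 d) ∈ gen σ x (arc (2 + 1 + 1) 3) := fun w c d hw hd =>
    mul_mem (m4 w hw) (up _ 2 (by norm_num) (t5 c d hd))
  have t3 : ∀ b w c d, σ w = w → σ d = d → x 3 b * (x 4 w * (x 5 c * x 6 d)) ∈ gen σ x (arc (2 + 1) 4) :=
    fun b w c d hw hd => mul_mem (m3 b) (up _ 3 (by norm_num) (t4 w c d hw hd))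
  have e' : x 2 a * (x 3 b * (x 4 w * (x 5 c * x 6 d))) = x 2 a' * (x 3 b' * (x 4 w' * (x 5 c' * x 6 d'))) := by
    simpa only [pp, mul_assoc] using e
  obtain ⟨ea, e2⟩ := h.uniq_first (by norm_num) (ok_of_fix _ h1) (ok_of_fix _ h1') (t3 b w c d hw h2)
    (t3 b' w' c' d' hw' h2') e'
  obtain ⟨eb, e3⟩ := h.uniq_first (k := 2 + 1) (n := 3) (by norm_num) (ok3 b) (ok3 b') (t4 w c d hw h2)
    (t4 w' c' d' hw' h2') e2
  obtain ⟨ew, e4⟩ := h.uniq_first (k := 2 + 1 + 1) (n := 2) (by norm_num) (ok_of_fix _ hw) (ok_of_fix _ hw') (t5 c d h2)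
    (t5 c' d' h2') e3
  obtain ⟨ec, e5⟩ := h.uniq_first (k := 2 + 1 + 1 + 1) (n := 1) (by norm_num) (ok5 c) (ok5 c') (m6 d h2) (m6 d' h2') e4
  have ed := (h.x_inj (ok_of_fix _ h2) (ok_of_fix _ h2')).1 e5
  rw [ea, eb, ec, ed]

/-- existence -/
theorem Rep.exists {g : Γ} (hg : g ∈ gen σ x (arc 2 5)) : ∃ u, Rep σ x g u := by
  let P : Subgroup Γ :=
    { carrier := {g | ∃ u, Rep σ x g u}
      mul_mem' := by
        rintro a b ⟨u, hu⟩ ⟨v, hv⟩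
        exact ⟨_, Rep.mul h hu hv⟩
      one_mem' := ⟨0, Rep.one h⟩
      inv_mem' := by
        rintro g ⟨⟨a, b, c, d⟩, h1, h2, w, hw, rfl⟩
        simp only at h1 h2
        have := Rep.m2 h (Rep.m3 h (Rep.m4 h (Rep.m5 h (Rep.m6 h (a := 0) (b := 0) (c := 0) (d := 0) (Rep.one h) h2)
          c) hw) b) h1
        have e1 : (pp x (a, b, c, d) w)⁻¹ = 1 * x 6 d * x 5 c * x 4 w * x 3 b * x 2 a := by
          unfold pp
          simp only [mul_inv_rev, h.x_inv (ok_of_fix 6 h2), h.x_inv (ok_of_fix 2 h1), h.x_inv (ok_of_fix 4 hw),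
            h.x_inv (ok3 b), h.x_inv (ok5 c)]
          group
        rw [Set.mem_ofPred_eq, e1]
        exact ⟨_, this⟩ }
  have : gen σ x (arc 2 5) ≤ P := gen_le fun l hl a ha => by
    have key : ∀ l : ZMod 12, (l - 2).val < 5 → l = 2 ∨ l = 3 ∨ l = 4 ∨ l = 5 ∨ l = 6 := by decide
    rcases key l hl with rfl | rfl | rfl | rfl | rfl
    · exact ⟨_, rep_x2 h (ha (by decide))⟩
    · exact ⟨_, rep_x3 h a⟩
    · exact ⟨_, rep_x4 h (ha (by decide))⟩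
    · exact ⟨_, rep_x5 h a⟩
    · exact ⟨_, rep_x6 h (ha (by decide))⟩
  exact this hg

omit h in
theorem Rep.mem {g : Γ} {u : E × E × E × E} (hu : Rep σ x g u) : g ∈ gen σ x (arc 2 5) := by
  obtain ⟨h1, h2, w, hw, rfl⟩ := hu
  unfold pp
  exact mul_mem (mul_mem (mul_mem (mul_mem (x_mem_gen (by rw [mem_arc]; decide) (ok_of_fix _ h1))
    (x_mem_gen (by rw [mem_arc]; decide) (ok3 _))) (x_mem_gen (by rw [mem_arc]; decide) (ok_of_fix _ hw)))
    (x_mem_gen (by rw [mem_arc]; decide) (ok5 _))) (x_mem_gen (by rw [mem_arc]; decide) (ok_of_fix _ h2))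

omit h in
open Classical in
/-- the coordinates -/
noncomputable def pr (σ : E ≃+* E) (x : ZMod 12 → E → Γ) (g : Γ) : E × E × E × E :=
  if hg : ∃ u, Rep σ x g u then hg.choose else 0

theorem pr_eq {g : Γ} {u : E × E × E × E} (hu : Rep σ x g u) : pr σ x g = u := by
  have hg : ∃ u, Rep σ x g u := ⟨u, hu⟩
  unfold pr
  rw [dif_pos hg]
  exact Rep.unique h hg.choose_spec hu

theorem rep_pr {g : Γ} (hg : g ∈ gen σ x (arc 2 5)) : Rep σ x g (pr σ x g) := by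
  obtain ⟨u, hu⟩ := Rep.exists h hg
  rwa [pr_eq h hu]

theorem add_self4 (u : E × E × E × E) : u + u = 0 := by
  obtain ⟨a, b, c, d⟩ := u
  ext <;> simp [h.add_self]

theorem pr_mul {g g' : Γ} (hg : g ∈ gen σ x (arc 2 5)) (hg' : g' ∈ gen σ x (arc 2 5)) :
    pr σ x (g * g') = pr σ x g + pr σ x g' := pr_eq h (Rep.mul h (rep_pr h hg) (rep_pr h hg'))

theorem pr_one : pr σ x (1 : Γ) = 0 := pr_eq h (Rep.one h)

theorem pr_inv {g : Γ} (hg : g ∈ gen σ x (arc 2 5)) : pr σ x g⁻¹ = pr σ x g := by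
  have h1 := pr_mul h hg (inv_mem hg)
  rw [mul_inv_cancel, pr_one h] at h1
  have h2 := add_self4 h (pr σ x g)
  exact add_left_cancel (h1.symm.trans h2.symm)

theorem pr_conj {p q : Γ} (hp : p ∈ gen σ x (arc 2 5)) (hq : q ∈ gen σ x (arc 2 5)) :
    pr σ x (p * q * p⁻¹) = pr σ x q := by
  rw [pr_mul h (mul_mem hp hq) (inv_mem hp), pr_mul h hp hq, pr_inv h hp, add_right_comm, add_self4 h, zero_add]

theorem pp_m4 {u : E × E × E × E} (h2 : σ u.2.2.2 = u.2.2.2) {w z : E} (hw : σ w = w) (hz : σ z = z) :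
    pp x u w * x 4 z = pp x u (w + z) := by
  unfold pp
  rw [add4 h hw hz, mul_assoc _ (x 6 _) (x 4 z), ← c46 h hz h2, ← mul_assoc, mul_assoc _ (x 5 _) (x 4 z), ← c45 h hz]
  group

/-- equal coordinates: equal modulo `Z` -/
theorem exists_z {g g' : Γ} (hg : g ∈ gen σ x (arc 2 5)) (hg' : g' ∈ gen σ x (arc 2 5))
    (e : pr σ x g = pr σ x g') : ∃ z, σ z = z ∧ g = g' * x 4 z := by
  obtain ⟨h1, h2, w, hw, e1⟩ := rep_pr h hg
  obtain ⟨h1', h2', w', hw', e1'⟩ := rep_pr h hg'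
  refine ⟨w' + w, by rw [map_add, hw, hw'], ?_⟩
  have e2 : g' * x 4 (w' + w) = pp x (pr σ x g') (w' + (w' + w)) := by
    rw [← pp_m4 h h2' hw' (by rw [map_add, hw, hw']), ← e1']
  rw [e2, ← e, ← add_assoc, h.add_self, zero_add]
  exact e1

omit h in
/-- the action of `x 1 a` on the coordinates -/
def A1 (σ : E ≃+* E) (a : E) (u : E × E × E × E) : E × E × E × E :=
  (u.1 + trc σ a u.2.1 + trc σ (shp σ a) u.2.2.1 + u.2.2.2 * nrm σ a,
    u.2.1 + crs σ a u.2.2.1 + u.2.2.2 * shp σ a, u.2.2.1 + u.2.2.2 * a, u.2.2.2)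

theorem rep_A1 (a : E) {q : Γ} {u : E × E × E × E} (hu : Rep σ x q u) :
    Rep σ x (x 1 a * q * (x 1 a)⁻¹) (A1 σ a u) := by
  obtain ⟨u2, u3, u5, u6⟩ := u
  obtain ⟨h1, h2, w, hw, rfl⟩ := hu
  simp only at h1 h2
  have f1 := trc_fix h.cube a u3
  have f2 := trc_fix h.cube (shp σ a) u5
  have f3 := trc_fix h.cube a (shp σ u5)
  have f4 : σ (u6 * nrm σ a) = u6 * nrm σ a := by rw [map_mul, h2, nrm_fix h.cube]
  have f5 : σ (u6 ^ 2 * nrm σ a) = u6 ^ 2 * nrm σ a := by rw [map_mul, map_pow, h2, nrm_fix h.cube]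
  have k2 : x 1 a * x 2 u2 * (x 1 a)⁻¹ = x 2 u2 := by
    have := h.commS1 (k := 1) (by decide) a h1
    rw [show (1 : ZMod 12) + 1 = 2 from rfl] at this
    rw [conj_eq, this, one_mul]
  have k3 : x 1 a * x 3 u3 * (x 1 a)⁻¹ = x 2 (trc σ a u3) * x 3 u3 := by
    have := h.commS2 (k := 1) (by decide) a u3
    rw [show (1 : ZMod 12) + 1 = 2 from rfl, show (1 : ZMod 12) + 2 = 3 from rfl] at this
    rw [conj_eq, this]
  have k4 : x 1 a * x 4 w * (x 1 a)⁻¹ = x 4 w := by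
    have := h.commS3 (k := 1) (by decide) a hw
    rw [show (1 : ZMod 12) + 3 = 4 from rfl] at this
    rw [conj_eq, this, one_mul]
  have k5 : x 1 a * x 5 u5 * (x 1 a)⁻¹ = x 2 (trc σ (shp σ a) u5) * x 3 (crs σ a u5) * x 4 (trc σ a (shp σ u5)) *
      x 5 u5 := by
    have := h.commS4 (k := 1) (by decide) a u5
    rw [show (1 : ZMod 12) + 1 = 2 from rfl, show (1 : ZMod 12) + 2 = 3 from rfl,
      show (1 : ZMod 12) + 3 = 4 from rfl, show (1 : ZMod 12) + 4 = 5 from rfl] at this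
    rw [conj_eq, this]
  have k6 : x 1 a * x 6 u6 * (x 1 a)⁻¹ = x 2 (u6 * nrm σ a) * x 3 (u6 * shp σ a) * x 4 (u6 ^ 2 * nrm σ a) *
      x 5 (u6 * a) * x 6 u6 := by
    have := h.commS5 (k := 1) (by decide) a h2
    rw [show (1 : ZMod 12) + 1 = 2 from rfl, show (1 : ZMod 12) + 2 = 3 from rfl,
      show (1 : ZMod 12) + 3 = 4 from rfl, show (1 : ZMod 12) + 4 = 5 from rfl,
      show (1 : ZMod 12) + 5 = 6 from rfl] at this
    rw [conj_eq, this]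
  have e1 : x 1 a * pp x (u2, u3, u5, u6) w * (x 1 a)⁻¹ = (x 2 u2) * (x 2 (trc σ a u3) * x 3 u3) * (x 4 w) *
      (x 2 (trc σ (shp σ a) u5) * x 3 (crs σ a u5) * x 4 (trc σ a (shp σ u5)) * x 5 u5) *
      (x 2 (u6 * nrm σ a) * x 3 (u6 * shp σ a) * x 4 (u6 ^ 2 * nrm σ a) * x 5 (u6 * a) * x 6 u6) := by
    calc x 1 a * pp x (u2, u3, u5, u6) w * (x 1 a)⁻¹ = (x 1 a * x 2 u2 * (x 1 a)⁻¹) * (x 1 a * x 3 u3 * (x 1 a)⁻¹) *
          (x 1 a * x 4 w * (x 1 a)⁻¹) * (x 1 a * x 5 u5 * (x 1 a)⁻¹) * (x 1 a * x 6 u6 * (x 1 a)⁻¹) := by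
          unfold pp; group
      _ = _ := by rw [k2, k3, k4, k5, k6]
  rw [e1]
  have r := ((((rep_x2 h h1).mul h ((rep_x2 h f1).mul h (rep_x3 h u3))).mul h (rep_x4 h hw)).mul h
    ((((rep_x2 h f2).mul h (rep_x3 h (crs σ a u5))).mul h (rep_x4 h f3)).mul h (rep_x5 h u5))).mul h
    (((((rep_x2 h f4).mul h (rep_x3 h (u6 * shp σ a))).mul h (rep_x4 h f5)).mul h (rep_x5 h (u6 * a))).mul h
    (rep_x6 h h2))
  convert r using 1
  unfold A1
  simp only [Prod.mk_add_mk, add_zero, zero_add]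

theorem pr_A1 (a : E) {q : Γ} (hq : q ∈ gen σ x (arc 2 5)) :
    pr σ x (x 1 a * q * (x 1 a)⁻¹) = A1 σ a (pr σ x q) := pr_eq h (rep_A1 h a (rep_pr h hq))

omit h in
theorem A1_add (a : E) (u v : E × E × E × E) : A1 σ a (u + v) = A1 σ a u + A1 σ a v := by
  obtain ⟨u2, u3, u5, u6⟩ := u
  obtain ⟨v2, v3, v5, v6⟩ := v
  unfold A1 trc crs
  simp only [Prod.mk_add_mk, Prod.mk.injEq, map_add, map_mul]
  exact ⟨by ring, by ring, by ring, trivial⟩

omit h in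
/-- `g` acts on `Q1`, `Z` and trivially on `P' / Q1` -/
structure Nm (σ : E ≃+* E) (x : ZMod 12 → E → Γ) (g : Γ) : Prop where
  q : ∀ q ∈ gen σ x (arc 2 5), g * q * g⁻¹ ∈ gen σ x (arc 2 5)
  z : ∀ z, σ z = z → ∃ z', σ z' = z' ∧ g * x 4 z * g⁻¹ = x 4 z'
  l : ∀ a, ⁅g, x 1 a⁆ ∈ gen σ x (arc 2 5)
  r : ∀ a, ⁅g, x 7 a⁆ ∈ gen σ x (arc 2 5)

variable {g : Γ} (hg : Nm σ x g)
include hg

theorem AA_mul {q q' : Γ} (hq : q ∈ gen σ x (arc 2 5)) (hq' : q' ∈ gen σ x (arc 2 5)) :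
    pr σ x (g * (q * q') * g⁻¹) = pr σ x (g * q * g⁻¹) + pr σ x (g * q' * g⁻¹) := by
  rw [← pr_mul h (hg.q _ hq) (hg.q _ hq')]
  congr 1
  group

theorem AA_x4 {z : E} (hz : σ z = z) : pr σ x (g * x 4 z * g⁻¹) = 0 := by
  obtain ⟨z', hz', e⟩ := hg.z z hz
  rw [e, pr_eq h (rep_x4 h hz')]

theorem AA_congr {q q' : Γ} (hq : q ∈ gen σ x (arc 2 5)) (hq' : q' ∈ gen σ x (arc 2 5))
    (e : pr σ x q = pr σ x q') : pr σ x (g * q * g⁻¹) = pr σ x (g * q' * g⁻¹) := by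
  obtain ⟨z, hz, rfl⟩ := exists_z h hq hq' e
  rw [AA_mul h hg hq' (rep_x4 h hz).mem, AA_x4 h hg hz, add_zero]

theorem mem_A1 (a : E) {q : Γ} (hq : q ∈ gen σ x (arc 2 5)) : x 1 a * q * (x 1 a)⁻¹ ∈ gen σ x (arc 2 5) :=
  (rep_A1 h a (rep_pr h hq)).mem

theorem AA_x1 (a : E) {q : Γ} (hq : q ∈ gen σ x (arc 2 5)) :
    pr σ x (g * (x 1 a * q * (x 1 a)⁻¹) * g⁻¹) = A1 σ a (pr σ x (g * q * g⁻¹)) := by
  have h1 := hg.q q hq
  have e1 : g * (x 1 a * q * (x 1 a)⁻¹) * g⁻¹ =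
      ⁅g, x 1 a⁆ * (x 1 a * (g * q * g⁻¹) * (x 1 a)⁻¹) * ⁅g, x 1 a⁆⁻¹ := by
    have : g * x 1 a * g⁻¹ = ⁅g, x 1 a⁆ * x 1 a := conj_eq g (x 1 a)
    calc g * (x 1 a * q * (x 1 a)⁻¹) * g⁻¹ = (g * x 1 a * g⁻¹) * (g * q * g⁻¹) * (g * x 1 a * g⁻¹)⁻¹ := by group
      _ = _ := by rw [this]; group
  rw [e1, pr_conj h (hg.l a) (mem_A1 h hg a h1), pr_A1 h a h1]

omit hg in
/-- the fixed points of `X 1` -/
theorem A1_fix {ω : E} (hω : σ ω = ω) (h0 : ω ≠ 0) (h1 : ω ≠ 1) {u : E × E × E × E} (h6 : σ u.2.2.2 = u.2.2.2)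
    (hu : ∀ a, A1 σ a u = u) : u = (u.1, 0, 0, 0) := by
  obtain ⟨u2, u3, u5, u6⟩ := u
  unfold A1 at hu
  simp only [Prod.mk.injEq] at hu ⊢ h6
  have e6 : u6 = 0 := by
    have := (hu 1).2.2.1
    rw [mul_one] at this
    exact left_eq_add.1 this.symm
  subst e6
  have key : ∀ a, trc σ a u3 + trc σ (shp σ a) u5 = 0 := by
    intro a
    have := (hu a).1
    rw [zero_mul, add_zero, add_assoc] at this
    exact left_eq_add.1 this.symm
  have hs : ∀ a b : E, a + b = 0 → a = b := by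
    intro a b hab
    exact add_right_cancel (hab.trans (h.add_self b).symm)
  have key2 : ∀ a, trc σ a u3 = 0 := by
    intro a
    have k1 := key a
    have k2 := key (ω * a)
    have e1 : trc σ (ω * a) u3 = ω * trc σ a u3 := by
      unfold trc; simp only [map_mul, hω]; ring
    have e2 : trc σ (shp σ (ω * a)) u5 = ω ^ 2 * trc σ (shp σ a) u5 := by
      unfold trc shp; simp only [map_mul, hω]; ring
    rw [e1, e2, ← hs _ _ k1] at k2
    have e3 : ω * (ω + 1) * trc σ a u3 = 0 := by rw [← k2]; ring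
    rcases mul_eq_zero.1 e3 with e4 | e4
    · rcases mul_eq_zero.1 e4 with e5 | e5
      · exact absurd e5 h0
      · exact absurd (hs _ _ e5) h1
    · exact e4
  have key3 : ∀ a, trc σ (shp σ a) u5 = 0 := by
    intro a
    have := key a
    rwa [key2 a, zero_add] at this
  have three : ∀ a : E, a + a + a = a := fun a => by rw [h.add_self, zero_add]
  have e3 : u3 = 0 := by
    by_contra h3
    have := key2 u3⁻¹
    unfold trc at this
    rw [inv_mul_cancel₀ h3, map_one, map_one, three] at this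
    exact one_ne_zero this
  have e5 : u5 = 0 := by
    by_contra h5
    have := key3 u5
    have e1 : trc σ (shp σ u5) u5 = nrm σ u5 := by
      have e2 : shp σ u5 * u5 = nrm σ u5 := by unfold shp nrm; ring
      unfold trc
      rw [e2, nrm_fix h.cube, nrm_fix h.cube, three]
    rw [e1] at this
    exact nrm_ne_zero h5 this
  rw [e3, e5]
  trivial

theorem AA_x2 {ω : E} (hω : σ ω = ω) (h0 : ω ≠ 0) (h1 : ω ≠ 1) {t : E} (ht : σ t = t) :
    pr σ x (g * x 2 t * g⁻¹) = ((pr σ x (g * x 2 t * g⁻¹)).1, 0, 0, 0) := by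
  have hq : x 2 t ∈ gen σ x (arc 2 5) := (rep_x2 h ht).mem
  refine A1_fix h hω h0 h1 (rep_pr h (hg.q _ hq)).2.1 fun a => ?_
  rw [← AA_x1 h hg a hq]
  have := h.commS1 (k := 1) (by decide) a ht
  rw [show (1 : ZMod 12) + 1 = 2 from rfl] at this
  rw [conj_eq (x 1 a), this, one_mul]

omit hg in
/-- the reflection at the root `1` -/
theorem rep_nn {q : Γ} {u : E × E × E × E} (hu : Rep σ x q u) :
    Rep σ x (nn x 1 * q * nn x 1) (u.2.2.2, u.2.2.1, u.2.1, u.1) := by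
  obtain ⟨u2, u3, u5, u6⟩ := u
  obtain ⟨h1, h2, w, hw, rfl⟩ := hu
  simp only at h1 h2
  have k2 : nn x 1 * x 2 u2 * nn x 1 = x 6 u2 := h.refl' 1 2 (ok_of_fix _ h1)
  have k3 : nn x 1 * x 3 u3 * nn x 1 = x 5 u3 := h.refl' 1 3 (ok3 u3)
  have k4 : nn x 1 * x 4 w * nn x 1 = x 4 w := h.refl' 1 4 (ok_of_fix _ hw)
  have k5 : nn x 1 * x 5 u5 * nn x 1 = x 3 u5 := h.refl' 1 5 (ok5 u5)
  have k6 : nn x 1 * x 6 u6 * nn x 1 = x 2 u6 := h.refl' 1 6 (ok_of_fix _ h2)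
  have hn := h.nn_inv 1
  have e1 : nn x 1 * pp x (u2, u3, u5, u6) w * nn x 1 = x 6 u2 * x 5 u3 * x 4 w * x 3 u5 * x 2 u6 := by
    calc nn x 1 * pp x (u2, u3, u5, u6) w * nn x 1 = nn x 1 * pp x (u2, u3, u5, u6) w * (nn x 1)⁻¹ := by rw [hn]
      _ = (nn x 1 * x 2 u2 * (nn x 1)⁻¹) * (nn x 1 * x 3 u3 * (nn x 1)⁻¹) *
          (nn x 1 * x 4 w * (nn x 1)⁻¹) * (nn x 1 * x 5 u5 * (nn x 1)⁻¹) * (nn x 1 * x 6 u6 * (nn x 1)⁻¹) := by
          unfold pp; group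
      _ = _ := by rw [hn, k2, k3, k4, k5, k6]
  rw [e1]
  have r := ((((rep_x6 h h1).mul h (rep_x5 h u3)).mul h (rep_x4 h hw)).mul h (rep_x3 h u5)).mul h (rep_x2 h h2)
  convert r using 1
  simp only [Prod.mk_add_mk, add_zero, zero_add]

omit hg in
theorem pr_nn {q : Γ} (hq : q ∈ gen σ x (arc 2 5)) : pr σ x (nn x 1 * q * nn x 1) =
    ((pr σ x q).2.2.2, (pr σ x q).2.2.1, (pr σ x q).2.1, (pr σ x q).1) := pr_eq h (rep_nn h (rep_pr h hq))

omit hg in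
theorem nn_mem {q : Γ} (hq : q ∈ gen σ x (arc 2 5)) : nn x 1 * q * nn x 1 ∈ gen σ x (arc 2 5) :=
  (rep_nn h (rep_pr h hq)).mem

theorem Nm.refl : Nm σ x (nn x 1 * g * nn x 1) := by
  have hn : nn x 1 * nn x 1 = 1 := h.nn_sq 1
  have hi := h.nn_inv 1
  have ei : (nn x 1 * g * nn x 1)⁻¹ = nn x 1 * g⁻¹ * nn x 1 := by rw [mul_inv_rev, mul_inv_rev, hi, mul_assoc]
  have tr : ∀ y, ⁅nn x 1 * g * nn x 1, y⁆ = nn x 1 * ⁅g, nn x 1 * y * nn x 1⁆ * nn x 1 := by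
    intro y
    rw [commutatorElement_def, commutatorElement_def, ei, mul_inv_rev, mul_inv_rev, hi]
    calc nn x 1 * g * nn x 1 * y * (nn x 1 * g⁻¹ * nn x 1) * y⁻¹ =
        nn x 1 * g * nn x 1 * y * nn x 1 * g⁻¹ * nn x 1 * y⁻¹ := by group
      _ = nn x 1 * g * nn x 1 * y * nn x 1 * g⁻¹ * nn x 1 * y⁻¹ * (nn x 1 * nn x 1) := by rw [hn, mul_one]
      _ = _ := by group
  refine ⟨fun q hq => ?_, fun z hz => ?_, fun a => ?_, fun a => ?_⟩
  · have h1 := nn_mem h (hg.q _ (nn_mem h hq))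
    rw [ei]
    have e1 : nn x 1 * g * nn x 1 * q * (nn x 1 * g⁻¹ * nn x 1) =
        nn x 1 * (g * (nn x 1 * q * nn x 1) * g⁻¹) * nn x 1 := by group
    rw [e1]
    exact h1
  · have k4 : ∀ w, σ w = w → nn x 1 * x 4 w * nn x 1 = x 4 w := fun w hw => h.refl' 1 4 (ok_of_fix _ hw)
    obtain ⟨z', hz', e⟩ := hg.z z hz
    refine ⟨z', hz', ?_⟩
    rw [ei]
    have e1 : nn x 1 * g * nn x 1 * x 4 z * (nn x 1 * g⁻¹ * nn x 1) =
        nn x 1 * (g * (nn x 1 * x 4 z * nn x 1) * g⁻¹) * nn x 1 := by group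
    rw [e1, k4 z hz, e, k4 z' hz']
  · have k : nn x 1 * x 1 a * nn x 1 = x 7 a := h.refl' 1 1 (ok1 a)
    rw [tr, k]
    exact nn_mem h (hg.r a)
  · have k : nn x 1 * x 7 a * nn x 1 = x 1 a := h.refl' 1 7 (ok_odd (by decide) a)
    rw [tr, k]
    exact nn_mem h (hg.l a)

theorem AA_x6 {ω : E} (hω : σ ω = ω) (h0 : ω ≠ 0) (h1 : ω ≠ 1) {t : E} (ht : σ t = t) :
    pr σ x (g * x 6 t * g⁻¹) = (0, 0, 0, (pr σ x (g * x 6 t * g⁻¹)).2.2.2) := by
  have h3 := AA_x2 h (Nm.refl h hg) hω h0 h1 ht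
  have hi := h.nn_inv 1
  have ei : (nn x 1 * g * nn x 1)⁻¹ = nn x 1 * g⁻¹ * nn x 1 := by rw [mul_inv_rev, mul_inv_rev, hi, mul_assoc]
  have k2 : nn x 1 * x 2 t * nn x 1 = x 6 t := h.refl' 1 2 (ok_of_fix _ ht)
  have e1 : nn x 1 * g * nn x 1 * x 2 t * (nn x 1 * g * nn x 1)⁻¹ = nn x 1 * (g * x 6 t * g⁻¹) * nn x 1 := by
    rw [ei, ← k2]; group
  rw [e1, pr_nn h (hg.q _ (rep_x6 h ht).mem)] at h3
  generalize pr σ x (g * x 6 t * g⁻¹) = u at h3 ⊢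
  obtain ⟨u2, u3, u5, u6⟩ := u
  simp only [Prod.mk.injEq] at h3 ⊢
  exact ⟨h3.2.2.2, h3.2.2.1, h3.2.1, trivial⟩

/-- the action of `g` on the product -/
theorem AA_rep {q : Γ} {u : E × E × E × E} (hu : Rep σ x q u) : pr σ x (g * q * g⁻¹) =
    pr σ x (g * x 2 u.1 * g⁻¹) + pr σ x (g * x 3 u.2.1 * g⁻¹) + pr σ x (g * x 5 u.2.2.1 * g⁻¹) +
      pr σ x (g * x 6 u.2.2.2 * g⁻¹) := by
  obtain ⟨h1, h2, w, hw, rfl⟩ := hu
  have m2 := (rep_x2 h h1).mem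
  have m3 := (rep_x3 h u.2.1).mem
  have m4 := (rep_x4 h hw).mem
  have m5 := (rep_x5 h u.2.2.1).mem
  have m6 := (rep_x6 h h2).mem
  unfold pp
  rw [AA_mul h hg (mul_mem (mul_mem (mul_mem m2 m3) m4) m5) m6, AA_mul h hg (mul_mem (mul_mem m2 m3) m4) m5,
    AA_mul h hg (mul_mem m2 m3) m4, AA_mul h hg m2 m3, AA_x4 h hg hw, add_zero]

theorem AA_zero (k : ZMod 12) : pr σ x (g * x k 0 * g⁻¹) = 0 := by
  rw [h.x_zero, mul_one, mul_inv_cancel, pr_one h]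

/-- the main relation -/
theorem AA_A1 (a : E) {q : Γ} {u : E × E × E × E} (hu : Rep σ x q u) :
    pr σ x (g * x 2 (A1 σ a u).1 * g⁻¹) + pr σ x (g * x 3 (A1 σ a u).2.1 * g⁻¹) +
      pr σ x (g * x 5 (A1 σ a u).2.2.1 * g⁻¹) + pr σ x (g * x 6 (A1 σ a u).2.2.2 * g⁻¹) =
    A1 σ a (pr σ x (g * q * g⁻¹)) := by
  rw [← AA_rep h hg (rep_A1 h a hu), AA_x1 h hg a hu.mem]

omit h hg in
theorem trc_zero (a : E) : trc σ a 0 = 0 := by unfold trc; simp
omit h hg in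
theorem crs_zero (a : E) : crs σ a 0 = 0 := by unfold crs; simp

theorem rel3 (b c : E) : pr σ x (g * x 2 (trc σ b c) * g⁻¹) + pr σ x (g * x 3 c * g⁻¹) =
    A1 σ b (pr σ x (g * x 3 c * g⁻¹)) := by
  have := AA_A1 h hg b (rep_x3 h c)
  unfold A1 at this
  simp only [crs_zero, trc_zero, add_zero, zero_add, zero_mul, AA_zero h hg] at this
  exact this

theorem rel5 (b c : E) : pr σ x (g * x 2 (trc σ (shp σ b) c) * g⁻¹) + pr σ x (g * x 3 (crs σ b c) * g⁻¹) +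
    pr σ x (g * x 5 c * g⁻¹) = A1 σ b (pr σ x (g * x 5 c * g⁻¹)) := by
  have := AA_A1 h hg b (rep_x5 h c)
  unfold A1 at this
  simp only [trc_zero, add_zero, zero_add, zero_mul, AA_zero h hg] at this
  exact this

theorem rel6 (a : E) {t : E} (ht : σ t = t) : pr σ x (g * x 2 (t * nrm σ a) * g⁻¹) +
    pr σ x (g * x 3 (t * shp σ a) * g⁻¹) + pr σ x (g * x 5 (t * a) * g⁻¹) + pr σ x (g * x 6 t * g⁻¹) =
    A1 σ a (pr σ x (g * x 6 t * g⁻¹)) := by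
  have := AA_A1 h hg a (rep_x6 h ht)
  unfold A1 at this
  simp only [crs_zero, trc_zero, add_zero, zero_add] at this
  exact this

theorem AA_add {k : ZMod 12} {a b : E} (ha : Ok σ k a) (hb : Ok σ k b) (hma : x k a ∈ gen σ x (arc 2 5))
    (hmb : x k b ∈ gen σ x (arc 2 5)) :
    pr σ x (g * x k (a + b) * g⁻¹) = pr σ x (g * x k a * g⁻¹) + pr σ x (g * x k b * g⁻¹) := by
  rw [h.add k a b ha hb, AA_mul h hg hma hmb]

omit h hg in
theorem A1_x2 (b f : E) : A1 σ b (f, 0, 0, 0) = (f, 0, 0, 0) := by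
  unfold A1
  simp [trc, crs]

omit h hg in
theorem A1_x6 (a s : E) : A1 σ a (0, 0, 0, s) = (s * nrm σ a, s * shp σ a, s * a, s) := by
  unfold A1
  simp [trc, crs]

/-- the double commutator -/
theorem rel_double {ω : E} (hω : σ ω = ω) (h0 : ω ≠ 0) (h1 : ω ≠ 1) {a b t : E} (ha : σ a = a) (hb : σ b = b)
    (ht : σ t = t) : (pr σ x (g * x 2 ((a ^ 2 * b + a * b ^ 2) * t) * g⁻¹)).1 =
      (a ^ 2 * b + a * b ^ 2) * (pr σ x (g * x 6 t * g⁻¹)).2.2.2 := by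
  have r6 := rel6 h hg a ht
  have r6b := congrArg (A1 σ b) r6
  rw [A1_add, A1_add, A1_add, ← rel3 h hg b (t * shp σ a), ← rel5 h hg b (t * a)] at r6b
  have f1 : σ (t * nrm σ a) = t * nrm σ a := by rw [map_mul, ht, nrm_fix h.cube]
  have u2 := AA_x2 h hg hω h0 h1 f1
  have u6 := AA_x6 h hg hω h0 h1 ht
  have three : ∀ a : E, a + a + a = a := fun a => by rw [h.add_self, zero_add]
  have e1 : trc σ b (t * shp σ a) = a ^ 2 * b * t := by
    unfold trc shp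
    simp only [map_mul, ha, hb, ht]
    rw [three]; ring
  have e2 : trc σ (shp σ b) (t * a) = a * b ^ 2 * t := by
    unfold trc shp
    simp only [map_mul, ha, hb, ht]
    rw [three]; ring
  have e3 : crs σ b (t * a) = 0 := by
    unfold crs
    simp only [map_mul, ha, hb, ht]
    rw [h.add_self]
  have g1 : σ (a ^ 2 * b * t) = a ^ 2 * b * t := by simp only [map_mul, map_pow, ha, hb, ht]
  have g2 : σ (a * b ^ 2 * t) = a * b ^ 2 * t := by simp only [map_mul, map_pow, ha, hb, ht]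
  have u2a := AA_x2 h hg hω h0 h1 g1
  have u2b := AA_x2 h hg hω h0 h1 g2
  have uadd := AA_add h hg (ok_of_fix 2 g1) (ok_of_fix 2 g2) (rep_x2 h g1).mem (rep_x2 h g2).mem
  rw [e1, e2, e3, AA_zero h hg, add_zero] at r6b
  rw [add_mul, uadd]
  rw [u2, A1_x2, ← u2] at r6b
  -- collect
  have e4 : pr σ x (g * x 2 (a ^ 2 * b * t) * g⁻¹) + pr σ x (g * x 2 (a * b ^ 2 * t) * g⁻¹) =
      A1 σ b (A1 σ a (pr σ x (g * x 6 t * g⁻¹))) + A1 σ b (pr σ x (g * x 6 t * g⁻¹)) +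
        (A1 σ a (pr σ x (g * x 6 t * g⁻¹)) + pr σ x (g * x 6 t * g⁻¹)) := by
    rw [← r6b, ← r6]
    generalize pr σ x (g * x 2 (t * nrm σ a) * g⁻¹) = p1
    generalize pr σ x (g * x 3 (t * shp σ a) * g⁻¹) = p2
    generalize pr σ x (g * x 5 (t * a) * g⁻¹) = p3
    generalize pr σ x (g * x 6 t * g⁻¹) = p4
    generalize pr σ x (g * x 2 (a ^ 2 * b * t) * g⁻¹) = p5
    generalize pr σ x (g * x 2 (a * b ^ 2 * t) * g⁻¹) = p6
    generalize A1 σ b p4 = p7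
    have c1 := add_self4 h p1
    have c2 := add_self4 h p2
    have c3 := add_self4 h p3
    have c4 := add_self4 h p4
    have c7 := add_self4 h p7
    have : p1 + (p5 + p2) + (p6 + p3) + p7 + p7 + (p1 + p2 + p3 + p4 + p4) =
        (p5 + p6) + (p1 + p1) + (p2 + p2) + (p3 + p3) + (p4 + p4) + (p7 + p7) := by abel
    rw [this, c1, c2, c3, c4, c7]
    simp
  have hs : σ (pr σ x (g * x 6 t * g⁻¹)).2.2.2 = (pr σ x (g * x 6 t * g⁻¹)).2.2.2 :=
    (rep_pr h (hg.q _ (rep_x6 h ht).mem)).2.1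
  rw [e4, u6]
  simp only [A1_x6, Prod.fst_add]
  generalize (pr σ x (g * x 6 t * g⁻¹)).2.2.2 = s at hs ⊢
  unfold A1 nrm trc shp
  simp only [ha, hb, hs, map_mul]
  have c1 := h.add_self (s * (a * a * a))
  have c2 := h.add_self (s * (b * b * b))
  rw [three, three]
  linear_combination c1 + c2

omit hg in
theorem Nm.one : Nm σ x (1 : Γ) := by
  refine ⟨fun q hq => ?_, fun z hz => ⟨z, hz, ?_⟩, fun a => ?_, fun a => ?_⟩
  · rw [inv_one, one_mul, mul_one]; exact hq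
  · rw [inv_one, one_mul, mul_one]
  · rw [commutatorElement_one_left]; exact one_mem _
  · rw [commutatorElement_one_left]; exact one_mem _

omit h in
theorem Nm.mul {g' : Γ} (hg' : Nm σ x g') : Nm σ x (g * g') := by
  refine ⟨fun q hq => ?_, fun z hz => ?_, fun a => ?_, fun a => ?_⟩
  · have := hg.q _ (hg'.q q hq)
    rwa [show g * (g' * q * g'⁻¹) * g⁻¹ = g * g' * q * (g * g')⁻¹ by group] at this
  · obtain ⟨z', hz', e'⟩ := hg'.z z hz
    obtain ⟨z'', hz'', e''⟩ := hg.z z' hz'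
    refine ⟨z'', hz'', ?_⟩
    rw [← e'', ← e']
    group
  · rw [cml]
    exact mul_mem (hg.q _ (hg'.l a)) (hg.l a)
  · rw [cml]
    exact mul_mem (hg.q _ (hg'.r a)) (hg.r a)

theorem Nm.pow (k : ℕ) : Nm σ x (g ^ k) := by
  induction k with
  | zero => rw [pow_zero]; exact Nm.one h
  | succ k ih => rw [pow_succ]; exact Nm.mul ih hg

theorem Nm.inv {m : ℕ} (hm : g ^ (m + 1) = 1) : Nm σ x g⁻¹ := by
  have : g⁻¹ = g ^ m := (eq_inv_of_mul_eq_one_left (by rw [← pow_succ]; exact hm)).symm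
  rw [this]
  exact Nm.pow h hg m

/-- the scalar by which `g` acts on `X 2` and `X 6` -/
theorem exists_scalar {ω : E} (hω : σ ω = ω) (h0 : ω ≠ 0) (h1 : ω ≠ 1) {m : ℕ} (hm : g ^ (2 * m + 1) = 1) :
    ∃ l, σ l = l ∧ l ≠ 0 ∧ (∀ t, σ t = t → pr σ x (g * x 2 t * g⁻¹) = (l * t, 0, 0, 0)) ∧
      ∀ t, σ t = t → pr σ x (g * x 6 t * g⁻¹) = (0, 0, 0, l * t) := by
  have f2 : ∀ t, σ t = t → σ (pr σ x (g * x 2 t * g⁻¹)).1 = (pr σ x (g * x 2 t * g⁻¹)).1 := fun t ht =>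
    (rep_pr h (hg.q _ (rep_x2 h ht).mem)).1
  have f6 : ∀ t, σ t = t → σ (pr σ x (g * x 6 t * g⁻¹)).2.2.2 = (pr σ x (g * x 6 t * g⁻¹)).2.2.2 := fun t ht =>
    (rep_pr h (hg.q _ (rep_x6 h ht).mem)).2.1
  let φ : Fix σ → Fix σ := fun t => ⟨(pr σ x (g * x 2 (t : E) * g⁻¹)).1, f2 t t.2⟩
  let ψ : Fix σ → Fix σ := fun t => ⟨(pr σ x (g * x 6 (t : E) * g⁻¹)).2.2.2, f6 t t.2⟩
  have hψ : ∀ t : Fix σ, pr σ x (g * x 6 (t : E) * g⁻¹) = (0, 0, 0, (ψ t : E)) := fun t =>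
    AA_x6 h hg hω h0 h1 t.2
  -- powers
  have hpow : ∀ (k : ℕ) (t : Fix σ), pr σ x (g ^ k * x 6 (t : E) * (g ^ k)⁻¹) = (0, 0, 0, ((ψ^[k] t : Fix σ) : E)) := by
    intro k
    induction k with
    | zero =>
      intro t
      rw [pow_zero, inv_one, one_mul, mul_one]
      exact pr_eq h (rep_x6 h t.2)
    | succ k ih =>
      intro t
      have hk := Nm.pow h hg k
      have mk := hk.q _ (rep_x6 h t.2).mem
      have e1 : g ^ (k + 1) * x 6 (t : E) * (g ^ (k + 1))⁻¹ = g * (g ^ k * x 6 (t : E) * (g ^ k)⁻¹) * g⁻¹ := by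
        rw [pow_succ']; group
      have e2 : pr σ x (g ^ k * x 6 (t : E) * (g ^ k)⁻¹) = pr σ x (x 6 ((ψ^[k] t : Fix σ) : E)) := by
        rw [ih t, pr_eq h (rep_x6 h (ψ^[k] t).2)]
      rw [e1, AA_congr h hg mk (rep_x6 h (ψ^[k] t).2).mem e2, hψ, Function.iterate_succ_apply']
  obtain ⟨l, hl0, hl2, hl6⟩ := TwoAlg.scal (F := Fix σ) (ω := ⟨ω, hω⟩) (φ := φ) (ψ := ψ)
    (fun a => Subtype.ext (h.add_self a)) (fun e => h0 (congrArg Subtype.val e)) (fun e => h1 (congrArg Subtype.val e))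
    (by
      intro a b
      apply Subtype.ext
      have := AA_add h hg (ok_of_fix 6 a.2) (ok_of_fix 6 b.2) (rep_x6 h a.2).mem (rep_x6 h b.2).mem
      have := congrArg (fun u : E × E × E × E => u.2.2.2) this
      exact this)
    (by
      intro a ha
      have hi := Nm.inv h hg hm
      have e0 : pr σ x (g * x 6 (a : E) * g⁻¹) = pr σ x (1 : Γ) := by
        rw [hψ, ha, pr_one h]; rfl
      obtain ⟨z, hz, e1⟩ := exists_z h (hg.q _ (rep_x6 h a.2).mem) (one_mem _) e0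
      obtain ⟨z', hz', e2⟩ := hi.z z hz
      have e3 : x 6 (a : E) = x 4 z' := by
        rw [← e2, inv_inv, ← one_mul (x 4 z), ← e1]; group
      have e4 := Rep.unique h (rep_x6 h a.2) (by rw [e3]; exact rep_x4 h hz')
      have e5 := congrArg (fun u : E × E × E × E => u.2.2.2) e4
      exact Subtype.ext e5)
    (by
      intro a b t
      apply Subtype.ext
      exact rel_double h hg hω h0 h1 a.2 b.2 t.2)
    (by
      intro hh t
      have h3 := hpow (2 * m + 1) t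
      rw [hm, inv_one, one_mul, mul_one, pr_eq h (rep_x6 h t.2)] at h3
      have h4 : ψ^[2 * m + 1] t = ψ t := by
        rw [Function.iterate_succ_apply, Function.iterate_mul]
        have : ψ^[2] = id := by
          funext u
          exact hh u
        rw [this, Function.iterate_id]
        rfl
      rw [h4] at h3
      have e5 := congrArg (fun u : E × E × E × E => u.2.2.2) h3
      exact (Subtype.ext e5).symm)
  refine ⟨l, l.2, fun e => hl0 (Subtype.ext e), fun t ht => ?_, fun t ht => ?_⟩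
  · rw [AA_x2 h hg hω h0 h1 ht]
    have := congrArg Subtype.val (hl2 ⟨t, ht⟩)
    change (pr σ x (g * x 2 t * g⁻¹)).1 = l * t at this
    rw [this]
  · rw [AA_x6 h hg hω h0 h1 ht]
    have := congrArg Subtype.val (hl6 ⟨t, ht⟩)
    change (pr σ x (g * x 6 t * g⁻¹)).2.2.2 = l * t at this
    rw [this]

/-- an element trivial on `X 2` and `X 6` is trivial on `Q1 / Z` -/
theorem triv {ω : E} (hω : σ ω = ω) (h0 : ω ≠ 0) (h1 : ω ≠ 1)
    (h2 : ∀ t, σ t = t → pr σ x (g * x 2 t * g⁻¹) = (t, 0, 0, 0))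
    (h6 : ∀ t, σ t = t → pr σ x (g * x 6 t * g⁻¹) = (0, 0, 0, t)) {q : Γ} (hq : q ∈ gen σ x (arc 2 5)) :
    ∃ z, σ z = z ∧ ⁅g, q⁆ = x 4 z := by
  have key : ∀ a t, σ t = t → pr σ x (g * x 3 (t * shp σ a) * g⁻¹) + pr σ x (g * x 5 (t * a) * g⁻¹) =
      (0, t * shp σ a, t * a, 0) := by
    intro a t ht
    have r := rel6 h hg a ht
    have f1 : σ (t * nrm σ a) = t * nrm σ a := by rw [map_mul, ht, nrm_fix h.cube]
    rw [h2 _ f1, h6 t ht, A1_x6] at r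
    generalize pr σ x (g * x 3 (t * shp σ a) * g⁻¹) = p at r ⊢
    generalize pr σ x (g * x 5 (t * a) * g⁻¹) = p' at r ⊢
    obtain ⟨p1, p2, p3, p4⟩ := p
    obtain ⟨p1', p2', p3', p4'⟩ := p'
    simp only [Prod.mk_add_mk, Prod.mk.injEq, zero_add, add_zero] at r ⊢
    obtain ⟨r1, r2, r3, r4⟩ := r
    refine ⟨?_, r2, r3, ?_⟩
    · rw [add_assoc] at r1
      exact add_eq_left.1 r1
    · exact add_eq_right.1 r4
  have m3 : ∀ b, x 3 b ∈ gen σ x (arc 2 5) := fun b => (rep_x3 h b).mem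
  have m5 : ∀ b, x 5 b ∈ gen σ x (arc 2 5) := fun b => (rep_x5 h b).mem
  have hc : ω * ω + ω ≠ 0 := by
    intro e
    have e1 : ω * (ω + 1) = 0 := by rw [← e]; ring
    rcases mul_eq_zero.1 e1 with e2 | e2
    · exact h0 e2
    · exact h1 (add_right_cancel (e2.trans (h.add_self 1).symm))
  have hcf : σ (ω * ω + ω) = ω * ω + ω := by rw [map_add, map_mul, hω]
  have shpω : ∀ a, shp σ (ω * a) = ω * ω * shp σ a := by
    intro a; unfold shp; simp only [map_mul, hω]; ring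
  have e3 : ∀ b, pr σ x (g * x 3 b * g⁻¹) = (0, b, 0, 0) := by
    intro b
    by_cases hb : b = 0
    · subst hb
      rw [AA_zero h hg]; rfl
    · set t := nrm σ b * (ω * ω + ω)⁻¹ with ht
      have htf : σ t = t := by rw [ht, map_mul, map_inv₀, hcf, nrm_fix h.cube]
      have k1 := key (ω * b⁻¹) t htf
      have k2 := key b⁻¹ (ω * t) (by rw [map_mul, hω, htf])
      rw [shpω, show t * (ω * b⁻¹) = ω * t * b⁻¹ by ring, show t * (ω * ω * shp σ b⁻¹) = ω * ω * t * shp σ b⁻¹ by ring]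
        at k1
      have k3 : pr σ x (g * x 3 (ω * ω * t * shp σ b⁻¹) * g⁻¹) + pr σ x (g * x 3 (ω * t * shp σ b⁻¹) * g⁻¹) =
          (0, ω * ω * t * shp σ b⁻¹ + ω * t * shp σ b⁻¹, 0, 0) := by
        have k4 := congrArg₂ (fun u v : E × E × E × E => u + v) k1 k2
        simp only [Prod.mk_add_mk, zero_add, h.add_self (ω * t * b⁻¹)] at k4
        rw [← k4]
        generalize pr σ x (g * x 3 (ω * ω * t * shp σ b⁻¹) * g⁻¹) = p1
        generalize pr σ x (g * x 3 (ω * t * shp σ b⁻¹) * g⁻¹) = p2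
        generalize pr σ x (g * x 5 (ω * t * b⁻¹) * g⁻¹) = p3
        have : p1 + p3 + (p2 + p3) = p1 + p2 + (p3 + p3) := by abel
        rw [this, add_self4 h, add_zero]
      rw [← AA_add h hg (ok3 _) (ok3 _) (m3 _) (m3 _)] at k3
      have e4 : ω * ω * t * shp σ b⁻¹ + ω * t * shp σ b⁻¹ = b := by
        have e5 : ω * ω * t * shp σ b⁻¹ + ω * t * shp σ b⁻¹ = (ω * ω + ω) * t * shp σ b⁻¹ := by ring
        rw [e5, ht]
        have e6 : nrm σ b * shp σ b⁻¹ = b := by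
          have h3 := shp_ne_zero (σ := σ) hb
          have h4 : shp σ b⁻¹ = (shp σ b)⁻¹ := by unfold shp; rw [map_inv₀, map_inv₀, mul_inv]
          have h5 : nrm σ b = b * shp σ b := by unfold nrm shp; ring
          rw [h4, h5, mul_inv_cancel_right₀ h3]
        calc (ω * ω + ω) * (nrm σ b * (ω * ω + ω)⁻¹) * shp σ b⁻¹ =
            ((ω * ω + ω) * (ω * ω + ω)⁻¹) * (nrm σ b * shp σ b⁻¹) := by ring
          _ = b := by rw [mul_inv_cancel₀ hc, one_mul, e6]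
      rw [e4] at k3
      exact k3
  have e5 : ∀ b, pr σ x (g * x 5 b * g⁻¹) = (0, 0, b, 0) := by
    intro b
    have k := key b 1 (map_one σ)
    rw [one_mul, one_mul, e3] at k
    generalize pr σ x (g * x 5 b * g⁻¹) = p at k ⊢
    obtain ⟨p1, p2, p3, p4⟩ := p
    simp only [Prod.mk_add_mk, Prod.mk.injEq, zero_add] at k ⊢
    exact ⟨k.1, add_eq_left.1 k.2.1, k.2.2.1, k.2.2.2⟩
  have e0 : pr σ x (g * q * g⁻¹) = pr σ x q := by
    obtain ⟨u, hu⟩ := Rep.exists h hq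
    rw [AA_rep h hg hu, pr_eq h hu, h2 _ hu.1, e3, e5, h6 _ hu.2.1]
    simp
  have mq := hg.q q hq
  have e1 : pr σ x ⁅g, q⁆ = pr σ x (1 : Γ) := by
    rw [commutatorElement_def, pr_mul h mq (inv_mem hq), pr_inv h hq, e0, add_self4 h, pr_one h]
  obtain ⟨z, hz, e2⟩ := exists_z h (by rw [commutatorElement_def]; exact mul_mem mq (inv_mem hq)) (one_mem _) e1
  exact ⟨z, hz, by rw [e2, one_mul]⟩

omit hg in
theorem tor4 [Finite E] {s : E} (hs : σ s = s) (hs0 : s ≠ 0) :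
    (∀ a, hh x 4 s * x 1 a * (hh x 4 s)⁻¹ = x 1 a) ∧ (∀ a, hh x 4 s * x 7 a * (hh x 4 s)⁻¹ = x 7 a) ∧
    (∀ a, σ a = a → hh x 4 s * x 2 a * (hh x 4 s)⁻¹ = x 2 (s * a)) ∧
    (∀ a, σ a = a → hh x 4 s * x 6 a * (hh x 4 s)⁻¹ = x 6 (s * a)) := by
  have t := fun (j : ZMod 12) (a : E) (ha : Ok σ j a) => h.tor 4 j hs0 (ok_of_fix _ hs) ha
  refine ⟨fun a => ?_, fun a => ?_, fun a ha => ?_, fun a ha => ?_⟩
  · rw [t 1 a (ok1 a)]
    change x 1 (1 * a) = x 1 a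
    rw [one_mul]
  · rw [t 7 a (ok_odd (by decide) a)]
    change x 7 (1 * a) = x 7 a
    rw [one_mul]
  · rw [t 2 a (ok_of_fix _ ha)]
    rfl
  · rw [t 6 a (ok_of_fix _ ha)]
    rfl

omit hg in
theorem Nm.hh4 [Finite E] {s : E} (hs : σ s = s) (hs0 : s ≠ 0) : Nm σ x (hh x 4 s) := by
  obtain ⟨t1, t7, t2, t6⟩ := tor4 h hs hs0
  have hH : hh x 4 s ∈ h.H := h.hh_mem_H 4 hs0 (ok_of_fix _ hs)
  refine ⟨fun q hq => h.H_conj_gen hH _ hq, fun z hz => ?_, fun a => ?_, fun a => ?_⟩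
  · rw [h.tor 4 4 hs0 (ok_of_fix _ hs) (ok_of_fix _ hz)]
    refine ⟨_, ?_, rfl⟩
    rw [sub_self, ch_zero_right, map_mul, map_pow, hs, hz]
  · rw [commutatorElement_def, t1, mul_inv_cancel]; exact one_mem _
  · rw [commutatorElement_def, t7, mul_inv_cancel]; exact one_mem _

theorem sca [Finite E] {ω : E} (hω : σ ω = ω) (h0 : ω ≠ 0) (h1 : ω ≠ 1) (ho : Odd (orderOf g)) :
    ∃ k ∈ h.H, (∀ a, k * x 1 a * k⁻¹ = x 1 a) ∧ (∀ a, k * x 7 a * k⁻¹ = x 7 a) ∧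
      ∀ q ∈ gen σ x (arc 2 5), ∃ z, σ z = z ∧ ⁅g * k, q⁆ = x 4 z := by
  obtain ⟨m, hm⟩ := ho
  have hgm : g ^ (2 * m + 1) = 1 := by rw [← hm]; exact pow_orderOf_eq_one g
  obtain ⟨l, hl, hl0, hl2, hl6⟩ := exists_scalar h hg hω h0 h1 hgm
  have hi : σ l⁻¹ = l⁻¹ := by rw [map_inv₀, hl]
  have hi0 := inv_ne_zero hl0
  obtain ⟨t1, t7, t2, t6⟩ := tor4 h hi hi0
  have hk := Nm.mul hg (Nm.hh4 h hi hi0)
  refine ⟨hh x 4 l⁻¹, h.hh_mem_H 4 hi0 (ok_of_fix _ hi), t1, t7, fun q hq => triv h hk hω h0 h1 ?_ ?_ hq⟩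
  · intro t ht
    have e1 : g * hh x 4 l⁻¹ * x 2 t * (g * hh x 4 l⁻¹)⁻¹ = g * (hh x 4 l⁻¹ * x 2 t * (hh x 4 l⁻¹)⁻¹) * g⁻¹ := by group
    rw [e1, t2 t ht, hl2 _ (by rw [map_mul, hi, ht]), mul_inv_cancel_left₀ hl0]
  · intro t ht
    have e1 : g * hh x 4 l⁻¹ * x 6 t * (g * hh x 4 l⁻¹)⁻¹ = g * (hh x 4 l⁻¹ * x 6 t * (hh x 4 l⁻¹)⁻¹) * g⁻¹ := by group
    rw [e1, t6 t ht, hl6 _ (by rw [map_mul, hi, ht]), mul_inv_cancel_left₀ hl0]

end

/-! ### The interface -/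

section

variable (h : HexTwo σ x) {X : ZMod 12 → Subgroup Γ} (hX : ∀ r y, y ∈ X r ↔ ∃ a, Ok σ r a ∧ y = x r a)
include h hX

theorem QQ_eq : QQ X 4 = gen σ x (arc 2 5) := by
  refine le_antisymm ?_ (gen_le fun l hl a ha => ?_)
  · have g : ∀ r : ZMod 12, r ∈ arc 2 5 → X r ≤ gen σ x (arc 2 5) := by
      intro r hr y hy
      obtain ⟨a, ha, rfl⟩ := (hX r y).1 hy
      exact x_mem_gen hr ha
    exact QQ_le (g _ (by rw [mem_arc]; decide)) (g _ (by rw [mem_arc]; decide)) (g _ (by rw [mem_arc]; decide))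
      (g _ (by rw [mem_arc]; decide)) (g _ (by rw [mem_arc]; decide))
  · have key : ∀ l : ZMod 12, (l - 2).val < 5 → l = 4 - 2 ∨ l = 4 - 1 ∨ l = 4 ∨ l = 4 + 1 ∨ l = 4 + 2 := by decide
    have hm : x l a ∈ X l := (hX l _).2 ⟨a, ha, rfl⟩
    rcases key l hl with e | e | e | e | e
    · exact le_QQ1 4 (by rw [← e]; exact hm)
    · exact le_QQ2 4 (by rw [← e]; exact hm)
    · exact le_QQ3 4 (by rw [← e]; exact hm)
    · exact le_QQ4 4 (by rw [← e]; exact hm)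
    · exact le_QQ5 4 (by rw [← e]; exact hm)

/-- **The facts on the automorphisms of `P'`.** -/
theorem par [Finite E] {ω : E} (hω : σ ω = ω) (h0 : ω ≠ 0) (h1 : ω ≠ 1) : TwoMove.Par h.H X 4 := by
  have three : ∀ a : E, a + a + a = a := fun a => by rw [h.add_self, zero_add]
  refine ⟨?_, ?_, ?_⟩
  · intro g ho hQ hZ hl hr
    rw [QQ_eq h hX] at hQ hl hr ⊢
    have hg : Nm σ x g := by
      refine ⟨hQ, fun z hz => ?_, fun a => ?_, fun a => ?_⟩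
      · obtain ⟨a, ha, e⟩ := (hX 4 _).1 (hZ _ ((hX 4 _).2 ⟨z, ok_of_fix _ hz, rfl⟩))
        exact ⟨a, ha (by decide), e⟩
      · exact hl _ ((hX _ _).2 ⟨a, ok_odd (by decide) a, rfl⟩)
      · exact hr _ ((hX _ _).2 ⟨a, ok_odd (by decide) a, rfl⟩)
    obtain ⟨k, hk, k1, k7, hq⟩ := sca h hg hω h0 h1 ho
    refine ⟨k, hk, ?_, ?_, fun q hqq => ?_⟩
    · intro y hy
      obtain ⟨a, ha, rfl⟩ := (hX _ _).1 hy
      exact k1 a
    · intro y hy
      obtain ⟨a, ha, rfl⟩ := (hX _ _).1 hy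
      exact k7 a
    · obtain ⟨z, hz, e⟩ := hq q hqq
      exact (hX _ _).2 ⟨z, ok_of_fix _ hz, e⟩
  · intro f hf hadd hcomm
    obtain ⟨g, hg, hgb⟩ := hcomm (x 1 1) ((hX _ _).2 ⟨1, ok1 1, rfl⟩)
    obtain ⟨c, hc, rfl⟩ := (hX _ _).1 hg
    have hd : σ (trc σ 1 c) = trc σ 1 c := trc_fix h.cube 1 c
    refine ⟨x 6 (trc σ 1 c), (hX _ _).2 ⟨_, ok_of_fix _ hd, rfl⟩, ?_⟩
    intro y hy
    obtain ⟨b, hb, rfl⟩ := (hX _ _).1 hy
    have hb' : σ b = b := hb (by decide)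
    have e1 := hgb (x 3 b) ((hX _ _).2 ⟨b, ok3 b, rfl⟩)
    have c1 := h.commS2 (k := 1) (by decide) 1 b
    rw [show (1 : ZMod 12) + 1 = 2 from rfl, show (1 : ZMod 12) + 2 = 3 from rfl] at c1
    have e2 : trc σ 1 b = b := by unfold trc; rw [one_mul, hb', hb', three]
    rw [c1, e2] at e1
    have c2 := h.commS2 (k := 3) (by decide) b c
    rw [show (3 : ZMod 12) + 1 = 4 from rfl, show (3 : ZMod 12) + 2 = 5 from rfl] at c2
    have c3 : ⁅x 5 c, x 3 b⁆ = x 4 (trc σ b c) := by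
      rw [← commutatorElement_inv, c2, h.x_inv (ok_of_fix _ (trc_fix h.cube b c))]
    have c4 := h.commL4 (k := 2) (by decide) hb' hd
    rw [show (2 : ZMod 12) + 2 = 4 from rfl, show (2 : ZMod 12) + 4 = 6 from rfl] at c4
    have c5 : ⁅x 6 (trc σ 1 c), x 2 b⁆ = x 4 (b * trc σ 1 c) := by
      rw [← commutatorElement_inv, c4, h.x_inv (ok_of_fix _ (by rw [map_mul, hb', hd]))]
    have e3 : f (x 2 b) = ⁅x 5 c, x 3 b⁆ := e1
    have e4 : ⁅x 6 (trc σ 1 c), x 2 b⁆ = f (x 2 b) := by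
      rw [c5, e3, c3]
      congr 1
      unfold trc
      simp only [map_mul, hb', map_one]
      ring
    exact e4.symm
  · intro f hf hadd hcomm
    obtain ⟨g, hg, hgb⟩ := hcomm (x 7 1) ((hX _ _).2 ⟨1, ok_one σ _, rfl⟩)
    obtain ⟨c, hc, rfl⟩ := (hX _ _).1 hg
    have hd : σ (trc σ 1 c) = trc σ 1 c := trc_fix h.cube 1 c
    refine ⟨x 2 (trc σ 1 c), (hX _ _).2 ⟨_, ok_of_fix _ hd, rfl⟩, ?_⟩
    intro y hy
    obtain ⟨b, hb, rfl⟩ := (hX _ _).1 hy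
    have hb' : σ b = b := hb (by decide)
    have e1 := hgb (x 5 b) ((hX _ _).2 ⟨b, ok5 b, rfl⟩)
    have c1 := h.commS2 (k := 5) (by decide) b 1
    rw [show (5 : ZMod 12) + 1 = 6 from rfl, show (5 : ZMod 12) + 2 = 7 from rfl] at c1
    have e2 : trc σ b 1 = b := by unfold trc; rw [mul_one, hb', hb', three]
    have c1' : ⁅x 7 1, x 5 b⁆ = x 6 b := by
      rw [← commutatorElement_inv, c1, e2, h.x_inv (ok_of_fix _ hb')]
    rw [c1'] at e1
    have c2 := h.commS2 (k := 3) (by decide) c b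
    rw [show (3 : ZMod 12) + 1 = 4 from rfl, show (3 : ZMod 12) + 2 = 5 from rfl] at c2
    have c4 := h.commL4 (k := 2) (by decide) hd hb'
    rw [show (2 : ZMod 12) + 2 = 4 from rfl, show (2 : ZMod 12) + 4 = 6 from rfl] at c4
    have e3 : f (x 6 b) = ⁅x 3 c, x 5 b⁆ := e1
    have e4 : ⁅x 2 (trc σ 1 c), x 6 b⁆ = f (x 6 b) := by
      rw [c4, e3, c2]
      congr 1
      unfold trc
      simp only [map_mul, hb', map_one]
      ring
    exact e4.symm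

theorem hopp [Finite E] : ∀ k ∈ h.H, Cen k (X (4 - 3)) → Cen k (X (4 + 3)) := by
  rintro _ ⟨s, t, hs, ht, ht', rfl⟩ hc y hy
  obtain ⟨a, ha, rfl⟩ := (hX _ _).1 hy
  have e1 := hc (x 1 1) ((hX _ _).2 ⟨1, ok1 1, rfl⟩)
  rw [h.H_act hs ht ht' (ok1 1)] at e1
  have ok : Ok σ (1 : ZMod 12) (ch σ 1 (1 - 1) s * ch σ 6 (1 - 6) t * 1) := ok_odd (by decide) _
  have e2 := (h.x_inj ok (ok1 1)).1 e1
  rw [mul_one] at e2
  have e3 : ch σ 1 (7 - 1) s * ch σ 6 (7 - 6) t = 1 := by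
    have a1 : ch σ 1 (7 - 1) s = (ch σ 1 (1 - 1) s)⁻¹ := by
      rw [← ch_opp]; rfl
    have a2 : ch σ 6 (7 - 6) t = (ch σ 6 (1 - 6) t)⁻¹ := by
      rw [← ch_opp]; rfl
    rw [a1, a2, ← mul_inv, e2, inv_one]
  have e4 := h.H_act hs ht ht' (j := 7) (a := a) (ok_odd (by decide) a)
  rw [e3, one_mul] at e4
  exact e4

end

end Cfsg.Agent.HexGrow.TwoCoord
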