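import Cfsg.Agent.HexGrow.TwoCoord
import Cfsg.Agent.StdRank2.HexSylow

/-!
# S1778, types `G2(q)` and `3D4(q)`, `q ≥ 4`: step (2) of the growth, final form

`long_hex` : an element `n₀` normalising `P₁ = ⟨X 1, …, X 7⟩` with `n₀ t n₀⁻¹ ∈ t (X 4 \ 1)` gives the doubled long root groups.
-/

set_option autoImplicit false
set_option linter.unusedSectionVars false

namespace Cfsg.Agent.HexGrow.TwoEnd

open Cfsg.Agent.SplitTwo Cfsg.Agent.StdRank2.Hex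
open Cfsg.Agent.StdRank2.Hex.HexTwo
open scoped commutatorElement
open Defs TwoBase TwoCoord TwoLong

variable {E : Type*} [Field E] {σ : E ≃+* E} {Γ : Type*} [Group Γ] {x : ZMod 12 → E → Γ}

theorem Q_normal (h : HexTwo σ x) {p q : Γ} (hp : p ∈ gen σ x (arc 1 7)) (hq : q ∈ gen σ x (arc 2 5)) :
    p * q * p⁻¹ ∈ gen σ x (arc 2 5) := by
  have hq' : q ∈ gen σ x (arc (1 + 1) 5) := hq
  obtain ⟨u, hu, l, hl, rfl⟩ := (h.mem_P 1).1 hp
  have h1 : l * q * l⁻¹ ∈ gen σ x (arc (1 + 1) 5) := h.L_conj 1 hl hq'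
  have h2 : u * (l * q * l⁻¹) * u⁻¹ ∈ gen σ x (arc (1 + 1) 5) := mul_mem (mul_mem hu h1) (inv_mem hu)
  rwa [show u * (l * q * l⁻¹) * u⁻¹ = u * l * q * (u * l)⁻¹ by group] at h2

/-- `Q₁` is characteristic in `P₁` -/
theorem P_norm_Q [Finite E] [Finite Γ] (h : HexTwo σ x) {n₀ : Γ}
    (hP : ∀ a ∈ gen σ x (arc 1 7), n₀ * a * n₀⁻¹ ∈ gen σ x (arc 1 7)) {q : Γ} (hq : q ∈ gen σ x (arc 2 5)) :
    n₀ * q * n₀⁻¹ ∈ gen σ x (arc 2 5) := by
  have hN : n₀ ∈ NN (gen σ x (arc 1 7)) := mem_NN_of_finite hP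
  have hQP : gen σ x (arc 2 5) ≤ gen σ x (arc 1 7) := gen_mono (by
    have : ∀ l : ZMod 12, (l - 2).val < 5 → (l - 1).val < 7 := by decide
    exact this)
  have hUP : UU σ x ≤ gen σ x (arc 1 7) := gen_mono (arc_mono (by norm_num))
  set Q' : Subgroup Γ := (gen σ x (arc 2 5)).map (MulAut.conj n₀).toMonoidHom with hQ'
  have memQ' : ∀ y, y ∈ Q' ↔ n₀⁻¹ * y * n₀ ∈ gen σ x (arc 2 5) := by
    intro y
    constructor
    · rintro ⟨q, hq, rfl⟩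
      have : n₀⁻¹ * (MulAut.conj n₀).toMonoidHom q * n₀ = q := by
        show n₀⁻¹ * (n₀ * q * n₀⁻¹) * n₀ = q
        group
      rw [this]; exact hq
    · intro hy
      refine ⟨_, hy, ?_⟩
      show n₀ * (n₀⁻¹ * y * n₀) * n₀⁻¹ = y
      group
  have h2 : IsPGroup 2 Q' := by
    have h3 : IsPGroup 2 (gen σ x (arc 2 5)) := by
      have hU := h.isPGroup_U
      have h4 : gen σ x (arc 2 5) ≤ UU σ x := gen_mono (by
        have : ∀ l : ZMod 12, (l - 2).val < 5 → (l - 1).val < 6 := by decide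
        exact this)
      exact hU.to_le h4
    exact h3.map _
  have hQ'P : Q' ≤ gen σ x (arc 1 7) := by
    intro y hy
    have h3 := hP _ (hQP ((memQ' y).1 hy))
    rwa [show n₀ * (n₀⁻¹ * y * n₀) * n₀⁻¹ = y by group] at h3
  have hnorm : ∀ p ∈ gen σ x (arc 1 7), ∀ y ∈ Q', p * y * p⁻¹ ∈ Q' := by
    intro p hp y hy
    rw [memQ'] at hy ⊢
    have h3 := Q_normal h (hN.2 p hp) hy
    rwa [show n₀⁻¹ * p * n₀ * (n₀⁻¹ * y * n₀) * (n₀⁻¹ * p * n₀)⁻¹ = n₀⁻¹ * (p * y * p⁻¹) * n₀ by group] at h3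
  obtain ⟨p, hp, hpy⟩ := h.sylow_conj hUP (gen_le_AA _) h2 hQ'P
  have hU : ∀ y ∈ Q', y ∈ UU σ x := by
    intro y hy
    have h3 := hpy _ (hnorm p⁻¹ (inv_mem hp) y hy)
    rwa [show p * (p⁻¹ * y * p⁻¹⁻¹) * p⁻¹ = y by group] at h3
  have hn : nn x 1 ∈ gen σ x (arc 1 7) := nn_mem_gen (by rw [mem_arc]; decide) (by rw [mem_arc]; decide)
  have hy : n₀ * q * n₀⁻¹ ∈ Q' := by
    rw [memQ', show n₀⁻¹ * (n₀ * q * n₀⁻¹) * n₀ = q by group]; exact hq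
  have h3 := hU _ hy
  have h4 := hU _ (hnorm _ (inv_mem hn) _ hy)
  have h5 : n₀ * q * n₀⁻¹ ∈ gen σ x (arc 2 6) := by
    have h6 := h.nn_conj_gen (S := arc 1 6) (T := arc 2 6) 1 (fun l hl => by
      have : ∀ l : ZMod 12, (l - 1).val < 6 → (2 * 1 + 6 - l - 2).val < 6 := by decide
      exact this l hl) h4
    rwa [show nn x 1 * ((nn x 1)⁻¹ * (n₀ * q * n₀⁻¹) * (nn x 1)⁻¹⁻¹) * (nn x 1)⁻¹ = n₀ * q * n₀⁻¹ by group] at h6
  obtain ⟨a, ha, v, hv, e⟩ := (h.mem_gen_first (k := 1) (n := 5) (by norm_num)).1 h3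
  have hv' : v ∈ gen σ x (arc 2 5) := hv
  have h6 : x 1 a ∈ gen σ x (arc 2 6) := by
    have h7 : v ∈ gen σ x (arc 2 6) := gen_mono (arc_mono (by norm_num)) hv'
    have h8 := mul_mem h5 (inv_mem h7)
    rwa [e, mul_inv_cancel_right] at h8
  have h7 : a = 0 := by
    by_contra ha0
    have := h.root_mem_arc (by norm_num) ha ha0 h6
    rw [mem_arc] at this
    revert this
    decide
  rw [e, h7, h.x_zero, one_mul]
  exact hv'

section

variable {t : Γ} {X : ZMod 12 → Subgroup Γ} {n : ZMod 12 → Γ}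

/-- `Z` is the centre of `P₁` -/
theorem P_norm_Z [Finite Γ] {T : Subgroup Γ} (e : Env t T X n) {r : ZMod 12} (hr : Ev r) {n₀ : Γ}
    (hP : ∀ a ∈ PP X r, n₀ * a * n₀⁻¹ ∈ PP X r) {z : Γ} (hz : z ∈ X r) : n₀ * z * n₀⁻¹ ∈ X r := by
  have hN : n₀ ∈ NN (PP X r) := mem_NN_of_finite hP
  have hm : n₀ * z * n₀⁻¹ ∈ PP X r := hP z (le_PPm r (le_QQ3 r hz))
  have hc : ∀ a ∈ QQ X r, n₀ * z * n₀⁻¹ * a = a * (n₀ * z * n₀⁻¹) := by
    intro a ha
    have h1 := EnvL.central e hr hz (hN.2 a (le_PPm r ha))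
    calc n₀ * z * n₀⁻¹ * a = n₀ * (z * (n₀⁻¹ * a * n₀)) * n₀⁻¹ := by group
      _ = _ := by rw [← h1]; group
  rcases e.cQ1' r hr _ (EnvL.t_PP e hm) hc with h0 | h0
  · exact h0
  · exfalso
    have h3 : PP X r ≤ ⨆ r, X r := PP_le (le_iSup X _)
      (QQ_le (le_iSup X _) (le_iSup X _) (le_iSup X _) (le_iSup X _) (le_iSup X _)) (le_iSup X _)
    have h4 := mul_mem (le_iSup X r h0) (inv_mem (h3 hm))
    rw [mul_inv_cancel_right] at h4
    exact e.tnot h4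

variable (h : HexTwo σ x) (hX : ∀ r y, y ∈ X r ↔ ∃ a, Ok σ r a ∧ y = x r a)
include h hX

theorem PP_eq : PP X 4 = gen σ x (arc 1 7) := by
  refine le_antisymm ?_ (gen_le fun l hl a ha => ?_)
  · have g : ∀ r : ZMod 12, r ∈ arc 1 7 → X r ≤ gen σ x (arc 1 7) := by
      intro r hr y hy
      obtain ⟨a, ha, rfl⟩ := (hX r y).1 hy
      exact x_mem_gen hr ha
    exact PP_le (g _ (by rw [mem_arc]; decide)) (QQ_le (g _ (by rw [mem_arc]; decide)) (g _ (by rw [mem_arc]; decide))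
      (g _ (by rw [mem_arc]; decide)) (g _ (by rw [mem_arc]; decide)) (g _ (by rw [mem_arc]; decide)))
      (g _ (by rw [mem_arc]; decide))
  · have key : ∀ l : ZMod 12, (l - 1).val < 7 → l = 4 - 3 ∨ (l - 2).val < 5 ∨ l = 4 + 3 := by decide
    have hm : x l a ∈ X l := (hX l _).2 ⟨a, ha, rfl⟩
    rcases key l hl with e | e | e
    · exact le_PPl 4 (by rw [← e]; exact hm)
    · refine le_PPm 4 ?_
      rw [QQ_eq h hX]
      exact x_mem_gen e ha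
    · exact le_PPr 4 (by rw [← e]; exact hm)

/-- **Step (2) of the growth for the types `G2(q)` and `3D4(q)`, `q ≥ 4`.** -/
theorem long_hex [Finite E] [Finite Γ] {ω : E} (hω : σ ω = ω) (h0 : ω ≠ 0) (h1 : ω ≠ 1) (e : Env t h.H X n)
    {n₀ z₁ : Γ} (ht : n₀ * t * n₀⁻¹ = t * z₁) (hz : z₁ ∈ X 4) (hz1 : z₁ ≠ 1)
    (hP : ∀ a ∈ gen σ x (arc 1 7), n₀ * a * n₀⁻¹ ∈ gen σ x (arc 1 7)) : Long t h.H X n (VV t h.H X) := by
  refine long_of_mover e (r := 4) (by decide) (par h hX hω h0 h1) (hopp h hX) ht hz hz1 ?_ ?_ ?_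
  · rw [PP_eq h hX]; exact hP
  · rw [QQ_eq h hX]; exact fun a ha => P_norm_Q h hP ha
  · exact fun a ha => P_norm_Z e (by decide) (by rw [PP_eq h hX]; exact hP) ha

end

end Cfsg.Agent.HexGrow.TwoEnd
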