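import Cfsg.Agent.HexGrow.TwoMove

/-!
# S1778, types `G2(q)` and `3D4(q)`: step (2), the doubled long root groups

`long_of_mover` : `Env` and an element `n₀` normalising `P'(r)`, `Q1(r)`, `Z = X r` with `n₀ t n₀⁻¹ ∈ t (Z \ 1)` give
`Long`, modulo facts on the automorphisms of `P'` (structure `Par`).
-/

set_option autoImplicit false
set_option linter.unusedSectionVars false

namespace Cfsg.Agent.HexGrow.TwoLong

open scoped commutatorElement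
open Defs TwoBase TwoBase.EnvL TwoMove

variable {G : Type*} [Group G] {t : G} {T : Subgroup G} {X : ZMod 12 → Subgroup G} {n : ZMod 12 → G}

theorem tmul {r : ZMod 12} {y y' : G} (hy : ∀ z ∈ X r, y * z = z * y) (h' : ⁅t, y'⁆ ∈ X r) :
    ⁅t, y * y'⁆ = ⁅t, y⁆ * ⁅t, y'⁆ := by
  rw [cmr, conj_fix (hy _ h')]

/-- `C(P') ∩ N(⟨t⟩Z)` -/
def Yg (t : G) (X : ZMod 12 → Subgroup G) (r : ZMod 12) : Subgroup G where
  carrier := {y | (∀ p ∈ PP X r, y * p = p * y) ∧ ⁅t, y⁆ ∈ X r}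
  mul_mem' := by
    rintro a b ⟨ha, ha'⟩ ⟨hb, hb'⟩
    refine ⟨fun p hp => by rw [mul_assoc, hb p hp, ← mul_assoc, ha p hp, mul_assoc], ?_⟩
    rw [tmul (fun z hz => ha z (le_PPm r (le_QQ3 r hz))) hb']
    exact mul_mem ha' hb'
  one_mem' := ⟨fun p _ => by rw [one_mul, mul_one], by rw [commutatorElement_one_right]; exact one_mem _⟩
  inv_mem' := by
    rintro a ⟨ha, ha'⟩
    refine ⟨fun p hp => ?_, ?_⟩
    · have := ha p hp
      calc a⁻¹ * p = a⁻¹ * (p * a) * a⁻¹ := by group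
        _ = p * a⁻¹ := by rw [← this]; group
    · have e1 : ⁅t, a⁻¹⁆ = a⁻¹ * ⁅t, a⁆⁻¹ * a := by simp only [commutatorElement_def]; group
      have h1 := ha _ (le_PPm r (le_QQ3 r (inv_mem ha')))
      rw [e1, mul_assoc, ← h1, inv_mul_cancel_left]
      exact inv_mem ha'

/-- `Z [Y, T]` -/
def VV (t : G) (T : Subgroup G) (X : ZMod 12 → Subgroup G) (r : ZMod 12) : Subgroup G :=
  X r ⊔ Subgroup.closure {g | ∃ h ∈ T, ∃ y ∈ Yg t X r, g = ⁅h, y⁆}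

variable {r : ZMod 12}

theorem cz {y z : G} (hy : y ∈ Yg t X r) (hz : z ∈ X r) : y * z = z * y := hy.1 z (le_PPm r (le_QQ3 r hz))

variable (e : Env t T X n)
include e

theorem T_Yg {h y : G} (hh : h ∈ T) (hy : y ∈ Yg t X r) : h * y * h⁻¹ ∈ Yg t X r := by
  refine ⟨fun p hp => ?_, ?_⟩
  · have hp' : h⁻¹ * p * h ∈ PP X r := by
      have := T_PP e (inv_mem hh) hp
      rwa [inv_inv] at this
    have := hy.1 _ hp'
    calc h * y * h⁻¹ * p = h * (y * (h⁻¹ * p * h)) * h⁻¹ := by group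
      _ = p * (h * y * h⁻¹) := by rw [this]; group
  · have h1 : h * t * h⁻¹ = t := conj_fix (e.tT h hh)
    have h2 : ⁅t, h * y * h⁻¹⁆ = h * ⁅t, y⁆ * h⁻¹ := by rw [comm_conj, h1]
    rw [h2]
    exact e.TX h hh _ _ hy.2

theorem T_comm {h y : G} (hh : h ∈ T) (hy : y ∈ Yg t X r) : ⁅t, h * y * h⁻¹⁆ = h * ⁅t, y⁆ * h⁻¹ := by
  have h1 : h * t * h⁻¹ = t := conj_fix (e.tT h hh)
  rw [comm_conj, h1]

theorem nXinv [Finite G] (k r : ZMod 12) {a : G} (ha : a ∈ X r) : (n k)⁻¹ * a * n k ∈ X (2 * k + 6 - r) := by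
  let f : ∀ s, X s → X (2 * k + 6 - s) := fun s a => ⟨n k * a * (n k)⁻¹, e.nX k s a a.2⟩
  have hinj : ∀ s, Function.Injective (f s) := by
    intro s a b hab
    have h0 : n k * (a : G) * (n k)⁻¹ = n k * b * (n k)⁻¹ := congrArg Subtype.val hab
    exact Subtype.ext (mul_left_cancel (mul_right_cancel h0))
  have hs : 2 * k + 6 - (2 * k + 6 - r) = r := by ring
  have h1 := Nat.card_le_card_of_injective _ (hinj r)
  have h2 := Nat.card_le_card_of_injective _ (hinj (2 * k + 6 - r))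
  rw [hs] at h2
  have hbij : Function.Bijective (f (2 * k + 6 - r)) := by
    refine (Nat.bijective_iff_injective_and_card _).2 ⟨hinj _, ?_⟩
    rw [hs]
    exact le_antisymm h2 h1
  have ha' : a ∈ X (2 * k + 6 - (2 * k + 6 - r)) := by rwa [hs]
  obtain ⟨b, hb⟩ := hbij.2 ⟨a, ha'⟩
  have h3 : n k * (b : G) * (n k)⁻¹ = a := congrArg Subtype.val hb
  have h4 : (n k)⁻¹ * a * n k = b := by rw [← h3]; group
  rw [h4]
  exact b.2

theorem n_QQ_inv [Finite G] (k : ZMod 12) {p : G} (hp : p ∈ QQ X (2 * k + 6 - r)) : (n k)⁻¹ * p * n k ∈ QQ X r := by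
  have : QQ X (2 * k + 6 - r) ≤ (QQ X r).comap (MulAut.conj (n k)⁻¹).toMonoidHom := by
    have g : ∀ s s', s' = 2 * k + 6 - s → X s' ≤ QQ X r → X s ≤ (QQ X r).comap (MulAut.conj (n k)⁻¹).toMonoidHom := by
      intro s s' hs' hs b hb
      rw [Subgroup.mem_comap]
      show (n k)⁻¹ * b * (n k)⁻¹⁻¹ ∈ QQ X r
      rw [inv_inv]
      apply hs
      rw [hs']
      exact nXinv e k s hb
    refine QQ_le (g _ _ ?_ (le_QQ5 r)) (g _ _ ?_ (le_QQ4 r)) (g _ _ ?_ (le_QQ3 r)) (g _ _ ?_ (le_QQ2 r))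
      (g _ _ ?_ (le_QQ1 r)) <;> ring
  have h2 := this hp
  rw [Subgroup.mem_comap] at h2
  have h3 : (n k)⁻¹ * p * (n k)⁻¹⁻¹ ∈ QQ X r := h2
  rwa [inv_inv] at h3

theorem n_PP_inv [Finite G] (k : ZMod 12) {p : G} (hp : p ∈ PP X (2 * k + 6 - r)) : (n k)⁻¹ * p * n k ∈ PP X r := by
  have : PP X (2 * k + 6 - r) ≤ (PP X r).comap (MulAut.conj (n k)⁻¹).toMonoidHom := by
    have g : ∀ s s', s' = 2 * k + 6 - s → X s' ≤ PP X r → X s ≤ (PP X r).comap (MulAut.conj (n k)⁻¹).toMonoidHom := by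
      intro s s' hs' hs b hb
      rw [Subgroup.mem_comap]
      show (n k)⁻¹ * b * (n k)⁻¹⁻¹ ∈ PP X r
      rw [inv_inv]
      apply hs
      rw [hs']
      exact nXinv e k s hb
    refine PP_le (g _ _ ?_ (le_PPr r)) ?_ (g _ _ ?_ (le_PPl r))
    · ring
    · intro q hq
      rw [Subgroup.mem_comap]
      show (n k)⁻¹ * q * (n k)⁻¹⁻¹ ∈ PP X r
      rw [inv_inv]
      exact le_PPm r (n_QQ_inv e k hq)
    · ring
  have h2 := this hp
  rw [Subgroup.mem_comap] at h2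
  have h3 : (n k)⁻¹ * p * (n k)⁻¹⁻¹ ∈ PP X r := h2
  rwa [inv_inv] at h3

theorem n_Yg [Finite G] (k : ZMod 12) {y : G} (hy : y ∈ Yg t X r) : n k * y * (n k)⁻¹ ∈ Yg t X (2 * k + 6 - r) := by
  refine ⟨fun p hp => ?_, ?_⟩
  · have := hy.1 _ (n_PP_inv e k hp)
    calc n k * y * (n k)⁻¹ * p = n k * (y * ((n k)⁻¹ * p * n k)) * (n k)⁻¹ := by group
      _ = p * (n k * y * (n k)⁻¹) := by rw [this]; group
  · have h1 : n k * t * (n k)⁻¹ = t := conj_fix (e.tn k)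
    have h2 : ⁅t, n k * y * (n k)⁻¹⁆ = n k * ⁅t, y⁆ * (n k)⁻¹ := by rw [comm_conj, h1]
    rw [h2]
    exact e.nX k r _ hy.2

variable (hr : Ev r)
include hr

theorem X_le_Yg : X r ≤ Yg t X r := fun z hz =>
  ⟨fun _ hp => (central e hr hz hp).symm, by rw [comm_one_iff.2 (e.tX r z hz).symm]; exact one_mem _⟩

theorem t_Yg : t ∈ Yg t X r :=
  ⟨fun _ hp => (t_PP e hp).symm, by rw [commutatorElement_self]; exact one_mem _⟩

/-- `C_Y(t) = ⟨t⟩Z` -/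
theorem cent_t {y : G} (hy : y ∈ Yg t X r) (hyt : y * t = t * y) : y ∈ X r ∨ t * y ∈ X r :=
  e.cQ1' r hr y hyt (fun a ha => hy.1 a (le_PPm r ha))

theorem sq_mem {y : G} (hy : y ∈ Yg t X r) : y * y ∈ X r := by
  have h1 : ⁅t, y * y⁆ = 1 := by
    rw [tmul (fun z hz => cz hy hz) hy.2]
    exact e.sq r _ hy.2
  rcases cent_t e hr (mul_mem hy hy) (comm_one_iff.1 h1).symm with h | h
  · exact h
  · exfalso
    -- `t = z y⁻²` commutes with `y`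
    have h2 : y * t = t * y := by
      have h3 := cz hy h
      have h4 : y * t * (y * y) = t * y * (y * y) := by
        calc y * t * (y * y) = y * (t * (y * y)) := by group
          _ = (t * (y * y)) * y := h3
          _ = _ := by group
      exact mul_right_cancel h4
    rcases cent_t e hr hy h2 with h5 | h5
    · rw [e.sq r y h5, mul_one] at h
      exact t_notin e h
    · have h6 : (t * y) * (t * y) = 1 := e.sq r _ h5
      have h7 : y * y = 1 := by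
        calc y * y = (t * t) * (y * y) := by rw [e.tt, one_mul]
          _ = t * (t * y) * y := by group
          _ = t * (y * t) * y := by rw [h2]
          _ = (t * y) * (t * y) := by group
          _ = 1 := h6
      rw [h7, mul_one] at h
      exact t_notin e h

theorem comm_mem {y y' : G} (hy : y ∈ Yg t X r) (hy' : y' ∈ Yg t X r) : ⁅y, y'⁆ ∈ X r := by
  have h1 := sq_mem e hr hy
  have h2 := sq_mem e hr hy'
  have h3 := sq_mem e hr (mul_mem hy hy')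
  have e1 : ⁅y, y'⁆ = (y * y') * (y * y') * (y * y)⁻¹ * (y' * y')⁻¹ := by
    have c1 := cz hy' (inv_mem h1)
    calc ⁅y, y'⁆ = y * y' * y * ((y * y)⁻¹ * y'⁻¹) := by simp only [commutatorElement_def]; group
      _ = y * y' * y * (y' * (y' * y')⁻¹ * (y * y)⁻¹) := by
          rw [show (y * y)⁻¹ * y'⁻¹ = y'⁻¹ * (y * y)⁻¹ by
            have := cz (inv_mem hy') (inv_mem h1)
            exact this.symm]
          group
      _ = y * y' * y * y' * ((y' * y')⁻¹ * (y * y)⁻¹) := by group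
      _ = y * y' * y * y' * ((y * y)⁻¹ * (y' * y')⁻¹) := by rw [ab e (inv_mem h2) (inv_mem h1)]
      _ = _ := by group
  rw [e1]
  exact mul_mem (mul_mem h3 (inv_mem h1)) (inv_mem h2)

theorem VV_le_Yg : VV t T X r ≤ Yg t X r := by
  refine sup_le (X_le_Yg e hr) ?_
  rw [Subgroup.closure_le]
  rintro _ ⟨h, hh, y, hy, rfl⟩
  rw [commutatorElement_def]
  exact mul_mem (T_Yg e hh hy) (inv_mem hy)

omit hr in
theorem X_le_VV : X r ≤ VV t T X r := le_sup_left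

omit hr in
theorem comm_VV {h y : G} (hh : h ∈ T) (hy : y ∈ Yg t X r) : ⁅h, y⁆ ∈ VV t T X r :=
  (le_sup_right : _ ≤ VV t T X r) (Subgroup.subset_closure ⟨h, hh, y, hy, rfl⟩)

omit hr in
theorem T_VV {h y : G} (hh : h ∈ T) (hy : y ∈ VV t T X r) : h * y * h⁻¹ ∈ VV t T X r := by
  have : VV t T X r ≤ (VV t T X r).comap (MulAut.conj h).toMonoidHom := by
    refine sup_le ?_ ?_
    · intro z hz
      exact X_le_VV e (e.TX h hh r z hz)
    · rw [Subgroup.closure_le]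
      rintro _ ⟨k, hk, y, hy, rfl⟩
      show h * ⁅k, y⁆ * h⁻¹ ∈ VV t T X r
      rw [comm_conj]
      refine comm_VV e ?_ (T_Yg e hh hy)
      exact mul_mem (mul_mem hh hk) (inv_mem hh)
  exact this hy

omit hr in
theorem n_VV [Finite G] (k : ZMod 12) {y : G} (hy : y ∈ VV t T X r) : n k * y * (n k)⁻¹ ∈ VV t T X (2 * k + 6 - r) := by
  have : VV t T X r ≤ (VV t T X (2 * k + 6 - r)).comap (MulAut.conj (n k)).toMonoidHom := by
    refine sup_le ?_ ?_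
    · intro z hz
      exact X_le_VV e (e.nX k r z hz)
    · rw [Subgroup.closure_le]
      rintro _ ⟨h, hh, y, hy, rfl⟩
      show n k * ⁅h, y⁆ * (n k)⁻¹ ∈ VV t T X (2 * k + 6 - r)
      rw [comm_conj]
      exact comm_VV e (e.nT k h hh) (n_Yg e k hy)
  exact this hy

/-- `t ∉ [Y, h] Z` -/
theorem t_not {h : G} (hh : h ∈ T) (hf : Fpf h (X r)) {y z : G} (hy : y ∈ Yg t X r) (hz : z ∈ X r) :
    ⁅h, y⁆ ≠ t * z := by
  intro h0
  have h1 : h * y * h⁻¹ = t * z * y := by rw [conj_eq, h0]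
  have h2 : ⁅t, t * z * y⁆ = ⁅t, y⁆ := by
    have h3 : ⁅t, t * z⁆ = 1 := by
      rw [comm_one_iff]
      have := e.tX r z hz
      calc t * (t * z) = t * (z * t) := by rw [this]
        _ = _ := by group
    rw [tmul (fun w hw => cz (mul_mem (t_Yg e hr) (X_le_Yg e hr hz)) hw) hy.2, h3, one_mul]
  have h3 : h * ⁅t, y⁆ * h⁻¹ = ⁅t, y⁆ := by rw [← T_comm e hh hy, h1, h2]
  have h4 := hf _ hy.2 h3
  have key : ⁅h, y⁆ ∈ X r := by
    rcases cent_t e hr hy (comm_one_iff.1 h4).symm with h5 | h5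
    · rw [commutatorElement_def]
      exact mul_mem (e.TX h hh r y h5) (inv_mem h5)
    · have h6 : y = t * (t * y) := by rw [← mul_assoc, e.tt, one_mul]
      rw [h6, cmr, comm_one_iff.2 (e.tT h hh), one_mul]
      have h7 : ⁅h, t * y⁆ ∈ X r := by
        rw [commutatorElement_def]
        exact mul_mem (e.TX h hh r _ h5) (inv_mem h5)
      rw [conj_fix (e.tX r _ h7).symm]
      exact h7
  rw [h0] at key
  have := mul_mem key (inv_mem hz)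
  rw [mul_inv_cancel_right] at this
  exact t_notin e this

/-- all commutators occur -/
theorem Y_onto (hm : ∃ y ∈ Yg t X r, ⁅t, y⁆ ≠ 1) {a : G} (ha : a ∈ X r) : ∃ y ∈ Yg t X r, ⁅t, y⁆ = a := by
  obtain ⟨y, hy, hy1⟩ := hm
  by_cases h1 : a = 1
  · exact ⟨1, one_mem _, by rw [h1, commutatorElement_one_right]⟩
  · obtain ⟨h, hh, e1⟩ := e.ttr r _ hy.2 a ha hy1 h1
    exact ⟨h * y * h⁻¹, T_Yg e hh hy, by rw [T_comm e hh hy, e1]⟩

/-- every element of `Y` is in `[Y, h] Z` or `t [Y, h] Z` -/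
theorem Y_split [Finite G] (hm : ∃ y ∈ Yg t X r, ⁅t, y⁆ ≠ 1) {h : G} (hh : h ∈ T) (hf : Fpf h (X r)) {y : G}
    (hy : y ∈ Yg t X r) : ∃ y' ∈ Yg t X r, ∃ z ∈ X r, y = ⁅h, y'⁆ * z ∨ y = t * (⁅h, y'⁆ * z) := by
  obtain ⟨a, ha, e1⟩ := fpf_surj e hh hf hy.2
  obtain ⟨y', hy', e2⟩ := Y_onto e hr hm ha
  have hd : ⁅h, y'⁆ ∈ Yg t X r := by
    rw [commutatorElement_def]; exact mul_mem (T_Yg e hh hy') (inv_mem hy')
  have e3 : ⁅t, ⁅h, y'⁆⁆ = ⁅t, y⁆ := by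
    have h1 : ⁅h, y'⁆ = (h * y' * h⁻¹) * y'⁻¹ := by simp only [commutatorElement_def]
    have h2 : ⁅t, y'⁻¹⁆ = a⁻¹ := by
      have h3 : ⁅t, y'⁻¹⁆ = y'⁻¹ * ⁅t, y'⁆⁻¹ * y'⁻¹⁻¹ := by simp only [commutatorElement_def]; group
      rw [h3, e2]
      exact conj_fix (cz (inv_mem hy') (inv_mem ha))
    rw [h1, tmul (fun z hz => cz (T_Yg e hh hy') hz) (by rw [h2]; exact inv_mem ha), T_comm e hh hy', e2, h2, ← e1]
    exact ab e (e.TX h hh r a ha) (inv_mem ha)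
  have e4 : ⁅t, ⁅h, y'⁆⁻¹ * y⁆ = 1 := by
    have h3 : ⁅t, ⁅h, y'⁆⁻¹⁆ = ⁅t, y⁆⁻¹ := by
      have h3 : ⁅t, ⁅h, y'⁆⁻¹⁆ = ⁅h, y'⁆⁻¹ * ⁅t, ⁅h, y'⁆⁆⁻¹ * ⁅h, y'⁆⁻¹⁻¹ := by
        simp only [commutatorElement_def]; group
      rw [h3, e3]
      exact conj_fix (cz (inv_mem hd) (inv_mem hy.2))
    rw [tmul (fun z hz => cz (inv_mem hd) hz) hy.2, h3, inv_mul_cancel]
  rcases cent_t e hr (mul_mem (inv_mem hd) hy) (comm_one_iff.1 e4).symm with h5 | h5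
  · exact ⟨y', hy', _, h5, Or.inl (by rw [mul_inv_cancel_left])⟩
  · have htd : ⁅t, ⁅h, y'⁆⁆ ∈ X r := hd.2
    refine ⟨y', hy', ⁅t, ⁅h, y'⁆⁆ * (t * (⁅h, y'⁆⁻¹ * y)), mul_mem htd h5, Or.inr ?_⟩
    have ht' : t⁻¹ = t := inv_eq_of_mul_eq_one_left e.tt
    have e5 : ⁅h, y'⁆ * t = t * (⁅h, y'⁆ * ⁅t, ⁅h, y'⁆⁆) := by
      have h6 : t * ⁅h, y'⁆ * t⁻¹ = ⁅t, ⁅h, y'⁆⁆ * ⁅h, y'⁆ := conj_eq t _
      rw [ht'] at h6
      rw [cz hd htd, ← h6]
      calc ⁅h, y'⁆ * t = (t * t) * ⁅h, y'⁆ * t := by rw [e.tt, one_mul]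
        _ = _ := by group
    calc y = ⁅h, y'⁆ * ((t * t) * (⁅h, y'⁆⁻¹ * y)) := by rw [e.tt, one_mul, mul_inv_cancel_left]
      _ = (⁅h, y'⁆ * t) * (t * (⁅h, y'⁆⁻¹ * y)) := by group
      _ = _ := by rw [e5]; group

/-- `[Y, h] Z` as a subgroup -/
def Vh (e : Env t T X n) (hr : Ev r) {h : G} (hh : h ∈ T) : Subgroup G where
  carrier := {y | ∃ y' ∈ Yg t X r, ∃ z ∈ X r, y = ⁅h, y'⁆ * z}
  mul_mem' := by
    rintro _ _ ⟨y, hy, z, hz, rfl⟩ ⟨y', hy', z', hz', rfl⟩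
    have hd' : ⁅h, y'⁆ ∈ Yg t X r := by
      rw [commutatorElement_def]; exact mul_mem (T_Yg e hh hy') (inv_mem hy')
    have h1 := comm_mem e hr hy hd'
    refine ⟨y * y', mul_mem hy hy', ⁅y, ⁅h, y'⁆⁆⁻¹ * (z * z'), mul_mem (inv_mem h1) (mul_mem hz hz'), ?_⟩
    have h2 := cz hd' hz
    have h3 := cz hd' (inv_mem h1)
    rw [cmr, conj_eq]
    calc ⁅h, y⁆ * z * (⁅h, y'⁆ * z') = ⁅h, y⁆ * (z * ⁅h, y'⁆) * z' := by group
      _ = ⁅h, y⁆ * (⁅h, y'⁆ * z) * z' := by rw [h2]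
      _ = ⁅h, y⁆ * ⁅y, ⁅h, y'⁆⁆ * (⁅y, ⁅h, y'⁆⁆⁻¹ * ⁅h, y'⁆) * z * z' := by group
      _ = ⁅h, y⁆ * ⁅y, ⁅h, y'⁆⁆ * (⁅h, y'⁆ * ⁅y, ⁅h, y'⁆⁆⁻¹) * z * z' := by rw [h3]
      _ = _ := by group
  one_mem' := ⟨1, one_mem _, 1, one_mem _, by rw [commutatorElement_one_right, one_mul]⟩
  inv_mem' := by
    rintro _ ⟨y, hy, z, hz, rfl⟩
    have hd : ⁅h, y⁆ ∈ Yg t X r := by
      rw [commutatorElement_def]; exact mul_mem (T_Yg e hh hy) (inv_mem hy)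
    have h1 : ⁅y⁻¹, ⁅h, y⁆⁆ ∈ X r := comm_mem e hr (inv_mem hy) hd
    refine ⟨y⁻¹, inv_mem hy, ⁅y⁻¹, ⁅h, y⁆⁆ * z⁻¹, mul_mem h1 (inv_mem hz), ?_⟩
    have e1 : ⁅h, y⁻¹⁆ = y⁻¹ * ⁅h, y⁆⁻¹ * y := by simp only [commutatorElement_def]; group
    rw [e1]
    have e2 : y⁻¹ * ⁅h, y⁆⁻¹ * y = (y⁻¹ * ⁅h, y⁆ * y⁻¹⁻¹)⁻¹ := by group
    rw [e2, conj_eq]
    have h3 := cz (inv_mem hd) hz
    have h4 := cz (inv_mem hd) (inv_mem hz)
    calc (⁅h, y⁆ * z)⁻¹ = z⁻¹ * ⁅h, y⁆⁻¹ := by group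
      _ = ⁅h, y⁆⁻¹ * z⁻¹ := h4.symm
      _ = _ := by group

theorem VV_le_Vh [Finite G] (hm : ∃ y ∈ Yg t X r, ⁅t, y⁆ ≠ 1) {h : G} (hh : h ∈ T) (hf : Fpf h (X r)) :
    VV t T X r ≤ Vh e hr hh := by
  refine sup_le ?_ ?_
  · intro z hz
    exact ⟨1, one_mem _, z, hz, by rw [commutatorElement_one_right, one_mul]⟩
  · rw [Subgroup.closure_le]
    rintro _ ⟨k, hk, y, hy, rfl⟩
    -- commutators of `k` with `[Y, h] Z`
    have key : ∀ y' ∈ Yg t X r, ∀ z ∈ X r, ⁅k, ⁅h, y'⁆ * z⁆ ∈ Vh e hr hh := by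
      intro y' hy' z hz
      have hd : ⁅h, y'⁆ ∈ Yg t X r := by
        rw [commutatorElement_def]; exact mul_mem (T_Yg e hh hy') (inv_mem hy')
      rw [commutatorElement_def]
      refine mul_mem ?_ (inv_mem ⟨y', hy', z, hz, rfl⟩)
      refine ⟨k * y' * k⁻¹, T_Yg e hk hy', k * z * k⁻¹, e.TX k hk r z hz, ?_⟩
      have e1 : k * h * k⁻¹ = h := conj_fix (e.Tab k hk h hh)
      calc k * (⁅h, y'⁆ * z) * k⁻¹ = (k * ⁅h, y'⁆ * k⁻¹) * (k * z * k⁻¹) := by group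
        _ = _ := by rw [comm_conj, e1]
    obtain ⟨y', hy', z, hz, h1 | h1⟩ := Y_split e hr hm hh hf hy
    · rw [h1]; exact key y' hy' z hz
    · rw [h1]
      have hw : ⁅h, y'⁆ * z ∈ Yg t X r := by
        refine mul_mem ?_ (X_le_Yg e hr hz)
        rw [commutatorElement_def]; exact mul_mem (T_Yg e hh hy') (inv_mem hy')
      have h2 := key y' hy' z hz
      rw [SetLike.mem_coe, cmr, comm_one_iff.2 (e.tT k hk), one_mul, conj_eq]
      refine mul_mem ?_ h2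
      have h3 : ⁅k, ⁅h, y'⁆ * z⁆ ∈ Yg t X r := by
        rw [commutatorElement_def]; exact mul_mem (T_Yg e hk hw) (inv_mem hw)
      exact ⟨1, one_mem _, _, h3.2, by rw [commutatorElement_one_right, one_mul]⟩

/-- `C_V(t) = Z` -/
theorem VV_fix [Finite G] (hm : ∃ y ∈ Yg t X r, ⁅t, y⁆ ≠ 1) {y : G} (hy : y ∈ VV t T X r) (hyt : y * t = t * y) :
    y ∈ X r := by
  obtain ⟨h, hh, hf⟩ := e.tfp r
  rcases cent_t e hr (VV_le_Yg e hr hy) hyt with h1 | h1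
  · exact h1
  · exfalso
    obtain ⟨y', hy', z, hz, h2⟩ := VV_le_Vh e hr hm hh hf hy
    refine t_not e hr hh hf hy' (z := (t * y) * z⁻¹) (mul_mem h1 (inv_mem hz)) ?_
    calc ⁅h, y'⁆ = y * z⁻¹ := by rw [h2]; group
      _ = (t * t) * y * z⁻¹ := by rw [e.tt, one_mul]
      _ = _ := by group

/-- every element of `Z` is `⁅t, y⁆` with `y ∈ V` -/
theorem VV_onto [Finite G] (hm : ∃ y ∈ Yg t X r, ⁅t, y⁆ ≠ 1) {a : G} (ha : a ∈ X r) :
    ∃ y ∈ VV t T X r, ⁅t, y⁆ = a := by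
  obtain ⟨h, hh, hf⟩ := e.tfp r
  obtain ⟨b, hb, e1⟩ := fpf_surj e hh hf ha
  obtain ⟨y', hy', e2⟩ := Y_onto e hr hm hb
  refine ⟨⁅h, y'⁆, comm_VV e hh hy', ?_⟩
  have h1 : ⁅h, y'⁆ = (h * y' * h⁻¹) * y'⁻¹ := by simp only [commutatorElement_def]
  have h2 : ⁅t, y'⁻¹⁆ = b⁻¹ := by
    have h3 : ⁅t, y'⁻¹⁆ = y'⁻¹ * ⁅t, y'⁆⁻¹ * y'⁻¹⁻¹ := by simp only [commutatorElement_def]; group
    rw [h3, e2]
    exact conj_fix (cz (inv_mem hy') (inv_mem hb))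
  rw [h1, tmul (fun z hz => cz (T_Yg e hh hy') hz) (by rw [h2]; exact inv_mem hb), T_comm e hh hy', e2, h2, ← e1]
  exact ab e (e.TX h hh r b hb) (inv_mem hb)

/-- equality modulo `Z` -/
theorem VV_eq [Finite G] (hm : ∃ y ∈ Yg t X r, ⁅t, y⁆ ≠ 1) {y y' : G} (hy : y ∈ VV t T X r) (hy' : y' ∈ VV t T X r)
    (h : ⁅t, y⁆ = ⁅t, y'⁆) : ∃ z ∈ X r, y = y' * z := by
  have hy1 := VV_le_Yg e hr hy'
  refine ⟨y'⁻¹ * y, VV_fix e hr hm (mul_mem (inv_mem hy') hy) ?_, by rw [mul_inv_cancel_left]⟩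
  have h3 : ⁅t, y'⁻¹⁆ = ⁅t, y'⁆⁻¹ := by
    have h3 : ⁅t, y'⁻¹⁆ = y'⁻¹ * ⁅t, y'⁆⁻¹ * y'⁻¹⁻¹ := by simp only [commutatorElement_def]; group
    rw [h3]
    exact conj_fix (cz (inv_mem hy1) (inv_mem hy1.2))
  have h4 : ⁅t, y'⁻¹ * y⁆ = 1 := by
    rw [tmul (fun z hz => cz (inv_mem hy1) hz) (VV_le_Yg e hr hy).2, h3, h, inv_mul_cancel]
  exact (comm_one_iff.1 h4).symm

/-- `V` is abelian -/
theorem VV_ab [Finite G] (hm : ∃ y ∈ Yg t X r, ⁅t, y⁆ ≠ 1) {y y' : G} (hy : y ∈ VV t T X r) (hy' : y' ∈ VV t T X r) :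
    y * y' = y' * y := by
  have zc : ∀ {a z : G}, a ∈ Yg t X r → z ∈ X r → a * z = z * a := fun ha hz => cz ha hz
  have VY := VV_le_Yg (T := T) e hr
  have cm : ∀ {a b : G}, a ∈ VV t T X r → b ∈ VV t T X r → ⁅a, b⁆ ∈ X r := fun ha hb => comm_mem e hr (VY ha) (VY hb)
  have cr : ∀ {a b z : G}, a ∈ VV t T X r → z ∈ X r → ⁅a, b * z⁆ = ⁅a, b⁆ := by
    intro a b z ha hz
    rw [cmr, comm_one_iff.2 (zc (VY ha) hz), mul_one, mul_inv_cancel, mul_one]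
  have cl : ∀ {a b z : G}, b ∈ VV t T X r → z ∈ X r → ⁅a * z, b⁆ = ⁅a, b⁆ := by
    intro a b z hb hz
    rw [cml, comm_one_iff.2 (zc (VY hb) hz).symm, mul_one, mul_inv_cancel, one_mul]
  have addr : ∀ {a b c : G}, a ∈ VV t T X r → b ∈ VV t T X r → c ∈ VV t T X r → ⁅a, b * c⁆ = ⁅a, b⁆ * ⁅a, c⁆ := by
    intro a b c ha hb hc
    rw [cmr, conj_fix (zc (VY hb) (cm ha hc))]
  have addl : ∀ {a b c : G}, a ∈ VV t T X r → b ∈ VV t T X r → c ∈ VV t T X r → ⁅a * b, c⁆ = ⁅b, c⁆ * ⁅a, c⁆ := by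
    intro a b c ha hb hc
    rw [cml, conj_fix (zc (VY ha) (cm hb hc))]
  -- a fixed element
  by_cases ha1 : ⁅t, y⁆ = 1
  · exact (zc (VY hy') (VV_fix e hr hm hy (comm_one_iff.1 ha1).symm)).symm
  set a := ⁅t, y⁆ with ha
  have haX : a ∈ X r := (VY hy).2
  -- `y` commutes with `h² y h⁻²`
  have sq : ∀ h ∈ T, ⁅y, (h * h) * y * (h * h)⁻¹⁆ = 1 := by
    intro h hh
    set v := h * y * h⁻¹ with hv
    have hvV : v ∈ VV t T X r := T_VV e hh hy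
    set w := (h * h) * y * (h * h)⁻¹ with hw
    have hwV : w ∈ VV t T X r := T_VV e (mul_mem hh hh) hy
    have hwv : w = h * v * h⁻¹ := by rw [hw, hv]; group
    have hta : ⁅t, v⁆ = h * a * h⁻¹ := T_comm e hh (VY hy)
    have htX : h * a * h⁻¹ ∈ X r := e.TX h hh r a haX
    by_cases hfix : a * (h * a * h⁻¹) = 1
    · -- `a^h = a`
      have h1 : h * a * h⁻¹ = a := by
        have h2 := e.sq r a haX
        exact mul_left_cancel (hfix.trans h2.symm)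
      obtain ⟨z, hz, h2⟩ := VV_eq e hr hm hvV hy (by rw [hta, h1])
      have h3 : w = y * (z * (h * z * h⁻¹)) := by
        calc w = h * v * h⁻¹ := hwv
          _ = (h * y * h⁻¹) * (h * z * h⁻¹) := by rw [h2]; group
          _ = v * (h * z * h⁻¹) := by rw [hv]
          _ = _ := by rw [h2]; group
      rw [h3, cr hy (mul_mem hz (e.TX h hh r z hz)), commutatorElement_self]
    · -- `a a^h = a^k`
      obtain ⟨k, hk, hka⟩ := e.ttr r a haX _ (mul_mem haX htX) ha1 hfix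
      -- `z z^h = z^k` for all `z ∈ Z`
      have hzz : ∀ z ∈ X r, z * (h * z * h⁻¹) = k * z * k⁻¹ := by
        intro z hz
        by_cases hz1 : z = 1
        · rw [hz1]; group
        · obtain ⟨l, hl, rfl⟩ := e.ttr r a haX z hz ha1 hz1
          have c1 : h * (l * a * l⁻¹) * h⁻¹ = l * (h * a * h⁻¹) * l⁻¹ := by
            have := e.Tab h hh l hl
            calc h * (l * a * l⁻¹) * h⁻¹ = (h * l) * a * (h * l)⁻¹ := by group
              _ = (l * h) * a * (l * h)⁻¹ := by rw [this]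
              _ = _ := by group
          have c2 : k * (l * a * l⁻¹) * k⁻¹ = l * (k * a * k⁻¹) * l⁻¹ := by
            have := e.Tab k hk l hl
            calc k * (l * a * l⁻¹) * k⁻¹ = (k * l) * a * (k * l)⁻¹ := by group
              _ = (l * k) * a * (l * k)⁻¹ := by rw [this]
              _ = _ := by group
          rw [c1, c2, hka]
          group
      -- `y v = y^k z`
      have hkV : k * y * k⁻¹ ∈ VV t T X r := T_VV e hk hy
      have h1 : ⁅t, y * v⁆ = ⁅t, k * y * k⁻¹⁆ := by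
        rw [tmul (fun z hz => zc (VY hy) hz) (VY hvV).2, hta, T_comm e hk (VY hy), hka]
      obtain ⟨z, hz, h2⟩ := VV_eq e hr hm (mul_mem hy hvV) hkV h1
      -- conjugate by `h`
      have h3 : v * w = k * v * k⁻¹ * (h * z * h⁻¹) := by
        have c1 : h * (k * y * k⁻¹) * h⁻¹ = k * v * k⁻¹ := by
          have := e.Tab h hh k hk
          rw [hv]
          calc h * (k * y * k⁻¹) * h⁻¹ = (h * k) * y * (h * k)⁻¹ := by group
            _ = (k * h) * y * (k * h)⁻¹ := by rw [this]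
            _ = _ := by group
        calc v * w = h * (y * v) * h⁻¹ := by rw [hwv, hv]; group
          _ = (h * (k * y * k⁻¹) * h⁻¹) * (h * z * h⁻¹) := by rw [h2]; group
          _ = _ := by rw [c1]
      set β := ⁅y, v⁆ with hβ
      have hβX : β ∈ X r := cm hy hvV
      have h4 : ⁅y * v, v * w⁆ = k * β * k⁻¹ := by
        rw [h2, h3, cl (mul_mem (T_VV e hk hvV) (X_le_VV e (e.TX h hh r z hz))) hz, cr hkV (e.TX h hh r z hz),
          ← comm_conj]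
      have h5 : ⁅y * v, v * w⁆ = (h * β * h⁻¹) * (β * ⁅y, w⁆) := by
        rw [addl hy hvV (mul_mem hvV hwV), addr hvV hvV hwV, addr hy hvV hwV, commutatorElement_self, one_mul]
        congr 1
        rw [hβ, comm_conj, ← hwv]
      have h6 : (h * β * h⁻¹) * (β * ⁅y, w⁆) = (h * β * h⁻¹) * β := by
        rw [← h5, h4, ← hzz β hβX]
        exact ab e hβX (e.TX h hh r β hβX)
      have h7 := mul_left_cancel h6
      exact mul_eq_left.1 h7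
  -- every element of `T` is a square
  have all : ∀ h ∈ T, ⁅y, h * y * h⁻¹⁆ = 1 := by
    intro h hh
    obtain ⟨j, hj⟩ := e.Todd h hh
    have h1 : h ^ (j + 1) * h ^ (j + 1) = h := by
      rw [← pow_add, show j + 1 + (j + 1) = orderOf h + 1 by omega, pow_succ, pow_orderOf_eq_one, one_mul]
    have h2 := sq (h ^ (j + 1)) (pow_mem hh _)
    rwa [h1] at h2
  by_cases hb1 : ⁅t, y'⁆ = 1
  · exact zc (VY hy) (VV_fix e hr hm hy' (comm_one_iff.1 hb1).symm)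
  · obtain ⟨h, hh, h1⟩ := e.ttr r a haX _ (VY hy').2 ha1 hb1
    have h2 : ⁅t, y'⁆ = ⁅t, h * y * h⁻¹⁆ := by rw [T_comm e hh (VY hy)]; exact h1.symm
    obtain ⟨z, hz, h3⟩ := VV_eq e hr hm hy' (T_VV e hh hy) h2
    rw [← comm_one_iff, h3, cr hy hz]
    exact all h hh

omit hr in
/-- **Step (2): the doubled long root groups.** -/
theorem long_of [Finite G] (hm : ∀ r, Ev r → ∃ y ∈ Yg t X r, ⁅t, y⁆ ≠ 1) : Long t T X n (VV t T X) where
  le := fun r _ => X_le_VV e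
  ab := fun r hr y hy y' hy' => VV_ab e hr (hm r hr) hy hy'
  br := fun r hr y hy => (VV_le_Yg e hr hy).2
  onto := fun r hr a ha => VV_onto e hr (hm r hr) ha
  fix := fun r hr y hy h => VV_fix e hr (hm r hr) hy h
  near := fun r s hr hs y hy a ha => (VV_le_Yg e hr hy).1 a (near_le_PP hs ha)
  TV := fun h hh r _ y hy => T_VV e hh hy
  nV := fun k r _ y hy => n_VV e k hy

omit hr in
/-- one mover is enough -/
theorem mover_all [Finite G] {r₀ : ZMod 12} (hr₀ : Ev r₀) (hm : ∃ y ∈ Yg t X r₀, ⁅t, y⁆ ≠ 1) :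
    ∀ r, Ev r → ∃ y ∈ Yg t X r, ⁅t, y⁆ ≠ 1 := by
  intro r hr
  have key : ∀ r₀ r : ZMod 12, Ev r₀ → Ev r → ∃ k, 2 * k + 6 - r₀ = r := by decide
  obtain ⟨k, rfl⟩ := key r₀ r hr₀ hr
  obtain ⟨y, hy, hy1⟩ := hm
  refine ⟨n k * y * (n k)⁻¹, n_Yg e k hy, ?_⟩
  have h1 : n k * t * (n k)⁻¹ = t := conj_fix (e.tn k)
  have h2 : ⁅t, n k * y * (n k)⁻¹⁆ = n k * ⁅t, y⁆ * (n k)⁻¹ := by rw [comm_conj, h1]
  rw [h2]
  intro h3
  apply hy1
  have h4 := congrArg (fun g => (n k)⁻¹ * g * n k) h3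
  simp only [mul_one, inv_mul_cancel] at h4
  rw [← h4]
  group

/-- **Step (2) from a mover of `t`.** -/
theorem long_of_mover [Finite G] (hf : Par T X r) (hopp : ∀ h ∈ T, Cen h (X (r - 3)) → Cen h (X (r + 3)))
    {n₀ z₁ : G} (h1 : n₀ * t * n₀⁻¹ = t * z₁) (hz : z₁ ∈ X r) (hz1 : z₁ ≠ 1)
    (hP : ∀ a ∈ PP X r, n₀ * a * n₀⁻¹ ∈ PP X r) (hQ : ∀ a ∈ QQ X r, n₀ * a * n₀⁻¹ ∈ QQ X r)
    (hZ : ∀ a ∈ X r, n₀ * a * n₀⁻¹ ∈ X r) : Long t T X n (VV t T X) := by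
  obtain ⟨y, hy, hy1, hy2⟩ := exists_y e hr hf hopp h1 hz hz1 (mem_NN_of_finite hP) (mem_NN_of_finite hQ)
    (mem_NN_of_finite hZ)
  exact long_of e (mover_all e hr ⟨y, ⟨hy, hy1⟩, hy2⟩)

end Cfsg.Agent.HexGrow.TwoLong
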