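import Cfsg.Agent.HexGrow.TwoBase

/-!
# S1778, types `G2(q)` and `3D4(q)`: step (2), an element of `C(P')` moving `t`
-/

set_option autoImplicit false
set_option linter.unusedSectionVars false

namespace Cfsg.Agent.HexGrow.TwoMove

open scoped commutatorElement
open Defs TwoBase TwoBase.EnvL

variable {G : Type*} [Group G] {t : G} {T : Subgroup G} {X : ZMod 12 → Subgroup G} {n : ZMod 12 → G}

/-- facts on the automorphisms of `P'(r)` (`r` even), proved in coordinates -/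
structure Par (T : Subgroup G) (X : ZMod 12 → Subgroup G) (r : ZMod 12) : Prop where
  /-- an odd order automorphism trivial on `P' / Q1` acts on `Q1 / Z` as an element of `C_T(L)` -/
  sca : ∀ g : G, Odd (orderOf g) → (∀ q ∈ QQ X r, g * q * g⁻¹ ∈ QQ X r) → (∀ z ∈ X r, g * z * g⁻¹ ∈ X r) →
    (∀ a ∈ X (r - 3), ⁅g, a⁆ ∈ QQ X r) → (∀ a ∈ X (r + 3), ⁅g, a⁆ ∈ QQ X r) →
    ∃ h ∈ T, Cen h (X (r - 3)) ∧ Cen h (X (r + 3)) ∧ ∀ q ∈ QQ X r, ⁅g * h, q⁆ ∈ X r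
  lin1 : ∀ f : G → G, (∀ c ∈ X (r - 2), f c ∈ X r) → (∀ c ∈ X (r - 2), ∀ d ∈ X (r - 2), f (c * d) = f c * f d) →
    (∀ a ∈ X (r - 3), ∃ g ∈ X (r + 1), ∀ b ∈ X (r - 1), f ⁅a, b⁆ = ⁅g, b⁆) →
    ∃ d ∈ X (r + 2), ∀ c ∈ X (r - 2), f c = ⁅d, c⁆
  lin5 : ∀ f : G → G, (∀ c ∈ X (r + 2), f c ∈ X r) → (∀ c ∈ X (r + 2), ∀ d ∈ X (r + 2), f (c * d) = f c * f d) →
    (∀ a ∈ X (r + 3), ∃ g ∈ X (r - 1), ∀ b ∈ X (r + 1), f ⁅a, b⁆ = ⁅g, b⁆) →
    ∃ d ∈ X (r - 2), ∀ c ∈ X (r + 2), f c = ⁅d, c⁆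

/-- The elements acting trivially on `⟨t⟩Z / Z`, `Z`, `Q1 / Z`, `P' / Q1`. -/
structure IsK (t : G) (X : ZMod 12 → Subgroup G) (r : ZMod 12) (g : G) : Prop where
  z : ∀ z ∈ X r, g * z = z * g
  t : ⁅t, g⁆ ∈ X r
  q : ∀ a ∈ QQ X r, ⁅g, a⁆ ∈ X r
  l : ∀ a ∈ X (r - 3), ⁅g, a⁆ ∈ QQ X r
  r : ∀ a ∈ X (r + 3), ⁅g, a⁆ ∈ QQ X r

variable {r : ZMod 12}

theorem IsK.conjQ {g : G} (h : IsK t X r g) {a : G} (ha : a ∈ QQ X r) : g * a * g⁻¹ ∈ QQ X r := by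
  rw [conj_eq]; exact mul_mem (le_QQ3 r (h.q a ha)) ha

theorem IsK.mul {g g' : G} (h : IsK t X r g) (h' : IsK t X r g') : IsK t X r (g * g') := by
  refine ⟨fun z hz => ?_, ?_, fun a ha => ?_, fun a ha => ?_, fun a ha => ?_⟩
  · rw [mul_assoc, h'.z z hz, ← mul_assoc, h.z z hz, mul_assoc]
  · rw [cmr, conj_fix (h.z _ h'.t)]
    exact mul_mem h.t h'.t
  · rw [cml, conj_fix (h.z _ (h'.q a ha))]
    exact mul_mem (h'.q a ha) (h.q a ha)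
  · rw [cml]
    exact mul_mem (h.conjQ (h'.l a ha)) (h.l a ha)
  · rw [cml]
    exact mul_mem (h.conjQ (h'.r a ha)) (h.r a ha)

theorem IsK.one : IsK t X r (1 : G) :=
  ⟨fun z _ => by rw [one_mul, mul_one], by rw [commutatorElement_one_right]; exact one_mem _,
    fun a _ => by rw [commutatorElement_one_left]; exact one_mem _,
    fun a _ => by rw [commutatorElement_one_left]; exact one_mem _,
    fun a _ => by rw [commutatorElement_one_left]; exact one_mem _⟩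

/-- `g ↦ ⁅t, g⁆` is additive -/
theorem IsK.tmul {g g' : G} (h : IsK t X r g) (h' : ⁅t, g'⁆ ∈ X r) : ⁅t, g * g'⁆ = ⁅t, g⁆ * ⁅t, g'⁆ := by
  rw [cmr, conj_fix (h.z _ h')]

section

variable (e : Env t T X n)
include e

theorem conjT_inv {h : G} (hh : h ∈ T) {s : ZMod 12} {a : G} (ha : a ∈ X s) : h⁻¹ * a * h ∈ X s := by
  have := e.TX h⁻¹ (inv_mem hh) s a ha
  rwa [inv_inv] at this

theorem IsK.conjT {g h : G} (k : IsK t X r g) (hh : h ∈ T) : IsK t X r (h * g * h⁻¹) := by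
  have tr : ∀ a : G, ⁅h * g * h⁻¹, a⁆ = h * ⁅g, h⁻¹ * a * h⁆ * h⁻¹ := by
    intro a; simp only [commutatorElement_def]; group
  refine ⟨fun z hz => ?_, ?_, fun a ha => ?_, fun a ha => ?_, fun a ha => ?_⟩
  · have := k.z _ (conjT_inv e hh hz)
    calc h * g * h⁻¹ * z = h * (g * (h⁻¹ * z * h)) * h⁻¹ := by group
      _ = z * (h * g * h⁻¹) := by rw [this]; group
  · have h1 : h * t * h⁻¹ = t := conj_fix (e.tT h hh)
    have h2 : ⁅t, h * g * h⁻¹⁆ = h * ⁅t, g⁆ * h⁻¹ := by rw [comm_conj, h1]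
    rw [h2]
    exact e.TX h hh _ _ k.t
  · rw [tr]
    refine e.TX h hh _ _ (k.q _ ?_)
    have := T_QQ e (inv_mem hh) ha
    rwa [inv_inv] at this
  · rw [tr]
    exact T_QQ e hh (k.l _ (conjT_inv e hh ha))
  · rw [tr]
    exact T_QQ e hh (k.r _ (conjT_inv e hh ha))

variable (hr : Ev r)
include hr

theorem IsK.of_QQ {q : G} (hq : q ∈ QQ X r) : IsK t X r q := by
  refine ⟨fun z hz => centralQ e hr hz hq, ?_, fun a ha => comm_QQ e hr hq ha, fun a ha => ?_, fun a ha => ?_⟩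
  · rw [comm_one_iff.2 (t_QQ e hq).symm]; exact one_mem _
  · have h1 := (PP_le_NN e hr (le_PPl r ha)).1 _ (inv_mem hq)
    have : ⁅q, a⁆ = q * (a * q⁻¹ * a⁻¹) := by simp only [commutatorElement_def]; group
    rw [this]; exact mul_mem hq h1
  · have h1 := (PP_le_NN e hr (le_PPr r ha)).1 _ (inv_mem hq)
    have : ⁅q, a⁆ = q * (a * q⁻¹ * a⁻¹) := by simp only [commutatorElement_def]; group
    rw [this]; exact mul_mem hq h1

/-- Step A and B: an element of `K2` moving `t`. -/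
theorem exists_K (hf : Par T X r) (hopp : ∀ h ∈ T, Cen h (X (r - 3)) → Cen h (X (r + 3)))
    {n₀ z₁ : G} (h1 : n₀ * t * n₀⁻¹ = t * z₁) (hz : z₁ ∈ X r) (hz1 : z₁ ≠ 1)
    (hP : n₀ ∈ NN (PP X r)) (hQ : n₀ ∈ NN (QQ X r)) (hZ : n₀ ∈ NN (X r)) :
    ∃ y, IsK t X r y ∧ ⁅t, y⁆ ≠ 1 := by
  obtain ⟨h, hh, hc, hfp, -, -, -⟩ := e.tod (r - 3) (od_sub_three r hr)
  have hfr : Fpf h (X r) := hfp r (by
    intro h0; have : ∀ r : ZMod 12, r ≠ r - 3 := by decide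
    exact this r h0) (by
    intro h0; have : ∀ r : ZMod 12, r ≠ r - 3 + 6 := by decide
    exact this r h0)
  have hc' := hopp h hh hc
  -- `h` is trivial on `P' / Q1`
  have hPQ : ∀ p ∈ PP X r, ⁅h, p⁆ ∈ QQ X r := by
    let A : Subgroup G :=
      { carrier := {p | p ∈ PP X r ∧ ⁅h, p⁆ ∈ QQ X r}
        mul_mem' := by
          rintro a b ⟨ha, ha'⟩ ⟨hb, hb'⟩
          refine ⟨mul_mem ha hb, ?_⟩
          rw [cmr]
          exact mul_mem ha' ((PP_le_NN e hr ha).1 _ hb')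
        one_mem' := ⟨one_mem _, by rw [commutatorElement_one_right]; exact one_mem _⟩
        inv_mem' := by
          rintro a ⟨ha, ha'⟩
          refine ⟨inv_mem ha, ?_⟩
          have : ⁅h, a⁻¹⁆ = a⁻¹ * ⁅h, a⁆⁻¹ * a := by simp only [commutatorElement_def]; group
          rw [this]
          exact (PP_le_NN e hr ha).2 _ (inv_mem ha') }
    have : PP X r ≤ A := by
      refine PP_le (fun a ha => ⟨le_PPl r ha, ?_⟩) (fun a ha => ⟨le_PPm r ha, ?_⟩) (fun a ha => ⟨le_PPr r ha, ?_⟩)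
      · have : ⁅h, a⁆ = 1 := by rw [commutatorElement_def, hc a ha, mul_inv_cancel]
        rw [this]; exact one_mem _
      · rw [commutatorElement_def]
        exact mul_mem (T_QQ e hh ha) (inv_mem ha)
      · have : ⁅h, a⁆ = 1 := by rw [commutatorElement_def, hc' a ha, mul_inv_cancel]
        rw [this]; exact one_mem _
    exact fun p hp => (this hp).2
  -- the conjugate
  set g := n₀⁻¹ * h * n₀ with hg
  have hgo : Odd (orderOf g) := by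
    have : orderOf g = orderOf h := by
      rw [hg]
      have h2 : n₀⁻¹ * h * n₀ = MulAut.conj n₀⁻¹ h := by simp
      rw [h2]
      exact MulEquiv.orderOf_eq _ _
    rw [this]
    exact e.Todd h hh
  have hgconj : ∀ a : G, g * a * g⁻¹ = n₀⁻¹ * (h * (n₀ * a * n₀⁻¹) * h⁻¹) * n₀ := by
    intro a; rw [hg]; group
  have hgQ : ∀ q ∈ QQ X r, g * q * g⁻¹ ∈ QQ X r := fun q hq => by
    rw [hgconj]; exact hQ.2 _ (T_QQ e hh (hQ.1 q hq))
  have hgZ : ∀ z ∈ X r, g * z * g⁻¹ ∈ X r := fun q hq => by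
    rw [hgconj]; exact hZ.2 _ (e.TX h hh _ _ (hZ.1 q hq))
  have hgP : ∀ p ∈ PP X r, ⁅g, p⁆ ∈ QQ X r := by
    intro p hp
    have h2 := hQ.2 _ (hPQ _ (hP.1 p hp))
    have : ⁅g, p⁆ = n₀⁻¹ * ⁅h, n₀ * p * n₀⁻¹⁆ * n₀ := by
      rw [hg]; simp only [commutatorElement_def]; group
    rw [this]; exact h2
  obtain ⟨k, hk, hk1, hk2, hk3⟩ := hf.sca g hgo hgQ hgZ (fun a ha => hgP a (le_PPl r ha))
    (fun a ha => hgP a (le_PPr r ha))
  -- `g k` centralises `Z`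
  have hzc : ∀ z ∈ X r, g * k * z = z * (g * k) := by
    intro z hz
    obtain ⟨a, ha, b, hb, rfl⟩ := Z_comm e hr hz
    have ha' := hk3 a (le_QQ1 r ha)
    have hb' := hk3 b (le_QQ5 r hb)
    have e1 : (g * k) * ⁅a, b⁆ * (g * k)⁻¹ = ⁅a, b⁆ := by
      rw [comm_conj, conj_eq (g * k) a, conj_eq (g * k) b]
      have za : ∀ w ∈ X r, ∀ x ∈ QQ X r, x * w = w * x := fun w hw x hx => centralQ e hr hw hx
      rw [cml]
      have e2 : ⁅a, ⁅g * k, b⁆ * b⁆ = ⁅a, b⁆ := by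
        rw [cmr, comm_one_iff.2 (za _ hb' a (le_QQ1 r ha)), one_mul,
          conj_fix (za _ (r15 e hr ha hb) _ (le_QQ3 r hb')).symm.symm]
      have e3 : ⁅⁅g * k, a⁆, ⁅g * k, b⁆ * b⁆ = 1 :=
        comm_one_iff.2 (za _ ha' _ (mul_mem (le_QQ3 r hb') (le_QQ5 r hb))).symm
      rw [e2, e3, mul_one, conj_fix (za _ (r15 e hr ha hb) _ (le_QQ3 r ha'))]
    exact mul_inv_eq_iff_eq_mul.1 e1
  -- action on `t`
  have ht0 : n₀⁻¹ * t * n₀ = t * (n₀⁻¹ * z₁ * n₀)⁻¹ := by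
    have : t = n₀⁻¹ * t * n₀ * (n₀⁻¹ * z₁ * n₀) := by
      calc t = n₀⁻¹ * (n₀ * t * n₀⁻¹) * n₀ := by group
        _ = _ := by rw [h1]; group
    rw [eq_mul_inv_iff_mul_eq]
    exact this.symm
  have htg : g * k * t * (g * k)⁻¹ = t * (n₀⁻¹ * (z₁⁻¹ * (h * z₁ * h⁻¹)) * n₀) := by
    have hkt := conj_fix (e.tT k hk)
    have hht := conj_fix (e.tT h hh)
    calc g * k * t * (g * k)⁻¹ = g * (k * t * k⁻¹) * g⁻¹ := by group
      _ = n₀⁻¹ * (h * (n₀ * t * n₀⁻¹) * h⁻¹) * n₀ := by rw [hkt, hgconj]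
      _ = n₀⁻¹ * ((h * t * h⁻¹) * (h * z₁ * h⁻¹)) * n₀ := by rw [h1]; group
      _ = (n₀⁻¹ * t * n₀) * (n₀⁻¹ * (h * z₁ * h⁻¹) * n₀) := by rw [hht]; group
      _ = _ := by rw [ht0]; group
  set w := n₀⁻¹ * (z₁⁻¹ * (h * z₁ * h⁻¹)) * n₀ with hw
  have hwZ : w ∈ X r := hZ.2 _ (mul_mem (inv_mem hz) (e.TX h hh _ _ hz))
  have hw1 : w ≠ 1 := by
    intro h0
    apply hz1
    apply hfr _ hz
    have h2 : z₁⁻¹ * (h * z₁ * h⁻¹) = 1 := by
      calc z₁⁻¹ * (h * z₁ * h⁻¹) = n₀ * w * n₀⁻¹ := by rw [hw]; group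
        _ = 1 := by rw [h0, mul_one, mul_inv_cancel]
    exact (inv_mul_eq_one.1 h2).symm
  have hcomm : ⁅t, g * k⁆ = t * w⁻¹ * t⁻¹ := by
    have h2 : g * k * t⁻¹ * (g * k)⁻¹ = (t * w)⁻¹ := by
      rw [← htg]; group
    have h3 : ⁅t, g * k⁆ = t * (g * k * t⁻¹ * (g * k)⁻¹) := by simp only [commutatorElement_def]; group
    rw [h3, h2]; group
  have htw : t * w⁻¹ * t⁻¹ = w⁻¹ := conj_fix (e.tX r _ (inv_mem hwZ)).symm
  refine ⟨g * k, ⟨hzc, ?_, hk3, ?_, ?_⟩, ?_⟩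
  · rw [hcomm, htw]; exact inv_mem hwZ
  · intro a ha
    rw [cml]
    have : ⁅k, a⁆ = 1 := by rw [commutatorElement_def, hk1 a ha, mul_inv_cancel]
    rw [this, mul_one, mul_inv_cancel, one_mul]
    exact hgP a (le_PPl r ha)
  · intro a ha
    rw [cml]
    have : ⁅k, a⁆ = 1 := by rw [commutatorElement_def, hk2 a ha, mul_inv_cancel]
    rw [this, mul_one, mul_inv_cancel, one_mul]
    exact hgP a (le_PPr r ha)
  · rw [hcomm, htw]
    intro h0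
    exact hw1 (inv_eq_one.1 h0)

omit hr in
/-- the powers of `y₀ h` -/
theorem IsK.pow {y₀ h : G} (k : IsK t X r y₀) (hh : h ∈ T) (hc : Cen h (X r)) (m : ℕ) :
    IsK t X r ((y₀ * h) ^ m * (h ^ m)⁻¹) ∧ ⁅t, (y₀ * h) ^ m * (h ^ m)⁻¹⁆ = ⁅t, y₀⁆ ^ m := by
  induction m with
  | zero =>
    rw [pow_zero, pow_zero, inv_one, mul_one, pow_zero, commutatorElement_one_right]
    exact ⟨IsK.one, rfl⟩
  | succ m ih =>
    have hm : h ^ m ∈ T := pow_mem hh m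
    have hk := k.conjT e hm
    have e1 : (y₀ * h) ^ (m + 1) * (h ^ (m + 1))⁻¹ = (y₀ * h) ^ m * (h ^ m)⁻¹ * (h ^ m * y₀ * (h ^ m)⁻¹) := by
      rw [pow_succ, pow_succ]; group
    have e2 : ⁅t, h ^ m * y₀ * (h ^ m)⁻¹⁆ = ⁅t, y₀⁆ := by
      have h1 : h ^ m * t * (h ^ m)⁻¹ = t := conj_fix (e.tT _ hm)
      have h2 : ⁅t, h ^ m * y₀ * (h ^ m)⁻¹⁆ = h ^ m * ⁅t, y₀⁆ * (h ^ m)⁻¹ := by rw [comm_conj, h1]
      rw [h2]
      have h3 : ∀ j : ℕ, h ^ j * ⁅t, y₀⁆ * (h ^ j)⁻¹ = ⁅t, y₀⁆ := by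
        intro j
        induction j with
        | zero => simp
        | succ j ihj =>
          rw [show h ^ (j + 1) * ⁅t, y₀⁆ * (h ^ (j + 1))⁻¹ = h * (h ^ j * ⁅t, y₀⁆ * (h ^ j)⁻¹) * h⁻¹ by
            rw [pow_succ']; group, ihj]
          exact hc _ k.t
      exact h3 m
    rw [e1]
    refine ⟨ih.1.mul hk, ?_⟩
    rw [ih.1.tmul (by rw [e2]; exact k.t), ih.2, e2, pow_succ]

omit hr in
/-- fixed point free action: every element is a commutator -/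
theorem fpf_surj [Finite G] {h : G} (hh : h ∈ T) {s : ZMod 12} (hf : Fpf h (X s)) {c : G} (hc : c ∈ X s) :
    ∃ a ∈ X s, a⁻¹ * (h * a * h⁻¹) = c := by
  let f : X s → X s := fun a => ⟨(a : G)⁻¹ * (h * a * h⁻¹), mul_mem (inv_mem a.2) (e.TX h hh s a a.2)⟩
  have hinj : Function.Injective f := by
    intro a b hab
    have h0 : (a : G)⁻¹ * (h * a * h⁻¹) = (b : G)⁻¹ * (h * b * h⁻¹) := congrArg Subtype.val hab
    have h1 : h * ((b : G) * (a : G)⁻¹) * h⁻¹ = (b : G) * (a : G)⁻¹ := by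
      have e1 := ab e (e.TX h hh s a a.2) (inv_mem (e.TX h hh s b b.2))
      have e2 := ab e (inv_mem a.2) (e.TX h hh s a a.2)
      calc h * ((b : G) * (a : G)⁻¹) * h⁻¹ = (h * b * h⁻¹) * (h * a * h⁻¹)⁻¹ := by group
        _ = b * ((b : G)⁻¹ * (h * b * h⁻¹)) * (h * a * h⁻¹)⁻¹ := by group
        _ = b * ((a : G)⁻¹ * (h * a * h⁻¹)) * (h * a * h⁻¹)⁻¹ := by rw [h0]
        _ = _ := by group
    have h2 := hf _ (mul_mem b.2 (inv_mem a.2)) h1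
    exact Subtype.ext (mul_inv_eq_one.1 h2).symm
  obtain ⟨a, ha⟩ := Finite.injective_iff_surjective.1 hinj ⟨c, hc⟩
  exact ⟨a, a.2, congrArg Subtype.val ha⟩

/-- `⁅q, b⁆ = ⁅a₄, b⁆` for `b ∈ X (r-1)`, `a₄` the component of `q` in `X (r+1)` -/
theorem comp4 {q : G} (hq : q ∈ QQ X r) : ∃ g ∈ X (r + 1), ∀ b ∈ X (r - 1), ⁅q, b⁆ = ⁅g, b⁆ := by
  obtain ⟨a₁, h1, a₂, h2, z, hz, a₄, h4, a₅, h5, rfl⟩ := QQ_form e hr hq
  refine ⟨a₄, h4, fun b hb => ?_⟩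
  have e5 : ⁅a₅, b⁆ = 1 := comm_one_iff.2 (r25 e hr hb h5).symm
  have e1 : ⁅a₁ * a₂ * z, b⁆ = 1 := by
    have c1 := r12 e hr h1 hb
    have c2 := ab e h2 hb
    have c3 := (r2z e hr hb hz).symm
    rw [comm_one_iff]
    calc a₁ * a₂ * z * b = a₁ * a₂ * (z * b) := by group
      _ = a₁ * (a₂ * b) * z := by rw [c3]; group
      _ = (a₁ * b) * a₂ * z := by rw [c2]; group
      _ = _ := by rw [c1]; group
  rw [cml (a₁ * a₂ * z * a₄) a₅ b, e5, mul_one, mul_inv_cancel, one_mul, cml (a₁ * a₂ * z) a₄ b, e1, mul_one]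
  exact conj_fix (centralQ e hr (comm_inv_mem (r24 e hr hb h4))
    (mul_mem (mul_mem (le_QQ1 r h1) (le_QQ2 r h2)) (le_QQ3 r hz)))

/-- `⁅q, b⁆ = ⁅a₂, b⁆` for `b ∈ X (r+1)`, `a₂` the component of `q` in `X (r-1)` -/
theorem comp2 {q : G} (hq : q ∈ QQ X r) : ∃ g ∈ X (r - 1), ∀ b ∈ X (r + 1), ⁅q, b⁆ = ⁅g, b⁆ := by
  obtain ⟨a₁, h1, a₂, h2, z, hz, a₄, h4, a₅, h5, rfl⟩ := QQ_form e hr hq
  refine ⟨a₂, h2, fun b hb => ?_⟩
  have e1 : ⁅z * a₄ * a₅, b⁆ = 1 := by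
    have c1 := rz4 e hr hz hb
    have c2 := ab e h4 hb
    have c3 := (r45 e hr hb h5).symm
    rw [comm_one_iff]
    calc z * a₄ * a₅ * b = z * a₄ * (a₅ * b) := by group
      _ = z * (a₄ * b) * a₅ := by rw [c3]; group
      _ = (z * b) * a₄ * a₅ := by rw [c2]; group
      _ = _ := by rw [c1]; group
  have e2 : ⁅a₁, b⁆ = 1 := comm_one_iff.2 (r14 e hr h1 hb)
  rw [show a₁ * a₂ * z * a₄ * a₅ = a₁ * a₂ * (z * a₄ * a₅) by group, cml (a₁ * a₂), e1, mul_one, mul_inv_cancel,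
    one_mul, cml a₁, e2, mul_one]
  exact conj_fix (centralQ e hr (r24 e hr h2 hb) (le_QQ1 r h1))

/-- **An element of `C(P')` moving `t`.** -/
theorem exists_y [Finite G] (hf : Par T X r) (hopp : ∀ h ∈ T, Cen h (X (r - 3)) → Cen h (X (r + 3)))
    {n₀ z₁ : G} (h1 : n₀ * t * n₀⁻¹ = t * z₁) (hz : z₁ ∈ X r) (hz1 : z₁ ≠ 1)
    (hP : n₀ ∈ NN (PP X r)) (hQ : n₀ ∈ NN (QQ X r)) (hZ : n₀ ∈ NN (X r)) :
    ∃ y, (∀ p ∈ PP X r, y * p = p * y) ∧ ⁅t, y⁆ ∈ X r ∧ ⁅t, y⁆ ≠ 1 := by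
  obtain ⟨y₀, k₀, hne₀⟩ := exists_K e hr hf hopp h1 hz hz1 hP hQ hZ
  obtain ⟨h, hh, hcz, hfo⟩ := e.tev r hr
  set m := orderOf h with hm
  have hmodd : Odd m := e.Todd h hh
  obtain ⟨k, hkt⟩ := IsK.pow e k₀ hh hcz m
  rw [hm, pow_orderOf_eq_one, inv_one, mul_one, ← hm] at k hkt
  set y := (y₀ * h) ^ m with hy
  have hty : ⁅t, y⁆ = ⁅t, y₀⁆ := by
    rw [hkt]
    obtain ⟨j, hj⟩ := hmodd
    have h2 := e.sq r _ k₀.t
    rw [hj, pow_succ, pow_mul, pow_two, h2, one_pow, one_mul]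
  -- `y` commutes with `w = y₀ h`
  have hyw : y * (y₀ * h) = (y₀ * h) * y := by rw [hy, ← pow_succ, ← pow_succ']
  have zc : ∀ w ∈ X r, ∀ x ∈ QQ X r, x * w = w * x := fun w hw x hx => centralQ e hr hw hx
  have hwz : ∀ z ∈ X r, (y₀ * h) * z = z * (y₀ * h) := by
    intro z hz
    have e1 : h * z = z * h := mul_inv_eq_iff_eq_mul.1 (hcz z hz)
    rw [mul_assoc, e1, ← mul_assoc, k₀.z z hz, mul_assoc]
  -- equivariance
  have heq : ∀ a ∈ QQ X r, ⁅y, h * a * h⁻¹⁆ = ⁅y, a⁆ := by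
    intro a ha
    have ha' : h * a * h⁻¹ ∈ QQ X r := T_QQ e hh ha
    have e1 : ⁅y, (y₀ * h) * a * (y₀ * h)⁻¹⁆ = ⁅y, a⁆ := by
      have h2 : (y₀ * h) * ⁅y, a⁆ * (y₀ * h)⁻¹ = ⁅y, (y₀ * h) * a * (y₀ * h)⁻¹⁆ := by
        rw [comm_conj, conj_fix hyw.symm]
      rw [← h2]
      exact conj_fix (hwz _ (k.q a ha))
    have e2 : (y₀ * h) * a * (y₀ * h)⁻¹ = ⁅y₀, h * a * h⁻¹⁆ * (h * a * h⁻¹) := by
      rw [← conj_eq]; group
    have h3 := k₀.q _ ha'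
    rw [e2, cmr, comm_one_iff.2 (k.z _ h3), one_mul, conj_fix (zc _ (k.q _ ha') _ (le_QQ3 r h3))] at e1
    exact e1
  have hinv : ∀ a ∈ QQ X r, ⁅y, a⁻¹⁆ = ⁅y, a⁆⁻¹ := by
    intro a ha
    have : ⁅y, a⁻¹⁆ = a⁻¹ * ⁅y, a⁆⁻¹ * a⁻¹⁻¹ := by simp only [commutatorElement_def]; group
    rw [this]
    exact conj_fix (zc _ (inv_mem (k.q a ha)) _ (inv_mem ha))
  have hodd : ∀ s, ¬ Ev s → X s ≤ QQ X r → ∀ c ∈ X s, ⁅y, c⁆ = 1 := by
    intro s hs hsQ c hc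
    obtain ⟨a, ha, rfl⟩ := fpf_surj e hh (hfo s hs) hc
    have ha' := hsQ ha
    have h2 := e.TX h hh s a ha
    rw [cmr, conj_fix (zc _ (k.q _ (hsQ h2)) _ (inv_mem ha')), heq a ha', hinv a ha', inv_mul_cancel]
  have hy2 := hodd _ (od_sub_one r hr) (le_QQ2 r)
  have hy4 := hodd _ (od_add_one r hr) (le_QQ4 r)
  -- `f c = ⁅y, c⁆` on `X (r-2)` and `X (r+2)`
  have hadd : ∀ c ∈ QQ X r, ∀ d ∈ QQ X r, ⁅y, c * d⁆ = ⁅y, c⁆ * ⁅y, d⁆ := by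
    intro c hc d hd
    rw [cmr, conj_fix (zc _ (k.q d hd) c hc)]
  -- the commutator formula
  have key : ∀ x : G, ∀ (b c : G), x ∈ PP X r → ⁅y, x⁆ ∈ QQ X r → b ∈ QQ X r → c ∈ QQ X r → ⁅x, b⁆ = c →
      ⁅y, b⁆ = 1 → x * c = c * x → ⁅y, c⁆ = ⁅⁅y, x⁆, b⁆ := by
    intro x b c hxP hx hb hc hxb hyb hxc
    set q := ⁅y, x⁆ with hq
    have e1 : y * x * y⁻¹ = q * x := conj_eq y x
    have e2 : y * b * y⁻¹ = b := conj_fix (comm_one_iff.1 hyb)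
    have e3 : y * c * y⁻¹ = q * (c * b) * q⁻¹ * b⁻¹ := by
      have h2 : x * b * x⁻¹ = c * b := by rw [conj_eq, hxb]
      calc y * c * y⁻¹ = (y * x * y⁻¹) * (y * b * y⁻¹) * (y * x * y⁻¹)⁻¹ * (y * b * y⁻¹)⁻¹ := by
            rw [← hxb]; simp only [commutatorElement_def]; group
        _ = q * (x * b * x⁻¹) * q⁻¹ * b⁻¹ := by rw [e1, e2]; group
        _ = _ := by rw [h2]
    -- `q` commutes with `c`
    have hqc : ⁅q, c⁆ = 1 := by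
      have hz1 := k.q c hc
      have e4 : y * c * y⁻¹ = ⁅y, c⁆ * c := conj_eq y c
      have e5 : (q * x) * (⁅y, c⁆ * c) = (⁅y, c⁆ * c) * (q * x) := by
        rw [← e1, ← e4]
        calc y * x * y⁻¹ * (y * c * y⁻¹) = y * (x * c) * y⁻¹ := by group
          _ = y * (c * x) * y⁻¹ := by rw [hxc]
          _ = _ := by group
      have hqx : (q * x) * ⁅y, c⁆ = ⁅y, c⁆ * (q * x) :=
        central e hr hz1 (mul_mem (le_PPm r hx) hxP)
      rw [comm_one_iff]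
      have e6 : ⁅y, c⁆ * (q * c * x) = ⁅y, c⁆ * (c * q * x) := by
        calc ⁅y, c⁆ * (q * c * x) = ⁅y, c⁆ * (q * (x * c)) := by rw [hxc]; group
          _ = (⁅y, c⁆ * (q * x)) * c := by group
          _ = (q * x) * (⁅y, c⁆ * c) := by rw [← hqx]; group
          _ = _ := by rw [e5]; group
      exact mul_right_cancel (mul_left_cancel e6)
    have h2 : ⁅y, c⁆ = ⁅q, c * b⁆ := by
      calc ⁅y, c⁆ = y * c * y⁻¹ * c⁻¹ := by simp only [commutatorElement_def]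
        _ = q * (c * b) * q⁻¹ * b⁻¹ * c⁻¹ := by rw [e3]
        _ = _ := by simp only [commutatorElement_def]; group
    rw [h2, cmr, hqc, one_mul, conj_fix (zc _ (comm_QQ e hr hx hb) c hc)]
  obtain ⟨d, hd, hdc⟩ := hf.lin1 (fun c => ⁅y, c⁆) (fun c hc => k.q c (le_QQ1 r hc))
    (fun c hc c' hc' => hadd c (le_QQ1 r hc) c' (le_QQ1 r hc')) (by
      intro a ha
      obtain ⟨g, hg, hgb⟩ := comp4 e hr (k.l a ha)
      refine ⟨g, hg, fun b hb => ?_⟩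
      rw [← hgb b hb]
      have hc := rl2 e hr ha hb
      exact key a b _ (le_PPl r ha) (k.l a ha) (le_QQ2 r hb) (le_QQ1 r hc) rfl (hy2 b hb) (rl1 e hr ha hc))
  obtain ⟨d', hd', hdc'⟩ := hf.lin5 (fun c => ⁅y, c⁆) (fun c hc => k.q c (le_QQ5 r hc))
    (fun c hc c' hc' => hadd c (le_QQ5 r hc) c' (le_QQ5 r hc')) (by
      intro a ha
      obtain ⟨g, hg, hgb⟩ := comp2 e hr (k.r a ha)
      refine ⟨g, hg, fun b hb => ?_⟩
      rw [← hgb b hb]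
      have hc := comm_inv_mem (rr4 e hr hb ha)
      exact key a b _ (le_PPr r ha) (k.r a ha) (le_QQ4 r hb) (le_QQ5 r hc) rfl (hy4 b hb) (rr5 e hr hc ha).symm)
  -- the corrected element
  set y₂ := d'⁻¹ * (d⁻¹ * y) with hy₂
  have kd : IsK t X r d⁻¹ := IsK.of_QQ e hr (inv_mem (le_QQ5 r hd))
  have kd' : IsK t X r d'⁻¹ := IsK.of_QQ e hr (inv_mem (le_QQ1 r hd'))
  have k₂ : IsK t X r y₂ := kd'.mul (kd.mul k)
  have hinv' : ∀ q ∈ QQ X r, ∀ a ∈ QQ X r, ⁅q⁻¹, a⁆ = ⁅q, a⁆⁻¹ := by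
    intro q hq a ha
    have : ⁅q⁻¹, a⁆ = q⁻¹ * ⁅q, a⁆⁻¹ * q⁻¹⁻¹ := by simp only [commutatorElement_def]; group
    rw [this]
    exact conj_fix (zc _ (inv_mem (comm_QQ e hr hq ha)) _ (inv_mem hq))
  have hform : ∀ a ∈ QQ X r, ⁅y₂, a⁆ = ⁅y, a⁆ * ⁅d, a⁆⁻¹ * ⁅d', a⁆⁻¹ := by
    intro a ha
    rw [hy₂, cml d'⁻¹, conj_fix (kd'.z _ ((kd.mul k).q a ha)), cml d⁻¹, conj_fix (kd.z _ (k.q a ha)),
      hinv' d (le_QQ5 r hd) a ha, hinv' d' (le_QQ1 r hd') a ha]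
  have hy₂Q : ∀ a ∈ QQ X r, a * y₂ = y₂ * a := by
    have h : QQ X r ≤ Subgroup.centralizer {y₂} := by
      have g : ∀ s, (∀ a ∈ X s, ⁅y₂, a⁆ = 1) → X s ≤ Subgroup.centralizer {y₂} := by
        intro s h a ha
        rw [Subgroup.mem_centralizer_singleton_iff]
        exact (comm_one_iff.1 (h a ha)).symm
      refine QQ_le (g _ ?_) (g _ ?_) (g _ ?_) (g _ ?_) (g _ ?_)
      · intro a ha
        have h1 : ⁅y, a⁆ = ⁅d, a⁆ := hdc a ha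
        rw [hform a (le_QQ1 r ha), h1, mul_inv_cancel, one_mul, comm_one_iff.2 (ab e hd' ha), inv_one]
      · intro a ha
        rw [hform a (le_QQ2 r ha), hy2 a ha, comm_one_iff.2 (r25 e hr ha hd).symm, comm_one_iff.2 (r12 e hr hd' ha),
          inv_one, mul_one, mul_one]
      · intro a ha
        rw [hform a (le_QQ3 r ha), comm_one_iff.2 (k.z a ha), comm_one_iff.2 (rz5 e hr ha hd).symm,
          comm_one_iff.2 (r1z e hr hd' ha), inv_one, mul_one, mul_one]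
      · intro a ha
        rw [hform a (le_QQ4 r ha), hy4 a ha, comm_one_iff.2 (r45 e hr ha hd).symm, comm_one_iff.2 (r14 e hr hd' ha),
          inv_one, mul_one, mul_one]
      · intro a ha
        have h1 : ⁅y, a⁆ = ⁅d', a⁆ := hdc' a ha
        rw [hform a (le_QQ5 r ha), h1, comm_one_iff.2 (ab e hd ha), inv_one, mul_one, mul_inv_cancel]
    intro a ha
    have := h ha
    rwa [Subgroup.mem_centralizer_singleton_iff] at this
  have ht₂ : ⁅t, y₂⁆ = ⁅t, y₀⁆ := by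
    have a1 : ⁅t, d'⁻¹⁆ = 1 := comm_one_iff.2 (t_QQ e (inv_mem (le_QQ1 r hd'))).symm
    have a2 : ⁅t, d⁻¹⁆ = 1 := comm_one_iff.2 (t_QQ e (inv_mem (le_QQ5 r hd))).symm
    rw [hy₂, kd'.tmul (kd.mul k).t, a1, one_mul, kd.tmul k.t, a2, one_mul, hty]
  -- `⁅y₂, x⁆ ∈ Z` for `x ∈ X (r ± 3)`
  have hZx : ∀ x ∈ PP X r, ⁅y₂, x⁆ ∈ QQ X r → ⁅y₂, x⁆ ∈ X r := by
    intro x hx hq
    set q := ⁅y₂, x⁆ with hqdef
    have e1 : y₂ * x * y₂⁻¹ = q * x := conj_eq y₂ x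
    have hcen : ∀ a ∈ QQ X r, q * a = a * q := by
      intro a ha
      have ha' := (PP_le_NN e hr hx).2 a ha
      have e2 : y₂ * (x⁻¹ * a * x) * y₂⁻¹ = x⁻¹ * a * x := conj_fix (hy₂Q _ ha').symm
      have e3 : y₂ * a * y₂⁻¹ = a := conj_fix (hy₂Q _ ha).symm
      have e4 : q * a * q⁻¹ = a := by
        calc q * a * q⁻¹ = (q * x) * (x⁻¹ * a * x) * (q * x)⁻¹ := by group
          _ = (y₂ * x * y₂⁻¹) * (y₂ * (x⁻¹ * a * x) * y₂⁻¹) * (y₂ * x * y₂⁻¹)⁻¹ := by rw [e1, e2]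
          _ = y₂ * a * y₂⁻¹ := by group
          _ = a := e3
      exact mul_inv_eq_iff_eq_mul.1 e4
    rcases e.cQ1' r hr q (t_QQ e hq) hcen with h0 | h0
    · exact h0
    · exfalso
      have h2 := mul_mem (le_QQ3 r h0) (inv_mem hq)
      rw [mul_inv_cancel_right] at h2
      have h3 : QQ X r ≤ ⨆ r, X r := QQ_le (le_iSup X _) (le_iSup X _) (le_iSup X _) (le_iSup X _) (le_iSup X _)
      exact e.tnot (h3 h2)
  -- the element `c = h y₂ h⁻¹ y₂⁻¹`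
  set c := h * y₂ * h⁻¹ * y₂⁻¹ with hcdef
  have hcQ : ∀ a ∈ QQ X r, c * a = a * c := by
    intro a ha
    have ha' : h⁻¹ * a * h ∈ QQ X r := by
      have := T_QQ e (inv_mem hh) ha
      rwa [inv_inv] at this
    have e1 : y₂⁻¹ * a = a * y₂⁻¹ := by
      have := hy₂Q a ha
      calc y₂⁻¹ * a = y₂⁻¹ * (a * y₂) * y₂⁻¹ := by group
        _ = _ := by rw [this]; group
    have e2 := hy₂Q _ ha'
    calc c * a = h * y₂ * h⁻¹ * (y₂⁻¹ * a) := by rw [hcdef]; group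
      _ = h * (y₂ * (h⁻¹ * a * h)) * h⁻¹ * y₂⁻¹ := by rw [e1]; group
      _ = _ := by rw [← e2, hcdef]; group
  have hct : c * t = t * c := by
    have e1 : ⁅t, h * y₂ * h⁻¹⁆ = ⁅t, y₂⁆ := by
      have h1 : h * t * h⁻¹ = t := conj_fix (e.tT _ hh)
      have h2 : ⁅t, h * y₂ * h⁻¹⁆ = h * ⁅t, y₂⁆ * h⁻¹ := by rw [comm_conj, h1]
      rw [h2]
      exact hcz _ k₂.t
    have e2 : t * (h * y₂ * h⁻¹) * t⁻¹ = ⁅t, y₂⁆ * (h * y₂ * h⁻¹) := by rw [conj_eq, e1]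
    have e3 : t * y₂ * t⁻¹ = ⁅t, y₂⁆ * y₂ := conj_eq t y₂
    have e4 : t * c * t⁻¹ = c := by
      calc t * c * t⁻¹ = (t * (h * y₂ * h⁻¹) * t⁻¹) * (t * y₂ * t⁻¹)⁻¹ := by rw [hcdef]; group
        _ = ⁅t, y₂⁆ * c * ⁅t, y₂⁆⁻¹ := by rw [e2, e3, hcdef]; group
        _ = c := conj_fix (hcQ _ (le_QQ3 r k₂.t)).symm
    exact (mul_inv_eq_iff_eq_mul.1 e4).symm
  have hcP : ∀ x ∈ PP X r, ⁅c, x⁆ = 1 := by
    intro x hx
    rw [comm_one_iff]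
    rcases e.cQ1' r hr c hct hcQ with h0 | h0
    · exact (central e hr h0 hx).symm
    · have e1 := central e hr h0 hx
      have e2 := t_PP e hx
      have e3 : t * (c * x) = t * (x * c) := by
        calc t * (c * x) = (t * c) * x := by group
          _ = x * (t * c) := e1.symm
          _ = (x * t) * c := by group
          _ = _ := by rw [e2]; group
      exact mul_left_cancel e3
  have hlast : ∀ s, ¬ Ev s → X s ≤ PP X r → (∀ x ∈ X s, ⁅y₂, x⁆ ∈ X r) → ∀ x ∈ X s, ⁅y₂, x⁆ = 1 := by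
    intro s hs hsP hsZ x hx
    obtain ⟨a, ha, rfl⟩ := fpf_surj e hh (hfo s hs) hx
    have ha' := hsP ha
    have h2 := e.TX h hh s a ha
    have e1 : ⁅y₂, h * a * h⁻¹⁆ = ⁅y₂, a⁆ := by
      have e2 : ⁅c * y₂, h * a * h⁻¹⁆ = ⁅y₂, a⁆ := by
        have e3 : c * y₂ = h * y₂ * h⁻¹ := by rw [hcdef]; group
        rw [e3, ← comm_conj]
        exact hcz _ (hsZ a ha)
      rw [cml, hcP _ (hsP h2), mul_one, conj_fix (hcQ _ (le_QQ3 r (hsZ _ h2)))] at e2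
      exact e2
    have e4 : ⁅y₂, a⁻¹⁆ = ⁅y₂, a⁆⁻¹ := by
      have : ⁅y₂, a⁻¹⁆ = a⁻¹ * ⁅y₂, a⁆⁻¹ * a⁻¹⁻¹ := by simp only [commutatorElement_def]; group
      rw [this]
      exact conj_fix (central e hr (inv_mem (hsZ a ha)) (inv_mem ha'))
    rw [cmr, e4, e1, conj_fix (central e hr (hsZ a ha) (inv_mem ha')), inv_mul_cancel]
  refine ⟨y₂, ?_, ?_, ?_⟩
  · have h : PP X r ≤ Subgroup.centralizer {y₂} := by
      have g : ∀ s, (∀ a ∈ X s, ⁅y₂, a⁆ = 1) → X s ≤ Subgroup.centralizer {y₂} := by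
        intro s h a ha
        rw [Subgroup.mem_centralizer_singleton_iff]
        exact (comm_one_iff.1 (h a ha)).symm
      refine PP_le (g _ ?_) ?_ (g _ ?_)
      · exact hlast _ (od_sub_three r hr) (le_PPl r) (fun x hx => hZx x (le_PPl r hx) (k₂.l x hx))
      · intro a ha
        rw [Subgroup.mem_centralizer_singleton_iff]
        exact hy₂Q a ha
      · exact hlast _ (od_add_three r hr) (le_PPr r) (fun x hx => hZx x (le_PPr r hx) (k₂.r x hx))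
    intro p hp
    have := h hp
    rw [Subgroup.mem_centralizer_singleton_iff] at this
    exact this.symm
  · rw [ht₂]; exact k₀.t
  · rw [ht₂]; exact hne₀

end

end Cfsg.Agent.HexGrow.TwoMove
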